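import Cfsg.Agent.SPW.C0

/-!
# Standard subgroups of type `Sp_{2k}(2ⁿ)`, type IV: the unitriangular group
-/

set_option autoImplicit false
set_option linter.unusedSectionVars false
set_option linter.unusedVariables false

namespace Cfsg.Lib.SPW

open Subgroup Module Cfsg.Lib.Trans Cfsg.Lib.Gold Cfsg.Lib.Class.Form Cfsg.Lib.Class.FAut
open Cfsg.Lib.UM (tT tE VW RR Fx St QW Cf mp Semi fa Mp cx re Ot kk Mx)
open Cfsg.Lib.SPN
open Cfsg.Lib.SG2 (Uq Top)
open Cfsg.Lib.Comp (Tw)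
open Cfsg.Lib.Chev.SpAm (Ix Sp bv idx Fn FixI pl TM)
open scoped commutatorElement

section Model
variable {F M : Type*} [Field F] [Finite F] [AddCommGroup M] [Module F M] [FiniteDimensional F M]
  {B : M →ₗ[F] M →ₗ[F] F} {c c' : ℕ → M} {α : MulAut (sIsom B)} {Γ : M ≃+ M} {τ : F ≃+* F}
  {γ : (F ≃+* F) →* MulAut (sIsom B)} {g g' : sIsom B} {i j : ℕ}

theorem C0b.of (e : ∀ j, lin g (c j) - c j ∈ Lf F c j) (j : ℕ) {x : M} (hx : x ∈ Lf F c (j + 1)) :
    lin g x - x ∈ Lf F c j := by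
  induction hx using Submodule.span_induction with
  | mem x hx =>
    obtain ⟨l, hl, rfl⟩ := hx
    exact Lf_mono (Nat.le_of_lt_succ hl) (e l)
  | zero => simp
  | add x y _ _ hx hy => rw [map_add, add_sub_add_comm]; exact add_mem hx hy
  | smul a x _ hx => rw [map_smul, ← smul_sub]; exact Submodule.smul_mem _ a hx

theorem C0b.mem_U : g ∈ UU B c ↔ ∀ j, lin g (c j) - c j ∈ Lf F c j :=
  ⟨fun hg j => (hg j).2 _ (mem_Lf_of (Nat.lt_succ_self j)), fun e j =>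
    ⟨UM.mem_St_of fun x hx => by
      have := add_mem (C0b.of e j (Lf_mono (Nat.le_succ j) hx)) hx
      rwa [sub_add_cancel] at this, fun _ hx => C0b.of e j hx⟩⟩

theorem Ch.mem_U (k : Ch B c) (h : Mo B) : g ∈ UU B c ↔ ∀ j, lin g (c j) - c j ∈ Lf F c j :=
  C0b.mem_U

theorem Ch.mem_U' (k : Ch B c) (h : Mo B) :
    g ∈ UU B c ↔ ∀ j, j < kk F M → lin g (c j) - c j ∈ Lf F c j := by
  refine ⟨fun hg j _ => C0b.mem_U.1 hg j, fun e => ?_⟩
  -- the map is unitriangular on the first half, hence so is its inverse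
  have h1 : ∀ j, j < kk F M → ∀ x ∈ Lf F c (j + 1), lin g x - x ∈ Lf F c j := fun j hj x hx => by
    induction hx using Submodule.span_induction with
    | mem x hx =>
      obtain ⟨l, hl, rfl⟩ := hx
      exact Lf_mono (Nat.le_of_lt_succ hl) (e l (lt_of_le_of_lt (Nat.le_of_lt_succ hl) hj))
    | zero => simp
    | add x y _ _ hx hy => rw [map_add, add_sub_add_comm]; exact add_mem hx hy
    | smul a x _ hx => rw [map_smul, ← smul_sub]; exact Submodule.smul_mem _ a hx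
  have h2 : ∀ j, j < kk F M → lin g⁻¹ (c j) - c j ∈ Lf F c j := fun j hj => by
    have s : g ∈ St B (Lf F c (j + 1)) := UM.mem_St_of fun x hx => by
      have := add_mem (Lf_mono (Nat.le_succ j) (h1 j hj x hx)) hx
      rwa [sub_add_cancel] at this
    have := h1 j hj _ ((inv_mem s _).1 (mem_Lf_of (Nat.lt_succ_self j)))
    rw [lin_lin_inv] at this
    simpa using neg_mem this
  refine C0b.mem_U.2 fun j => ?_
  by_cases hj : j < kk F M
  · exact e j hj
  refine (k.mem_Lf h).2 fun i hi => ?_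
  rw [map_sub, lin_right, ← LinearMap.sub_apply, ← map_sub]
  exact h.swap ((k.mem_Lf h).1 (h2 i (by omega)) j (by omega))

theorem Ch.mem_Ui (k : Ch B c) (h : Mo B) : g ∈ Ui B c i ↔
    g ∈ UU B c ∧ ∀ j, 2 * kk F M ≤ i + j → lin g (c j) = c j := by
  rw [Ui, mem_inf, UM.mem_Fx_span]
  exact and_congr_right fun _ => ⟨fun e j hj => e _ ⟨j, show _ ≤ j by omega, rfl⟩, by
    rintro e _ ⟨j, hj, rfl⟩
    exact e j (by have : 2 * kk F M - i ≤ j := hj; omega)⟩

theorem Ch.Ui_zero (k : Ch B c) (h : Mo B) : Ui B c 0 = UU B c :=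
  Subgroup.ext fun _ => (k.mem_Ui h).trans
    (and_iff_left fun j hj => by rw [k.zero h (by omega), map_zero])

theorem Ch.Ui_fix (k : Ch B c) (h : Mo B) (hi : i < kk F M) (hg : g ∈ Ui B c i) (hj : j ≤ i) :
    lin g (c j) = c j := by
  obtain ⟨h1, h2⟩ := (k.mem_Ui h).1 hg
  refine sub_eq_zero.1 (k.eq_zero h fun l hl => ?_)
  by_cases e : l + j < 2 * kk F M
  · exact (k.mem_Lf h).1 (C0b.mem_U.1 h1 j) l e
  · rw [map_sub]
    nth_rw 1 [← h2 l (by omega)]
    rw [lin_isom, sub_self]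

theorem Ch.Ui_top (k : Ch B c) (h : Mo B) : Ui B c (kk F M) = ⊥ := by
  refine eq_bot_iff.2 fun g hg => mem_bot.2 (k.ext h fun j hj => ?_)
  obtain ⟨h1, h2⟩ := (k.mem_Ui h).1 hg
  rw [lin_one]
  refine sub_eq_zero.1 (k.eq_zero h fun l hl => ?_)
  by_cases e : kk F M ≤ j
  · rw [h2 j (by omega), sub_self, map_zero]
  by_cases e' : l + j < 2 * kk F M
  · exact (k.mem_Lf h).1 (C0b.mem_U.1 h1 j) l e'
  · rw [map_sub]
    nth_rw 1 [← h2 l (by omega)]
    rw [lin_isom, sub_self]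

theorem Ch.ee_mem (k : Ch B c) (h : Mo B) (hi : i < kk F M) {x : M} (hx : x ∈ Nf F c i) (a : F) :
    B (c i) x = 0 ∧ ee B (c i) x a ∈ Ui B c i := by
  have h0 := (k.mem_Nf h).1 hx
  have h1 : B (c i) x = 0 := h0 i (by omega) (Or.inl le_rfl)
  refine ⟨h1, (k.mem_Ui h).2 ⟨(k.mem_U' h).2 fun j hj => ?_, fun j hj => ?_⟩⟩
  · rw [h.lin_ee h1, C0.zero k (by omega), zero_smul, add_zero, mul_zero, add_zero,
      add_sub_cancel_left]
    by_cases e : i < j
    · exact Submodule.smul_mem _ _ (mem_Lf_of e)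
    · rw [h.swap (h0 j (by omega) (Or.inl (by omega))), zero_smul]; exact zero_mem _
  · by_cases e : j < 2 * kk F M
    · rw [h.lin_ee h1, C0.zero k (by omega), h.swap (h0 j e (Or.inr (by omega)))]; simp
    · rw [k.zero h (not_lt.1 e), map_zero]

theorem Ch.tT_mem (k : Ch B c) (h : Mo B) (hi : i < kk F M) (a : F) : tT B (c i) a ∈ UU B c :=
  h.ee_zero' (c i) a ▸ (k.ee_mem h hi (zero_mem _) a).2.1

theorem Ch.tE_mem (k : Ch B c) (h : Mo B) (e : i < j) (e' : i + j + 1 < 2 * kk F M) (a : F) :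
    tE B (c i) (a • c j) ∈ UU B c :=
  h.ee_zero (c i) (a • c j) ▸ (k.ee_mem h (by omega) (Submodule.smul_mem _ a
    (Submodule.subset_span ⟨j, ⟨e, by omega⟩, rfl⟩)) 0).2.1

theorem Ch.QW_le (k : Ch B c) (h : Mo B) (hj : j ≤ kk F M) : QW B (Lf F c j) ≤ UU B c :=
  fun g hg => (k.mem_U' h).2 fun l hl => by
    by_cases e : l < j
    · rw [hg.1 _ (mem_Lf_of e), sub_self]; exact zero_mem _
    · exact Lf_mono (not_lt.1 e) (hg.2 _ ((k.orth_Lf h (i := j) (j := 2 * kk F M - j)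
        (by omega)).ge (mem_Lf_of (by omega))))

theorem Ch.V_le (k : Ch B c) (h : Mo B) : VW B (Lf F c (kk F M)) ≤ UU B c :=
  (h.VW_le_QW (k.ti h le_rfl)).trans (k.QW_le h le_rfl)

theorem Ch.Q_le (k : Ch B c) (h : Mo B) : Qu B (c 0) ≤ UU B c := by
  have := h.three_le
  rw [Qu, ← Lf_one]
  exact k.QW_le h (by omega)

theorem Ch.U_le (k : Ch B c) (h : Mo B) : UU B c ≤ Pu B (c 0) := fun g hg => by
  have := C0b.mem_U.1 hg 0
  rw [Lf_zero, Submodule.mem_bot, sub_eq_zero] at this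
  exact UM.mem_Fx1.2 this

theorem C0b.lin_Lf (g : sIsom B) (j : ℕ) (x : M) :
    x ∈ Lf F c j ↔ lin g x ∈ Lf F (fun j => lin g (c j)) j := by
  rw [UM.cj_span _ g, Set.image_image]

theorem UU_lin (g : sIsom B) : UU B (fun j => lin g (c j)) = cj g (UU B c) := by
  ext u
  rw [mem_cj, C0b.mem_U, C0b.mem_U]
  refine forall_congr' fun j => ?_
  rw [C0b.lin_Lf (c := c) g, map_sub, lin_mul, lin_mul, lin_lin_inv]

theorem Ch.UU_eq (k : Ch B c) (h : Mo B) (hg : g ∈ UU B c) :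
    (∀ j, Lf F (fun j => lin g (c j)) j = Lf F c j) ∧ UU B (fun j => lin g (c j)) = UU B c :=
  ⟨fun j => Submodule.ext fun x => by
    obtain ⟨y, rfl⟩ := (lin g).surjective x
    exact (C0b.lin_Lf g j y).symm.trans ((hg j).1 y), by rw [UU_lin, cj_eq_of_mem hg]⟩

theorem C0b.co (k : Sc B c α Γ τ) (i : ℕ) (x : M) : B (c i) (Γ x) = τ (B (c i) x) := by
  rw [← k.semi.form, k.fix]

theorem Sc.fix_iff (k : Sc B c α Γ τ) (h : Mo B) {x : M} :
    Γ x = x ↔ ∀ i, τ (B (c i) x) = B (c i) x :=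
  ⟨fun e i => by rw [← C0b.co k, e], fun e => sub_eq_zero.1 (k.ch.eq_zero h fun i _ => by
    rw [map_sub, C0b.co k, e, sub_self])⟩

theorem C0b.act (k : Sc B c α Γ τ) (g : sIsom B) (j : ℕ) : lin (α g) (c j) = Γ (lin g (c j)) := by
  rw [← k.semi.conj, k.fix]

theorem Sc.mem_Cf (k : Sc B c α Γ τ) (h : Mo B) :
    g ∈ Cf α ↔ ∀ i j, τ (B (c i) (lin g (c j))) = B (c i) (lin g (c j)) := by
  rw [UM.mem_Cf]
  exact ⟨fun e i j => (k.fix_iff h).1 (by rw [← C0b.act k, e]) i,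
    fun e => k.ch.ext h fun j _ => by rw [C0b.act k, (k.fix_iff h).2 fun i => e i j]⟩

theorem Sc.mem_Lf (k : Sc B c α Γ τ) {x : M} : Γ x ∈ Lf F c j ↔ x ∈ Lf F c j := by
  rw [k.semi.span _ x, Set.image_image]
  simp only [k.fix]

theorem Sc.mp_U (k : Sc B c α Γ τ) (h : Mo B) : mp α (UU B c) = UU B c :=
  UM.A1.mp_eq fun g => by
    rw [C0b.mem_U, C0b.mem_U]
    refine forall_congr' fun j => ?_
    rw [← k.mem_Lf, map_sub, k.fix, C0b.act k]

theorem Sc.aT (k : Sc B c α Γ τ) (h : Mo B) (i : ℕ) (a : F) :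
    α (tT B (c i) a) = tT B (c i) (τ a) := by
  rw [h.semi_tT k.semi, k.fix]

theorem Sc.aE (k : Sc B c α Γ τ) (h : Mo B) (e : i + j + 1 ≠ 2 * kk F M) (a : F) :
    α (tE B (c i) (a • c j)) = tE B (c i) (τ a • c j) := by
  rw [h.semi_tE k.semi (by rw [map_smul, C0.zero k.ch e, smul_zero]), k.semi.smul, k.fix, k.fix]

end Model

end Cfsg.Lib.SPW
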