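import Cfsg.Agent.SPW.Api
import Cfsg.Agent.SPW.C0
import Cfsg.Agent.SPW.C0b

/-!
# The unitriangular group of a chain: decomposition and generation
-/

set_option autoImplicit false
set_option linter.unusedSectionVars false

namespace Cfsg.Lib.SPW

open Subgroup Module Cfsg.Lib.Trans Cfsg.Lib.Gold Cfsg.Lib.Class.Form Cfsg.Lib.Class.FAut
open Cfsg.Lib.UM (tT tE VW RR Fx St QW Cf mp Semi fa Mp cx re Ot kk Mx)
open Cfsg.Lib.SPN
open Cfsg.Lib.SG2 (Uq Top)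
open Cfsg.Lib.Comp (Tw)
open Cfsg.Lib.Chev.SpAm (Ix Sp bv idx Fn FixI pl TM)
open scoped commutatorElement

section Model
variable {F M : Type*} [Field F] [Finite F] [AddCommGroup M] [Module F M] [FiniteDimensional F M]
  {B : M →ₗ[F] M →ₗ[F] F} {c c' : ℕ → M} {α : MulAut (sIsom B)} {Γ : M ≃+ M} {τ : F ≃+* F}
  {γ : (F ≃+* F) →* MulAut (sIsom B)} {g g' : sIsom B} {i j : ℕ}

namespace C1

theorem one (k : Ch B c) (e : i + j + 1 = 2 * kk F M) : B (c i) (c j) = 1 := by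
  rw [k, if_pos e]

theorem zero (k : Ch B c) (e : i + j + 1 ≠ 2 * kk F M) : B (c i) (c j) = 0 := by
  rw [k, if_neg e]

theorem act (k : Ch B c) (h : Mo B) (e : i + j + 1 = 2 * kk F M) {x : M} (hx : B (c i) x = 0)
    (a : F) : lin (ee B (c i) x a) (c j) = c j + (x + (B x (c j) + a) • c i) := by
  rw [h.lin_ee hx, one k e, one_smul, mul_one, add_assoc]

end C1

theorem Sc.dec (k : Sc B c α Γ τ) (h : Mo B) (hi : i < kk F M) (hg : g ∈ Ui B c i ⊓ Cf α) :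
    ∃ x ∈ Nf F c i, ∃ a : F, Γ x = x ∧ τ a = a ∧ (ee B (c i) x a)⁻¹ * g ∈ Ui B c (i + 1) := by
  obtain ⟨hU, hf⟩ := (k.ch.mem_Ui h).1 hg.1
  obtain ⟨m, hm⟩ : ∃ m, i + m + 1 = 2 * kk F M := ⟨2 * kk F M - 1 - i, by omega⟩
  obtain ⟨y, hy⟩ : ∃ y, y = lin g (c m) - c m := ⟨_, rfl⟩
  have y1 : ∀ l, l + m < 2 * kk F M → B (c l) y = 0 :=
    (k.ch.mem_Lf h).1 (hy ▸ (k.ch.mem_U h).1 hU m)
  have y2 : ∀ l, 2 * kk F M ≤ i + l → B (c l) y = 0 := fun l hl => by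
    rw [hy, map_sub, ← hf l hl, lin_isom, hf l hl, sub_self]
  have y3 : Γ y = y := by
    rw [hy, map_sub, ← k.semi.conj, UM.mem_Cf.1 hg.2, k.fix]
  have a1 : τ (B (c m) y) = B (c m) y := by rw [← k.semi.form, y3, k.fix]
  have xm : B (c m) (y - B (c m) y • c i) = 0 := by
    rw [map_sub, map_smul, C1.one k.ch (by omega), smul_eq_mul, mul_one, sub_self]
  have hx : y - B (c m) y • c i ∈ Nf F c i := by
    refine (k.ch.mem_Nf h).2 fun j _ hj => ?_
    by_cases e : j = m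
    · rw [e, xm]
    · rw [map_sub, map_smul, C1.zero k.ch (by omega), smul_zero, sub_zero]
      rcases hj with hj | hj
      · exact y1 j (by omega)
      · exact y2 j (by omega)
  obtain ⟨x0, he⟩ := k.ch.ee_mem h hi hx (B (c m) y)
  obtain ⟨eU, ef⟩ := (k.ch.mem_Ui h).1 he
  refine ⟨_, hx, B (c m) y, by rw [map_sub, k.semi.smul, y3, a1, k.fix], a1,
    (k.ch.mem_Ui h).2 ⟨mul_mem (inv_mem eU) hU, fun j hj => ?_⟩⟩
  suffices e : lin g (c j) = lin (ee B (c i) (y - B (c m) y • c i) (B (c m) y)) (c j) by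
    rw [lin_mul, e, lin_inv_lin]
  by_cases e : j = m
  · rw [e, C1.act k.ch h hm x0, h.swap xm, zero_add, sub_add_cancel, hy, add_sub_cancel]
  · rw [hf j (by omega), ef j (by omega)]

theorem Ch.dec_uniq (k : Ch B c) (h : Mo B) (hi : i < kk F M) {x : M} (hx : x ∈ Nf F c i) {a : F}
    (e : ee B (c i) x a ∈ Ui B c (i + 1)) : x = 0 ∧ a = 0 := by
  obtain ⟨m, hm⟩ : ∃ m, i + m + 1 = 2 * kk F M := ⟨2 * kk F M - 1 - i, by omega⟩
  have xm : B (c m) x = 0 := (k.mem_Nf h).1 hx m (by omega) (by omega)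
  have e1 := ((k.mem_Ui h).1 e).2 m (by omega)
  rw [C1.act k h hm (k.ee_mem h hi hx a).1, h.swap xm, zero_add, add_eq_left] at e1
  have e2 := congrArg (B (c m)) e1
  rw [map_add, map_smul, xm, C1.one k (by omega), zero_add, smul_eq_mul, mul_one, map_zero] at e2
  rw [e2, zero_smul, add_zero] at e1
  exact ⟨e1, e2⟩

theorem Sc.ee_mem (k : Sc B c α Γ τ) (h : Mo B) {u x : M} {a : F} (e : B u x = 0) (hu : Γ u = u)
    (hx : Γ x = x) (ha : τ a = a) : ee B u x a ∈ Cf α :=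
  UM.mem_Cf.2 (by rw [h.semi_ee k.semi e, hu, hx, ha])

theorem C1.ee_mem (k : Sc B c α Γ τ) (h : Mo B) {S : Subgroup (sIsom B)}
    (h1 : ∀ a, τ a = a → tT B (c i) a ∈ S)
    (h2 : ∀ j, i < j → i + j + 1 < 2 * kk F M → ∀ a, τ a = a → tE B (c i) (a • c j) ∈ S)
    {x : M} (hx : x ∈ Nf F c i) (fx : Γ x = x) {a : F} (ha : τ a = a) : ee B (c i) x a ∈ S := by
  have z : B (c i) (0 : M) = 0 ∧ Γ (0 : M) = 0 ∧ ∀ a, τ a = a → ee B (c i) 0 a ∈ S :=
    ⟨map_zero _, map_zero _, fun a ha => h.ee_zero' (c i) a ▸ h1 a ha⟩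
  have key := Finset.sum_induction (s := Finset.range (2 * kk F M))
    (fun j => B (c (2 * kk F M - 1 - j)) x • c j)
    (fun y => B (c i) y = 0 ∧ Γ y = y ∧ ∀ a, τ a = a → ee B (c i) y a ∈ S) ?_ z ?_
  · rw [← k.ch.expand h x] at key
    exact key.2.2 a ha
  · rintro y y' ⟨p1, p2, p3⟩ ⟨q1, q2, q3⟩
    refine ⟨by rw [map_add, p1, q1, add_zero], by rw [map_add, p2, q2], fun a ha => ?_⟩
    have := mul_mem (p3 0 (map_zero _)) (q3 (a + B y y')
      (by rw [map_add, ha, ← k.semi.form, p2, q2]))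
    rwa [h.ee_mul p1 q1, zero_add, add_assoc, h.add_self, add_zero] at this
  · intro j hj
    rw [Finset.mem_range] at hj
    by_cases e : i < j ∧ i + j + 1 < 2 * kk F M
    · have b := (k.fix_iff h).1 fx (2 * kk F M - 1 - j)
      refine ⟨by rw [map_smul, C1.zero k.ch e.2.ne, smul_zero], by rw [k.semi.smul, b, k.fix],
        fun a ha => mul_mem (h2 j e.1 e.2 _ b) (h1 a ha)⟩
    · rw [(k.ch.mem_Nf h).1 hx (2 * kk F M - 1 - j) (by omega) (by omega), zero_smul]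
      exact z

theorem Sc.gen (k : Sc B c α Γ τ) (h : Mo B) {S : Subgroup (sIsom B)}
    (h1 : ∀ i, i < kk F M → ∀ a, τ a = a → tT B (c i) a ∈ S)
    (h2 : ∀ i j, i < j → i + j + 1 < 2 * kk F M → ∀ a, τ a = a → tE B (c i) (a • c j) ∈ S) :
    UU B c ⊓ Cf α ≤ S := by
  have key : ∀ d i, i + d = kk F M → Ui B c i ⊓ Cf α ≤ S := by
    intro d
    induction d with
    | zero =>
      intro i e
      rw [show i = kk F M from e, k.ch.Ui_top h, bot_inf_eq]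
      exact bot_le
    | succ d ih =>
      intro i e g hg
      have hi : i < kk F M := by omega
      obtain ⟨x, hx, a, fx, ha, hm⟩ := k.dec h hi hg
      have e1 := C1.ee_mem k h (h1 i hi) (h2 i) hx fx ha
      have e2 := ih (i + 1) (by omega) (mem_inf.2 ⟨hm, mul_mem (inv_mem
        (k.ee_mem h (k.ch.ee_mem h hi hx a).1 (k.fix i) fx ha)) (mem_inf.1 hg).2⟩)
      simpa using mul_mem e1 e2
  rw [← k.ch.Ui_zero h]
  exact key _ 0 (zero_add _)

theorem Ch.Q_dec (k : Ch B c) (h : Mo B) (hg : g ∈ UU B c) :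
    ∃ q ∈ Qu B (c 0), q⁻¹ * g ∈ Ui B c 1 := by
  have hi : 0 < kk F M := by have := h.three_le; omega
  obtain ⟨x, hx, a, -, -, hm⟩ := k.sc1.dec h hi
    (show g ∈ _ from ⟨(k.Ui_zero h).ge hg, Cf_one.ge (mem_top g)⟩)
  exact ⟨_, h.ee_mem_Q (k.ee_mem h hi hx a).1 a, hm⟩

theorem Ch.Q_inf (k : Ch B c) (h : Mo B) : Qu B (c 0) ⊓ Ui B c 1 = ⊥ := by
  have hi := h.three_le
  refine eq_bot_iff.2 fun g hg => ?_
  have u0 : c 0 ≠ 0 := k.ne (by omega)
  obtain ⟨x, a, hx, rfl⟩ := (h.mem_Q u0).1 hg.1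
  obtain ⟨m, hm⟩ : ∃ m, 0 + m + 1 = 2 * kk F M := ⟨2 * kk F M - 1, by omega⟩
  have e1 := ((k.mem_Ui h).1 hg.2).2 m (by omega)
  rw [C1.act k h hm hx, add_eq_left] at e1
  have e2 := congrArg (B (c m)) e1
  rw [map_add, map_smul, C1.one k (by omega), smul_eq_mul, mul_one, map_zero, h.symm x,
    ← add_assoc, h.add_self, zero_add] at e2
  refine mem_bot.2 ((h.ee_eq_one u0 hx).2 ⟨?_, e2⟩)
  rw [eq_neg_of_add_eq_zero_left e1]
  exact neg_mem (Submodule.smul_mem _ _ (Submodule.mem_span_singleton_self _))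

end Model

end Cfsg.Lib.SPW
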