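import Cfsg.Agent.SPW.Api
import Cfsg.Agent.SPW.C0
import Cfsg.Agent.SPW.C0b

/-!
# Standard subgroups of type `Sp_{2k}(2ⁿ)`, type IV: fixed chains
-/

set_option autoImplicit false
set_option linter.unusedSectionVars false

namespace Cfsg.Lib.SPW

open Subgroup Module Cfsg.Lib.Trans Cfsg.Lib.Gold Cfsg.Lib.Class.Form Cfsg.Lib.Class.FAut
open Cfsg.Lib.UM (tT tE VW RR Fx St QW Cf mp Semi fa Mp cx re Ot kk Mx)
open Cfsg.Lib.SPN
open Cfsg.Lib.SG2 (Uq Top)
open Cfsg.Lib.Comp (Tw)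
open Cfsg.Lib.Chev.SpAm (Ix Sp bv idx Fn FixI pl TM)
open scoped commutatorElement

variable {F M : Type*} [Field F] [Finite F] [AddCommGroup M] [Module F M] [FiniteDimensional F M]
  {B : M →ₗ[F] M →ₗ[F] F} {c c' : ℕ → M} {α : MulAut (sIsom B)} {Γ : M ≃+ M} {τ : F ≃+* F}
  {γ : (F ≃+* F) →* MulAut (sIsom B)} {g g' : sIsom B} {i j : ℕ}

namespace C7

/-- A partial symplectic frame. -/
def Pf (B : M →ₗ[F] M →ₗ[F] F) (e f : ℕ → M) (i : ℕ) : Prop := ∀ a < i, ∀ b < i,
  B (e a) (e b) = 0 ∧ B (f a) (f b) = 0 ∧ B (e a) (f b) = if a = b then 1 else 0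

theorem nd (h : Mo B) {e f : ℕ → M} (k : Pf B e f i) (hi : i < kk F M) :
    ∃ y y', (∀ x ∈ e '' Set.Iio i ∪ f '' Set.Iio i, B x y = 0) ∧
      (∀ x ∈ e '' Set.Iio i ∪ f '' Set.Iio i, B x y' = 0) ∧ B y' y ≠ 0 := by
  obtain ⟨y, hy, y0⟩ := K4.out h
    (Submodule.span F {x | x ∈ (List.range i).map e ++ (List.range i).map f}) ⊥ (by
      have := K4.rk (F := F) ((List.range i).map e ++ (List.range i).map f)
      have := h.rank_eq
      simp only [List.length_append, List.length_map, List.length_range, finrank_bot] at *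
      omega)
  rw [mem_orth_span] at hy
  have y1 : ∀ a < i, B (e a) y = 0 := fun a ha => hy _ (by simp; exact Or.inl ⟨a, ha, rfl⟩)
  have y2 : ∀ a < i, B (f a) y = 0 := fun a ha => hy _ (by simp; exact Or.inr ⟨a, ha, rfl⟩)
  obtain ⟨v, hv⟩ := h.exists_eq y0 1
  refine ⟨y, v + ∑ a ∈ Finset.range i, (B (f a) v • e a + B (e a) v • f a), ?_, ?_, ?_⟩
  · rintro _ (⟨a, ha, rfl⟩ | ⟨a, ha, rfl⟩)
    exacts [y1 a ha, y2 a ha]
  · rintro _ (⟨b, hb, rfl⟩ | ⟨b, hb, rfl⟩) <;> rw [map_add, map_sum,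
      Finset.sum_eq_single_of_mem b (Finset.mem_range.2 hb) fun a ha n => ?_]
    · simp [k b hb b hb, h.add_self]
    · simp [k b hb a (Finset.mem_range.1 ha), n.symm]
    · simp [k b hb b hb, h.symm (f b) (e b), h.add_self]
    · simp [k b hb a (Finset.mem_range.1 ha), h.symm (f b) (e a), k a (Finset.mem_range.1 ha) b hb, n]
  · rw [h.symm, map_add, map_sum, hv, Finset.sum_eq_zero fun a ha => by
      simp [h.swap (y1 a (Finset.mem_range.1 ha)), h.swap (y2 a (Finset.mem_range.1 ha))]]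
    simp

theorem chain (h : Mo B) {S : Set M} (h0 : (0 : M) ∈ S) (ext : ∀ s ⊆ S, ∀ y y', (∀ x ∈ s, B x y = 0) →
    (∀ x ∈ s, B x y' = 0) → B y' y ≠ 0 →
    ∃ e f, e ∈ S ∧ f ∈ S ∧ (∀ x ∈ s, B x e = 0) ∧ (∀ x ∈ s, B x f = 0) ∧ B e f = 1) :
    ∃ c, Ch B c ∧ ∀ j, c j ∈ S := by
  have key : ∀ i ≤ kk F M, ∃ e f : ℕ → M, (∀ j, e j ∈ S) ∧ (∀ j, f j ∈ S) ∧ Pf B e f i := by
    intro i hi
    induction i with
    | zero => exact ⟨0, 0, fun _ => h0, fun _ => h0, fun _ ha => absurd ha (Nat.not_lt_zero _)⟩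
    | succ i ih =>
      obtain ⟨e, f, e1, f1, k⟩ := ih (by omega)
      obtain ⟨y, y', y1, y2, y3⟩ := nd h k hi
      obtain ⟨e', f', e2, f2, e3, f3, k1⟩ := ext _ (by
        rintro _ (⟨a, -, rfl⟩ | ⟨a, -, rfl⟩)
        exacts [e1 a, f1 a]) y y' y1 y2 y3
      have a1 : ∀ a < i, B (e a) e' = 0 := fun a ha => e3 _ (Or.inl ⟨a, ha, rfl⟩)
      have a2 : ∀ a < i, B (f a) e' = 0 := fun a ha => e3 _ (Or.inr ⟨a, ha, rfl⟩)
      have a3 : ∀ a < i, B (e a) f' = 0 := fun a ha => f3 _ (Or.inl ⟨a, ha, rfl⟩)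
      have a4 : ∀ a < i, B (f a) f' = 0 := fun a ha => f3 _ (Or.inr ⟨a, ha, rfl⟩)
      refine ⟨fun j => if j = i then e' else e j, fun j => if j = i then f' else f j,
        fun j => by dsimp only; split_ifs; exacts [e2, e1 j],
        fun j => by dsimp only; split_ifs; exacts [f2, f1 j], fun a ha b hb => ?_⟩
      rcases (Nat.lt_succ_iff.1 ha).eq_or_lt with rfl | ha <;>
        rcases (Nat.lt_succ_iff.1 hb).eq_or_lt with rfl | hb
      · simp [h.alt, k1]
      · simp [hb.ne, hb.ne', h.swap (a1 b hb), h.swap (a2 b hb), h.swap (a4 b hb)]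
      · simp [ha.ne, a1 a ha, a3 a ha, a4 a ha]
      · simpa [ha.ne, hb.ne] using k a ha b hb
  obtain ⟨e, f, e1, f1, k⟩ := key _ le_rfl
  refine ⟨fun j => if j < kk F M then e j else if j < 2 * kk F M then f (2 * kk F M - 1 - j) else 0,
    fun a b => ?_, fun j => by dsimp only; split_ifs; exacts [e1 j, f1 _, h0]⟩
  dsimp only
  by_cases a1 : a < kk F M <;> by_cases b1 : b < kk F M <;> by_cases a2 : a < 2 * kk F M <;>
    by_cases b2 : b < 2 * kk F M <;>
    simp only [a1, a2, b1, b2, if_true, if_false, map_zero, LinearMap.zero_apply]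
  all_goals first
    | omega
    | rw [if_neg (by omega)]; done
    | rw [(k _ a1 _ b1).1, if_neg (by omega)]
    | (rw [(k _ a1 _ (by omega)).2.2]; exact if_congr (by omega) rfl rfl)
    | (rw [h.symm, (k _ b1 _ (by omega)).2.2]; exact if_congr (by omega) rfl rfl)
    | rw [(k _ (by omega) _ (by omega)).2.1, if_neg (by omega)]

theorem tr1 (τ : F ≃+* F) : ∃ a, ∑ r ∈ Finset.range (orderOf τ), (τ ^ r) a = 1 := by
  have := UM.DS.fin F
  obtain ⟨b, hb⟩ : ∃ b, ∑ r ∈ Finset.range (orderOf τ), (τ ^ r) b ≠ 0 := by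
    by_contra! c
    have li := (linearIndependent_monoidHom F F).comp
      (fun i : Fin (orderOf τ) => ((τ ^ (i : ℕ) : F ≃+* F) : F →* F)) fun i j e =>
        Fin.ext (pow_injOn_Iio_orderOf i.2 j.2 (RingEquiv.ext fun a => DFunLike.congr_fun e a))
    refine one_ne_zero (Fintype.linearIndependent_iff.1 li (fun _ => (1 : F)) (funext fun a => ?_)
      ⟨0, orderOf_pos τ⟩)
    have := c a
    rw [Finset.sum_range] at this
    simpa using this
  have e : τ (∑ r ∈ Finset.range (orderOf τ), (τ ^ r) b) = ∑ r ∈ Finset.range (orderOf τ), (τ ^ r) b := by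
    have := Finset.sum_range_succ' (fun i => (τ ^ i) b) (orderOf τ)
    rw [Finset.sum_range_succ, pow_orderOf_eq_one, pow_zero, add_left_inj] at this
    rw [map_sum, this]
    simp only [pow_succ', RingAut.mul_apply]
  have e' : ∀ n, (τ ^ n) (∑ r ∈ Finset.range (orderOf τ), (τ ^ r) b) =
      ∑ r ∈ Finset.range (orderOf τ), (τ ^ r) b := fun n => by
    induction n with
    | zero => rfl
    | succ n ih => rw [pow_succ, RingAut.mul_apply, e, ih]
  refine ⟨b / ∑ r ∈ Finset.range (orderOf τ), (τ ^ r) b, ?_⟩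
  simp only [map_div₀, e']
  rw [← Finset.sum_div, div_self hb]

theorem perp (k : Ch B c) (h : Mo B) {x y : M} (hx : x ∈ Lf F c i) (hy : y ∈ Lf F c j)
    (e : i + j ≤ 2 * kk F M) : B x y = 0 :=
  mem_orth_span.2 (by
    rintro _ ⟨a, ha, rfl⟩
    exact (k.mem_Lf h).1 hy a (by have := Set.mem_Iio.1 ha; omega)) x hx

theorem flag (k : Ch B c) (h : Mo B) {d : ℕ → M} (hd : ∀ j, d j - c j ∈ Lf F c j)
    (e : i + j + 1 ≤ 2 * kk F M) : B (d i) (d j) = B (c i) (c j) := by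
  have h1 := perp k h (hd i) (j := j + 1) (y := d j) (by
    simpa using add_mem (Lf_mono (Nat.le_succ j) (hd j)) (mem_Lf_of (Nat.lt_succ_self j))) e
  have h2 := perp k h (mem_Lf_of (Nat.lt_succ_self i)) (hd j) (by omega)
  rw [map_sub, LinearMap.sub_apply, sub_eq_zero] at h1
  rw [map_sub, sub_eq_zero] at h2
  rw [h1, h2]

theorem av (s : Semi α Γ τ) (e : ∀ x, Γ^[orderOf τ] x = x) (hf : ∀ j, Γ (c j) - c j ∈ Lf F c j)
    (j : ℕ) : ∃ d, Γ d = d ∧ d - c j ∈ Lf F c j ∧ (c j = 0 → d = 0) := by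
  obtain ⟨a, ha⟩ := tr1 τ
  have p : ∀ x ∈ Lf F c j, Γ x ∈ Lf F c j := fun x hx => by
    induction hx using Submodule.span_induction with
    | mem _ hx =>
      obtain ⟨i, hi, rfl⟩ := hx
      simpa using add_mem (Lf_mono (le_of_lt hi) (hf i)) (mem_Lf_of hi)
    | zero => simp
    | add _ _ _ _ h1 h2 => rw [map_add]; exact add_mem h1 h2
    | smul _ _ _ h1 => rw [s.smul]; exact Submodule.smul_mem _ _ h1
  have p2 : ∀ n, Γ^[n] (c j) - c j ∈ Lf F c j := fun n => by
    induction n with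
    | zero => simp
    | succ n ih => simpa [Function.iterate_succ_apply'] using add_mem (p _ ih) (hf j)
  have e1 : ∀ n, Γ^[n] (a • c j) = (τ ^ n) a • Γ^[n] (c j) := fun n => by
    induction n with
    | zero => rfl
    | succ n ih => rw [Function.iterate_succ_apply', Function.iterate_succ_apply', ih, s.smul,
        pow_succ', RingAut.mul_apply]
  refine ⟨∑ i ∈ Finset.range (orderOf τ), Γ^[i] (a • c j), ?_, ?_, fun z => ?_⟩
  · have := Finset.sum_range_succ' (fun i => Γ^[i] (a • c j)) (orderOf τ)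
    rw [Finset.sum_range_succ, e, Function.iterate_zero_apply, add_left_inj] at this
    rw [map_sum]
    simp only [← Function.iterate_succ_apply' Γ]
    exact this.symm
  · have : c j = ∑ i ∈ Finset.range (orderOf τ), (τ ^ i) a • c j := by
      rw [← Finset.sum_smul, ha, one_smul]
    conv => enter [2, 2]; rw [this]
    rw [← Finset.sum_sub_distrib]
    exact sum_mem fun n _ => by rw [e1, ← smul_sub]; exact Submodule.smul_mem _ _ (p2 n)
  · rw [z, smul_zero]
    exact Finset.sum_eq_zero fun n _ => Function.iterate_fixed (map_zero Γ) n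

theorem gs (k : Ch B c) (h : Mo B) (s : Semi α Γ τ) {d₀ : ℕ → M} (h1 : ∀ j, Γ (d₀ j) = d₀ j)
    (h2 : ∀ j, d₀ j - c j ∈ Lf F c j) (h3 : ∀ j, c j = 0 → d₀ j = 0) (hi : i ≤ kk F M) :
    ∃ d : ℕ → M, (∀ j, Γ (d j) = d j) ∧ (∀ j, d j - c j ∈ Lf F c j) ∧ ∀ a b, 2 * kk F M ≤ a + i →
      B (d a) (d b) = if a + b + 1 = 2 * kk F M then 1 else 0 := by
  induction i with
  | zero => exact ⟨d₀, h1, h2, fun a b e => by
      rw [h3 a (k.zero h e), if_neg (by omega), map_zero, LinearMap.zero_apply]⟩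
  | succ i ih =>
    obtain ⟨d, d1, d2, d3⟩ := ih (by omega)
    obtain ⟨m, hm⟩ : ∃ m, m + i + 1 = 2 * kk F M := ⟨2 * kk F M - 1 - i, by omega⟩
    refine ⟨fun b => if i < b then d b + B (d m) (d b) • d i else d b, fun b => ?_, fun b => ?_,
      fun a b e => ?_⟩ <;> dsimp only
    · split_ifs
      · rw [map_add, s.smul, ← s.form, d1, d1, d1]
      · exact d1 b
    · split_ifs with e
      · rw [add_sub_right_comm]
        refine add_mem (d2 b) (Submodule.smul_mem _ _ ?_)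
        simpa using add_mem (Lf_mono e.le (d2 i)) (mem_Lf_of e)
      · exact d2 b
    · rcases (show m = a ∨ 2 * kk F M ≤ a + i by omega) with rfl | e'
      · rw [if_pos (by omega), h.alt, zero_smul, add_zero]
        split_ifs with b1 b2 b2
        · omega
        · rw [map_add, map_smul, flag k h d2 hm.le, k, if_pos hm, smul_eq_mul, mul_one, h.add_self]
        · rw [flag k h d2 b2.le, k, if_pos b2]
        · rw [flag k h d2 (by omega), k, if_neg b2]
      · rw [if_pos (by omega), h.symm (d m), d3 a m e', if_neg (by omega), zero_smul, add_zero,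
          ← d3 a b e']
        split_ifs
        · rw [map_add, map_smul, d3 a i e', if_neg (by omega), smul_zero, add_zero]
        · rfl

end C7

theorem exists_ch (h : Mo B) : ∃ c, Ch B c :=
  (C7.chain h (S := Set.univ) trivial fun s _ y y' h1 h2 h3 => ⟨y', (B y' y)⁻¹ • y, trivial, trivial,
    h2, fun x hx => by simp [h1 x hx], by simp [h3]⟩).imp fun _ k => k.1

theorem fix_ch (h : Mo B) (k : Semi α Γ τ) (h1 : α * α = 1) (h2 : τ ≠ 1) : ∃ c, Sc B c α Γ τ :=
  (C7.chain h (S := {x | Γ x = x}) (map_zero Γ) fun _ hs _ _ a b c =>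
    J2.pair h k h1 h2 hs a b c).imp fun _ e => ⟨e.1, k, e.2⟩

theorem Ch.fix_flag (k : Ch B c) (h : Mo B) (s : Semi α Γ τ) (e : ∀ x, Γ^[orderOf τ] x = x)
    (hf : ∀ j, Γ (c j) - c j ∈ Lf F c j) :
    ∃ l ∈ UU B c, ∀ j, Γ (lin l (c j)) = lin l (c j) := by
  choose d₀ h1 h2 h3 using C7.av s e hf
  obtain ⟨d, d1, d2, d3⟩ := C7.gs k h s h1 h2 h3 le_rfl
  have k' : Ch B d := fun a b => by
    by_cases a1 : kk F M ≤ a
    · exact d3 a b (by omega)
    by_cases b1 : kk F M ≤ b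
    · rw [h.symm, d3 b a (by omega), add_comm b]
    · rw [C7.flag k h d2 (by omega), k]
  obtain ⟨l, hl⟩ := k.tr h k'
  exact ⟨l, (k.mem_U h).2 fun j => hl j ▸ d2 j, fun j => hl j ▸ d1 j⟩

end Cfsg.Lib.SPW
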