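import Cfsg.Agent.SPW.Api

/-!
# Standard subgroups of type `Sp_{2k}(2ⁿ)`, type IV: generation
-/

set_option autoImplicit false
set_option linter.unusedSectionVars false

namespace Cfsg.Lib.SPW

open Subgroup Module Cfsg.Lib.Trans Cfsg.Lib.Gold Cfsg.Lib.Class.Form Cfsg.Lib.Class.FAut
open Cfsg.Lib.UM (tT tE VW RR Fx St QW Cf mp Semi fa Mp cx re Ot kk Mx)
open Cfsg.Lib.SPN
open Cfsg.Lib.SG2 (Uq Top)
open Cfsg.Lib.Comp (Tw)
open Cfsg.Lib.Chev.SpAm (Ix Sp bv idx Fn FixI pl TM)
open scoped commutatorElement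

variable {F M : Type*} [Field F] [Finite F] [AddCommGroup M] [Module F M] [FiniteDimensional F M]
  {B : M →ₗ[F] M →ₗ[F] F} {α : MulAut (sIsom B)}

namespace GEN

theorem sym (h : Mo B) (x y : M) : B x y = B y x := by
  have := h.alt (x + y)
  simp only [map_add, LinearMap.add_apply, h.alt] at this
  linear_combination this - B y x * h.two

theorem back (h : Mo B) {S : Subgroup (sIsom B)} {g : sIsom B} (hg : g ∈ S) {v : M}
    (e : tT B (lin g v) 1 ∈ S) : tT B v 1 ∈ S := by
  rw [← h.tT_conj] at e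
  exact (S.mul_mem_cancel_left hg).1 ((S.mul_mem_cancel_right (inv_mem hg)).1 e)

theorem idx_eq {n : ℕ} {i j : Ix n} (e : idx j = idx i) : j = i ∨ j = i.swap := by
  rcases i with i | i <;> rcases j with j | j <;> simp [Fin.ext_iff] at e ⊢ <;> exact e

theorem sep {n : ℕ} {b : Ix n → M} (k : Sb B b) (h : Mo B) {v : M} (e : ∀ i, B (b i) v = 0) :
    v = 0 := by
  have li : LinearIndependent F b := Fintype.linearIndependent_iff.2 fun g hg i => by
    have := congrArg (B (b i.swap)) hg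
    simpa [k.form, -Fintype.sum_sum_type] using this
  have sp : Submodule.span F (Set.range b) = ⊤ := li.span_eq_top_of_card_eq_finrank' (by
    rw [h.rank_eq, ← k.dim]; simp [two_mul])
  refine h.cls.sep v fun y => h.swap ?_
  exact mem_orth_span.2 (by rintro _ ⟨i, rfl⟩; exact e i) y (sp.ge Submodule.mem_top)

end GEN

theorem Sb.gen {n : ℕ} {b : Ix n → M} (k : Sb B b) (h : Mo B) {S : Subgroup (sIsom B)}
    (h1 : ∀ a s, tT B (b a) s ∈ S) (h2 : ∀ a d (s : F), idx a ≠ idx d → tE B (b a) (s • b d) ∈ S) :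
    S = ⊤ := h.gen_T fun v => by
  classical
  by_cases v0 : v = 0
  · rw [v0, h.tT_zero']; exact one_mem _
  obtain ⟨i, hi⟩ : ∃ i, B (b i) v ≠ 0 := by
    by_contra hc
    push Not at hc
    exact v0 (GEN.sep k h hc)
  have ii : i ≠ i.swap := by cases i <;> simp
  have key : ∀ (s : Finset (Ix n)) (v : M), B (b i) v ≠ 0 →
      (∀ j, idx j ≠ idx i → j ∉ s → B (b j) v = 0) → tT B v 1 ∈ S := by
    intro s
    induction s using Finset.induction_on with
    | empty =>
      intro v hv e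
      refine GEN.back h (h1 i (B (b i.swap) v * (B (b i) v)⁻¹)) ?_
      have : lin (tT B (b i) (B (b i.swap) v * (B (b i) v)⁻¹)) v = B (b i) v • b i.swap := by
        rw [← sub_eq_zero]
        refine GEN.sep k h fun j => ?_
        rw [h.lin_tT, inv_mul_cancel_right₀ hv]
        simp only [map_sub, map_add, map_smul, k.form, smul_eq_mul]
        by_cases hj : idx j = idx i
        · rcases GEN.idx_eq hj with rfl | rfl
          · simp [ii]
          · simp [ii.symm, h.add_self]
        · have a : i ≠ j.swap := fun e => hj (by simp [e])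
          have a' : i.swap ≠ j.swap := fun e => hj (by rw [← Chev.SpAm.idx_swap, ← e]; simp)
          simp [a, a', e j hj]
      rw [this, h.tT_smul]
      exact h1 _ _
    | insert j s _ ih =>
      intro v hv e
      by_cases hj : idx j = idx i
      · exact ih v hv fun l hl hs => e l hl fun hm =>
          (Finset.mem_insert.1 hm).elim (fun c => hl (c ▸ hj)) hs
      have a' : j.swap ≠ i.swap := fun e => hj (by rw [← Chev.SpAm.idx_swap, e]; simp)
      have o : B (b i) ((B (b j) v * (B (b i) v)⁻¹) • b j.swap) = 0 := by simp [k.form, a']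
      refine GEN.back h (h2 i j.swap (B (b j) v * (B (b i) v)⁻¹) (by simpa using Ne.symm hj))
        (ih _ ?_ fun l hl hs => ?_)
      · rw [h.lin_tE o]
        simpa [k.form, a', ii] using hv
      · have a : i ≠ l.swap := fun e => hl (by simp [e])
        rw [h.lin_tE o]
        simp only [map_add, map_smul, k.form, smul_eq_mul, if_neg a, mul_zero, add_zero]
        by_cases c : l = j
        · subst c
          rw [if_pos rfl, mul_one, mul_comm, inv_mul_cancel_right₀ hv]
          exact h.add_self _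
        · rw [if_neg fun e => c (Sum.swap_leftInverse.injective e).symm,
            e l hl fun hm => (Finset.mem_insert.1 hm).elim c hs]
          simp
  exact key Finset.univ v hi fun j _ hj => absurd (Finset.mem_univ j) hj

theorem kk_std (n : ℕ) : kk F (Ix n → F) = n := by simp [kk, ← two_mul]

theorem sb_std {n : ℕ} (h2 : (2 : F) = 0) :
    Sb (Class.sympBilin n F) (bv : Ix n → Ix n → F) where
  dim := (kk_std n).symm
  form i j := by
    change Chev.SpAm.Bf (bv i) (bv j) = _
    rcases i with i | i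
    · rw [Chev.SpAm.Bf_inl, Chev.SpAm.bv_apply]
      simp only [Sum.swap_inl, eq_comm (a := j)]
      split_ifs
      · linear_combination -h2
      · exact neg_zero
    · rw [Chev.SpAm.Bf_inr, Chev.SpAm.bv_apply]
      simp only [Sum.swap_inr, eq_comm (a := j)]

theorem sp_mY {n : ℕ} (h : Mo (Class.sympBilin n F)) (a : Ix n) (s : F) :
    Known.spEquivSIsom n F (mY a s) = tT (Class.sympBilin n F) (bv a) s := lin_ext fun x => by
  rw [h.lin_tT, GEN.sym h, Known.lin_spEquivSIsom, ← Chev.SpAm.sp_smul, mY,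
    Chev.SpAm.q_smul (by simp)]
  simp only [smul_zero, map_zero, zero_smul, add_zero]
  rfl

theorem sp_mX {n : ℕ} (h : Mo (Class.sympBilin n F)) {a d : Ix n} (e : idx a ≠ idx d) (s : F) :
    Known.spEquivSIsom n F (mX a d s) = tE (Class.sympBilin n F) (bv a) (s • bv d) :=
  lin_ext fun x => by
    have o : Class.sympBilin n F (bv a) (s • bv d) = 0 := by
      rw [map_smul, (sb_std h.two).form, if_neg fun c => e (by simp [c]), smul_zero]
    rw [h.lin_tE o, GEN.sym h (bv a), GEN.sym h (s • bv d), Known.lin_spEquivSIsom,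
      ← Chev.SpAm.sp_smul, mX, Chev.SpAm.q_smul (h.swap o)]
    simp only [zero_mul, zero_smul, add_zero]
    rfl

theorem gen_QQ (h : Mo B) {u : M} (u0 : u ≠ 0) {S : Subgroup (sIsom B)}
    (k : ∀ y, y ≠ 0 → B u y = 0 → Qu B y ≤ S) : S = ⊤ := h.gen_T fun w => by
  by_cases w0 : w = 0
  · rw [w0, h.tT_zero']; exact one_mem _
  by_cases e : B u w = 0
  · exact k w w0 e (h.tT_mem_Q w 1)
  obtain ⟨x, hx⟩ := h.ext2 u0
  have hy := hx.add h ((1 - B x w) * (B u w)⁻¹)
  have e1 : B (x + ((1 - B x w) * (B u w)⁻¹) • u) w = 1 := by simp [e]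
  generalize x + ((1 - B x w) * (B u w)⁻¹) • u = y at hy e1
  obtain ⟨p, p1, p2⟩ := h.dual2 hy.ne' (hy.symm h).not_mem 0 (B u w)
  refine GEN.back h (k y hy.ne' hy.uw (h.tE_mem_Q p1))
    (k _ (lin_ne_zero _ w0) ?_ (h.tT_mem_Q _ 1))
  rw [h.lin_tE p1, e1]
  simp [p2, hy.uw, h.add_self]

theorem Q_irr (h : Mo B) {u : M} (u0 : u ≠ 0) {N : Subgroup (sIsom B)} (h1 : N ≤ Qu B u)
    (h2 : Pu B u ≤ Ns N) : N ≤ RR B u ∨ N = Qu B u := by
  refine or_iff_not_imp_left.2 fun hn => le_antisymm h1 ?_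
  obtain ⟨g, hg, hg'⟩ := SetLike.not_le_iff_exists.1 hn
  obtain ⟨x, a, hx, rfl⟩ := (h.mem_Q u0).1 (h1 hg)
  have x0 : x ∉ F ∙ u := fun hm => by
    obtain ⟨c, rfl⟩ := Submodule.mem_span_singleton.1 hm
    exact hg' (h.mem_RR.2 ⟨a, h.ee_self u c a⟩)
  refine h.gen_Qc u0 (c := a) fun y hy => ?_
  obtain ⟨l, hl, rfl⟩ := h.trF (h.ti1 u) (h.mem_orth1.2 hx) x0 (h.mem_orth1.2 hy.uw) hy.not_mem
  have := mem_normalizer_conj (h2 hl) hg
  rwa [h.ee_conj l hx, UM.mem_Fx1.1 hl] at this

theorem cj_Q (g : sIsom B) (u : M) : cj g (Qu B u) = Qu B (lin g u) :=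
  ((UM.semi_conj g).sub fun x => by
    rw [(UM.semi_conj g).span, Set.image_singleton]; rfl).2.2.2.1

theorem aut_Q (h : Mo B) {u : M} (u0 : u ≠ 0) (e : α (tT B u 1) = tT B u 1) :
    mp α (Qu B u) = Qu B u ∧ mp α (Pu B u) = Pu B u ∧ mp α (RR B u) = RR B u := by
  obtain ⟨Γ, k⟩ := h.semi α
  rw [h.semi_tT k, map_one] at e
  have := k.sub (W := F ∙ u) (W' := F ∙ u) fun x => by
    rw [k.span, Set.image_singleton, h.tT_inj' e]
  exact (fun _ => ⟨this.2.2.2.1, this.2.2.2.2.1, this.2.2.1⟩) u0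

end Cfsg.Lib.SPW
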