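import Cfsg.Agent.SPW.Api

/-!
# Steinberg's relations in the symplectic matrix group
-/

set_option autoImplicit false
set_option linter.unusedSectionVars false

namespace Cfsg.Lib.SPW

open Cfsg.Lib.Chev.SpAm (Ix Sp bv idx Fn FixI pl TM)
open Cfsg.Lib.Chev.SpAm

section Stein
variable {G K : Type*} [Group G] [Field K] [Finite K] {n : ℕ} {x : Ix n → Ix n → K → G}
  {y : Ix n → K → G} {a c : Ix n} {k l : Fin n}

namespace ST1

theorem bf (h2 : (2 : K) = 0) (v : Ix n → K) (a : Ix n) : Bf v (bv a) = v a.swap := by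
  rw [Bf_swap]
  cases a with
  | inl k => rw [Bf_inl, neg_neg]; rfl
  | inr k => rw [Bf_inr]; rw [Sum.swap_inr]; linear_combination -v (.inl k) * h2

theorem ne (h : idx a ≠ idx c) : a ≠ c ∧ c ≠ a ∧ a.swap ≠ c ∧ c.swap ≠ a ∧ a.swap ≠ c.swap ∧
    c.swap ≠ a.swap ∧ a ≠ c.swap ∧ c ≠ a.swap := by
  refine ⟨?_, ?_, ?_, ?_, ?_, ?_, ?_, ?_⟩ <;> intro e <;> have := congrArg idx e <;>
    have := idx_swap a <;> have := idx_swap c <;> omega

theorem sw (a : Ix n) : a.swap ≠ a := by cases a <;> simp

theorem sy (h : c ≠ a.swap) : a.swap ≠ c ∧ c.swap ≠ a :=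
  ⟨h.symm, fun e => h (by rw [← e, Sum.swap_swap])⟩

end ST1

open ST1

theorem mX_smul (h : idx a ≠ idx c) (h2 : (2 : K) = 0) (s : K) (v : Ix n → K) :
    mX a c s • v = v + (s * v a.swap) • bv c + (s * v c.swap) • bv a := by
  rw [mX, q_smul (by rw [bf h2]; simp [bv_apply, ne h]), map_smul, bf h2, bf h2]
  module

theorem mY_smul (h2 : (2 : K) = 0) (a : Ix n) (s : K) (v : Ix n → K) :
    mY a s • v = v + (s * v a.swap) • bv a := by
  rw [mY, q_smul (by simp), map_zero, bf h2]
  module

theorem stc_std (h2 : (2 : K) = 0) : StC (mX : Ix n → Ix n → K → Sp n K) mY where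
  two := h2
  sym a c s h := sp_ext fun v => by
    rw [mX_smul h h2, mX_smul h.symm h2, add_right_comm]
  xadd a c s r h := sp_ext fun v => by
    simp only [mul_smul, mX_smul h h2]
    simp [bv_apply, ne h, sw]
    module
  yadd a s r := sp_ext fun v => by
    simp only [mul_smul, mY_smul h2]
    simp [bv_apply, sw]
    module
  yy a c s r h := sp_ext fun v => by
    simp only [mul_smul, mY_smul h2]
    simp [bv_apply, sy h]
    module
  yx a c d s r h h1 h3 := sp_ext fun v => by
    simp only [mul_smul, mY_smul h2, mX_smul h h2]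
    simp [bv_apply, sy h1, sy h3]
    module
  xx a c d e s r h h' h1 h3 h4 h5 := sp_ext fun v => by
    simp only [mul_smul, mX_smul h h2, mX_smul h' h2]
    simp [bv_apply, sy h1, sy h3, sy h4, sy h5]
    module
  xq a c s r h := sp_ext fun v => by
    have h' : idx a ≠ idx c.swap := by simpa using h
    simp only [mul_smul, mX_smul h h2, mX_smul h' h2]
    simp [bv_apply, ne h, sw]
    module
  a2 a c d s r h h1 h3 := sp_ext fun v => by
    have h' : idx c.swap ≠ idx d := by simpa using h3
    simp only [mul_smul, mX_smul h h2, mX_smul h' h2, mX_smul h1 h2]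
    simp [bv_apply, ne h, ne h1, ne h3, sw]
    linear_combination (norm := module) ((-(s * r) * v a.swap) * h2) • (bv d : Ix n → K)
  c2 a c s r h := sp_ext fun v => by
    have h' : idx a ≠ idx c.swap := by simpa using h
    simp only [mul_smul, mX_smul h h2, mX_smul h' h2, mY_smul h2]
    simp [bv_apply, ne h, sw, (sw _).symm]
    linear_combination (norm := module) ((-(s * r) * v a.swap) * h2) • (bv c.swap : Ix n → K) +
      ((-(s * s * r) * v a.swap) * h2) • (bv a : Ix n → K)

theorem StC.gr (h : StC x y) : StC (gX x) (gY y) :=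
  have m := stc_std (n := n) h.two
  { two := h.two
    sym := fun a c s e => Prod.ext (m.sym a c s e) (h.sym a c s e)
    xadd := fun a c s r e => Prod.ext (m.xadd a c s r e) (h.xadd a c s r e)
    yadd := fun a s r => Prod.ext (m.yadd a s r) (h.yadd a s r)
    yy := fun a c s r e => Prod.ext (m.yy a c s r e) (h.yy a c s r e)
    yx := fun a c d s r e e1 e2 => Prod.ext (m.yx a c d s r e e1 e2) (h.yx a c d s r e e1 e2)
    xx := fun a c d e s r e0 e1 e2 e3 e4 e5 =>
      Prod.ext (m.xx a c d e s r e0 e1 e2 e3 e4 e5) (h.xx a c d e s r e0 e1 e2 e3 e4 e5)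
    xq := fun a c s r e => Prod.ext (m.xq a c s r e) (h.xq a c s r e)
    a2 := fun a c d s r e e1 e2 => Prod.ext (m.a2 a c d s r e e1 e2) (h.a2 a c d s r e e1 e2)
    c2 := fun a c s r e => Prod.ext (m.c2 a c s r e) (h.c2 a c s r e) }

end Stein

end Cfsg.Lib.SPW
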