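import Cfsg.Agent.SPW.Api

/-!
# Steinberg relations of type `C_n` in characteristic two: consequences
-/

set_option autoImplicit false
set_option linter.unusedSectionVars false

namespace Cfsg.Lib.SPW

open Subgroup Module Cfsg.Lib.Trans Cfsg.Lib.Gold Cfsg.Lib.Class.Form Cfsg.Lib.Class.FAut
open Cfsg.Lib.UM (tT tE VW RR Fx St QW Cf mp Semi fa Mp cx re Ot kk Mx)
open Cfsg.Lib.SPN
open Cfsg.Lib.SG2 (Uq Top)
open Cfsg.Lib.Comp (Tw)
open Cfsg.Lib.Chev.SpAm (Ix Sp bv idx Fn FixI pl TM)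
open scoped commutatorElement

variable {G K : Type*} [Group G] [Field K] [Finite K] {n : ℕ} {x : Ix n → Ix n → K → G}
  {y : Ix n → K → G} {a c : Ix n} {k l : Fin n}

namespace ST2

theorem ne_swap (a : Ix n) : a ≠ a.swap := by rcases a with a | a <;> simp

theorem ne1 (e : idx a ≠ idx c) : a ≠ c := fun h => e (h ▸ rfl)

theorem ne2 (e : idx a ≠ idx c) : c ≠ a.swap := fun h => e (by rw [h, Chev.SpAm.idx_swap])

theorem sw1 (e : idx a ≠ idx c) : idx a.swap ≠ idx c := by rwa [Chev.SpAm.idx_swap]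

theorem sw2 (e : idx a ≠ idx c) : idx a ≠ idx c.swap := by rwa [Chev.SpAm.idx_swap]

theorem add_self (h : (2 : K) = 0) (s : K) : s + s = 0 := by rw [← two_mul, h, zero_mul]

theorem neg_eq (h : (2 : K) = 0) (s : K) : -s = s := neg_eq_of_add_eq_zero_left (add_self h s)

theorem cj {a b : G} (h : Commute a b) : a * b * a⁻¹ = b := by rw [h.eq, mul_inv_cancel_right]

end ST2

open ST2

theorem StC.x0 (h : StC x y) (e : idx a ≠ idx c) : x a c 0 = 1 := by
  have := h.xadd a c 0 0 e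
  rw [add_zero] at this
  exact left_eq_mul.1 this

theorem StC.y0 (h : StC x y) (a : Ix n) : y a 0 = 1 := by
  have := h.yadd a 0 0
  rw [add_zero] at this
  exact left_eq_mul.1 this

theorem StC.xsq (h : StC x y) (e : idx a ≠ idx c) (s : K) : x a c s * x a c s = 1 := by
  rw [← h.xadd a c s s e, add_self h.two, h.x0 e]

theorem StC.ysq (h : StC x y) (a : Ix n) (s : K) : y a s * y a s = 1 := by
  rw [← h.yadd, add_self h.two, h.y0]

theorem ST2.xs (h : StC x y) (e : idx a ≠ idx c) (s r : K) :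
    Commute (x a c s) (x a.swap c r) := by
  rw [h.sym a c s e, h.sym _ c r (sw1 e)]
  exact h.xq c a s r e.symm

theorem ST2.yc (h : StC x y) (e : idx a ≠ idx c) (s r : K) : Commute (y c s) (x a c r) :=
  h.yx c a c s r e (ne2 e.symm) (ne_swap c)

theorem StC.yx' (h : StC x y) (e : idx a ≠ idx c) (s r : K) :
    y a r * x a.swap c s * (y a r)⁻¹ = x a.swap c s * x a c (s * r) * y c (s * s * r) := by
  have h1 := h.c2 c a.swap s r (sw1 e).symm
  rw [Sum.swap_swap, ← h.sym _ _ _ (sw1 e), ← h.sym _ _ _ e] at h1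
  have h2 : y a r * x a.swap c s * (y a r)⁻¹ =
      (y c (s * s * r))⁻¹ * (x a c (s * r))⁻¹ * x a.swap c s := by
    rw [mul_inv_eq_iff_eq_mul, mul_assoc _ (x a.swap c s), h1]
    group
  rw [h2, inv_eq_of_mul_eq_one_right (h.ysq _ _), inv_eq_of_mul_eq_one_right (h.xsq e _),
    mul_assoc, (xs h e _ _).eq, ← mul_assoc, (yc h (sw1 e) _ _).eq, mul_assoc, (yc h e _ _).eq,
    ← mul_assoc]

theorem StC.wx (h : StC x y) (e : idx a ≠ idx c) {s : K} (s0 : s ≠ 0) (r : K) :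
    wY y a s * x a c r * (wY y a s)⁻¹ = x a.swap c (s⁻¹ * r) := by
  have h1 := cj (h.yx a a c s r e (ne_swap a) (ne2 e))
  have h2 := h.yx' (sw1 e) r s⁻¹
  rw [Sum.swap_swap] at h2
  have h3 := h.yx' e (r * s⁻¹) s
  have h4 := cj (h.yy a c s (r * r * s⁻¹) (ne2 e))
  rw [show r * s⁻¹ * s = r by field_simp, show r * s⁻¹ * (r * s⁻¹) * s = r * r * s⁻¹ by field_simp]
    at h3
  calc _ = y a s * (y a.swap s⁻¹ * (y a s * x a c r * (y a s)⁻¹) * (y a.swap s⁻¹)⁻¹) * (y a s)⁻¹ := by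
        rw [wY]; group
    _ = y a s * x a c r * (y a s)⁻¹ * (y a s * x a.swap c (r * s⁻¹) * (y a s)⁻¹) *
        (y a s * y c (r * r * s⁻¹) * (y a s)⁻¹) := by
        conv_lhs => rw [h1, h2]
        simp only [mul_assoc, inv_mul_cancel_left]
    _ = x a c r * x a.swap c (r * s⁻¹) * x a c r * (y c (r * r * s⁻¹) * y c (r * r * s⁻¹)) := by
        rw [h1, h3, h4]; group
    _ = _ := by rw [h.ysq, mul_one, (xs h e _ _).eq, mul_assoc, h.xsq e, mul_one, mul_comm s⁻¹]

theorem ST2.wsq (h : StC x y) (a : Ix n) (s : K) : wY y a s * wY y a s = 1 := by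
  calc _ = y a s * (y a.swap s⁻¹ * (y a s * y a s) * y a.swap s⁻¹) * y a s := by rw [wY]; group
    _ = 1 := by rw [h.ysq, mul_one, h.ysq, mul_one, h.ysq]

theorem StC.wx' (h : StC x y) (e : idx a ≠ idx c) {s : K} (s0 : s ≠ 0) (r : K) :
    wY y a s * x a.swap c r * (wY y a s)⁻¹ = x a c (s * r) := by
  have h1 := h.wx e s0 (s * r)
  rw [inv_mul_cancel_left₀ s0] at h1
  rw [← h1]
  calc _ = wY y a s * wY y a s * x a c (s * r) * (wY y a s * wY y a s)⁻¹ := by group
    _ = _ := by rw [wsq h]; group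

theorem ST2.exists_idx (hn : 2 ≤ n) (a : Ix n) : ∃ c : Ix n, idx a ≠ idx c := by
  by_cases e : idx a = 0
  · exact ⟨.inl ⟨1, hn⟩, by rw [e, Chev.SpAm.idx_inl]; exact zero_ne_one⟩
  · exact ⟨.inl ⟨0, by omega⟩, by rwa [Chev.SpAm.idx_inl]⟩

theorem StC.sl2 (h : StC x y) (hn : 2 ≤ n) (a : Ix n) : Chev.SL2Rel (y a) (y a.swap) where
  addx t u := (h.yadd a t u).symm
  addy t u := (h.yadd _ t u).symm
  conj t u t0 := by
    obtain ⟨c, e⟩ := exists_idx hn a
    have e0 : Chev.nOne (y a) (y a.swap) t = wY y a t := by rw [Chev.nOne, neg_eq h.two, wY]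
    have c1 : Commute (y a t) (y c.swap u) := h.yy _ _ _ _ (ne2 (sw2 e))
    have c2 : Commute (y a.swap t⁻¹) (y c.swap u) := h.yy _ _ _ _ (ne2 (sw1 (sw2 e)))
    have c3 : wY y a t * y c.swap u * (wY y a t)⁻¹ = y c.swap u :=
      cj ((c1.mul_left c2).mul_left c1)
    have h1 := congrArg (fun g => wY y a t * g * (wY y a t)⁻¹) (h.c2 a c 1 u e)
    simp only [← conj_mul, one_mul, h.wx e t0, h.wx (sw2 e) t0, c3, mul_one,
      h.c2 a.swap c t⁻¹ u (sw1 e)] at h1
    rw [e0, neg_eq h.two, pow_two]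
    exact (mul_left_cancel (mul_right_cancel h1)).symm

end Cfsg.Lib.SPW
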