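import Cfsg.Agent.SPW.ST3
import Cfsg.Agent.SPW.ST4

/-!
# Steinberg relations of type `C_n` in characteristic two: the mixed pairs of the amalgam
-/

set_option autoImplicit false
set_option linter.unusedSectionVars false

namespace Cfsg.Lib.SPW

open Subgroup Module Cfsg.Lib.Trans Cfsg.Lib.Gold Cfsg.Lib.Class.Form Cfsg.Lib.Class.FAut
open Cfsg.Lib.UM (tT tE VW RR Fx St QW Cf mp Semi fa Mp cx re Ot kk Mx)
open Cfsg.Lib.SPN
open Cfsg.Lib.SG2 (Uq Top)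
open Cfsg.Lib.Comp (Tw)
open Cfsg.Lib.Chev.SpAm (Ix Sp bv idx Fn FixI pl TM)
open scoped commutatorElement

variable {G K : Type*} [Group G] [Field K] [Finite K] {n : ℕ} {x : Ix n → Ix n → K → G}
  {y : Ix n → K → G} {a c : Ix n} {k l : Fin n}

namespace ST5

open Cfsg.Lib.Chev.SpAm Sum

/-- Products of two subgroups one of which is normalised by generators of the other. -/
theorem dec {Γ : Type*} [Group Γ] {Q S : Subgroup Γ} {T : Set Γ} (hS : S = closure T)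
    (h : ∀ s ∈ T, ∀ q ∈ Q, s * q * s⁻¹ ∈ Q) (h' : ∀ s ∈ T, s * s = 1) {g : Γ} (hg : g ∈ Q ⊔ S) :
    ∃ q ∈ Q, ∃ s ∈ S, q * s = g := by
  have : S ≤ normalizer (Q : Set Γ) := by
    rw [hS, closure_le]
    refine fun s hs => mem_normalizer_iff.2 fun q => ⟨h s hs q, fun e => ?_⟩
    have := h s hs _ e
    rwa [show s * (s * q * s⁻¹) * s⁻¹ = (s * s) * q * (s * s)⁻¹ by group, h' s hs, one_mul, inv_one,
      mul_one] at this
  rw [← SetLike.mem_coe, coe_mul_of_right_le_normalizer_left Q S this] at hg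
  exact hg

theorem ex_Q (h : StC x y) (e : idx a ≠ idx c) : ∃ Q : Subgroup G,
    ∀ g, g ∈ Q ↔ ∃ p r z, g = x a c p * x a.swap c r * y c z := by
  have e' : idx a.swap ≠ idx c := by simpa using e
  have ns : ∀ {i j : Ix n}, idx i ≠ idx j → i ≠ j.swap := fun e e' => e (by rw [e', idx_swap])
  have cc : c ≠ c.swap := by cases c <;> simp
  have c1 : ∀ p r, Commute (x a c p) (x a.swap c r) := fun p r => by
    rw [h.sym _ _ _ e, h.sym _ _ _ e']
    exact h.xq _ _ _ _ e.symm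
  have c2 : ∀ p z, Commute (x a c p) (y c z) := fun p z => (h.yx _ _ _ _ _ e (ns e) cc).symm
  have c3 : ∀ p z, Commute (x a.swap c p) (y c z) := fun p z => (h.yx _ _ _ _ _ e' (ns e') cc).symm
  have m : ∀ p r z p' r' z', x a c p * x a.swap c r * y c z * (x a c p' * x a.swap c r' * y c z') =
      x a c (p + p') * x a.swap c (r + r') * y c (z + z') := fun p r z p' r' z' => by
    rw [((c2 p' z).mul_left (c3 r' z)).symm.mul_mul_mul_comm, (c1 p' r).symm.mul_mul_mul_comm,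
      h.xadd _ _ _ _ e, h.xadd _ _ _ _ e', h.yadd]
  have two : ∀ s : K, s + s = 0 := fun s => by linear_combination s * h.two
  refine ⟨⟨⟨⟨{g | ∃ p r z, g = x a c p * x a.swap c r * y c z}, ?_⟩, 0, 0, 0, ?_⟩, ?_⟩, fun _ => Iff.rfl⟩
  · rintro _ _ ⟨p, r, z, rfl⟩ ⟨p', r', z', rfl⟩
    exact ⟨_, _, _, m ..⟩
  · rw [h.x0 e, h.x0 e', h.y0, one_mul, one_mul]
  · rintro _ ⟨p, r, z, rfl⟩
    refine ⟨p, r, z, inv_eq_of_mul_eq_one_right ?_⟩
    rw [m, two, two, two, h.x0 e, h.x0 e', h.y0, one_mul, one_mul]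

theorem nrm (h : StC x y) (e : idx a ≠ idx c) {Q : Subgroup G} (h1 : ∀ p, x a c p ∈ Q)
    (h2 : ∀ p, x a.swap c p ∈ Q) (h3 : ∀ p, y c p ∈ Q) (s p : K) :
    y a s * x a c p * (y a s)⁻¹ ∈ Q ∧ y a s * x a.swap c p * (y a s)⁻¹ ∈ Q ∧
      y a s * y c p * (y a s)⁻¹ ∈ Q := by
  have ns : c ≠ a.swap := fun e' => e (by rw [e', idx_swap])
  have cc : a ≠ a.swap := by cases a <;> simp
  refine ⟨?_, ?_, ?_⟩
  · rw [(h.yx _ _ _ _ _ e cc ns).mul_inv_cancel]; exact h1 p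
  · rw [h.yx' e]; exact mul_mem (mul_mem (h2 _) (h1 _)) (h3 _)
  · rw [(h.yy _ _ _ _ ns).mul_inv_cancel]; exact h3 p

theorem gS_eq (y : Ix n → K → G) (l : Fin n) :
    gS y l = closure (Set.range (gY y (inl l)) ∪ Set.range (gY y (inr l))) := (closure_union _ _).symm

theorem near (h : StC x y) (hn : 2 ≤ n) (e : idx (inl l : Ix n) ≠ idx c) {N : Subgroup (Sp n K × G)}
    (hN : ∀ Q : Subgroup (Sp n K × G), (∀ p, gX x (inl l) c p ∈ Q) → (∀ p, gY y c p ∈ Q) →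
      (∀ p, gY y (inl l) p ∈ Q) → N ≤ Q) : Fn (N ⊔ gS y l) := by
  have g := h.gr
  have e' : idx (inl l : Ix n).swap ≠ idx c := by simpa using e
  obtain ⟨Q, hQ⟩ := ex_Q g e
  have h1 : ∀ p, gX x (inl l) c p ∈ Q := fun p => (hQ _).2 ⟨p, 0, 0, by rw [g.x0 e', g.y0]; simp⟩
  have h2 : ∀ p, gX x (inl l : Ix n).swap c p ∈ Q := fun p =>
    (hQ _).2 ⟨0, p, 0, by rw [g.x0 e, g.y0]; simp⟩
  have h3 : ∀ p, gY y c p ∈ Q := fun p => (hQ _).2 ⟨0, 0, p, by rw [g.x0 e, g.x0 e']; simp⟩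
  refine Fn.mono (K := Q ⊔ gS y l) (fun u hu u1 => ?_) (sup_le (hN _ (fun p => mem_sup_left (h1 p))
    (fun p => mem_sup_left (h3 p)) fun p => mem_sup_right (mem_sup_left (subset_closure ⟨p, rfl⟩)))
    le_sup_right)
  obtain ⟨q, hq, s, hs, rfl⟩ := dec (gS_eq y l) (by
    rintro _ (⟨s, rfl⟩ | ⟨s, rfl⟩) q hq <;> obtain ⟨p, r, z, rfl⟩ := (hQ q).1 hq <;>
      rw [← conj_mul, ← conj_mul]
    · exact mul_mem (mul_mem (nrm g e h1 h2 h3 s p).1 (nrm g e h1 h2 h3 s r).2.1)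
        (nrm g e h1 h2 h3 s z).2.2
    · exact mul_mem (mul_mem (nrm g e' h2 h1 h3 s p).2.1 (nrm g e' h2 h1 h3 s r).1)
        (nrm g e' h2 h1 h3 s z).2.2) (by
    rintro _ (⟨s, rfl⟩ | ⟨s, rfl⟩) <;> exact g.ysq _ _) hu
  obtain ⟨p, r, z, rfl⟩ := (hQ q).1 hq
  have f := h.S_le l s hs c.swap (by simpa using e.symm)
  have f1 := congrArg (· • (bv c.swap : Ix n → K)) u1
  simp only [Prod.fst_mul, mul_smul, f, one_smul, gX, gY, mY_smul h.two, mX_smul e h.two,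
    mX_smul e' h.two] at f1
  have ne : ∀ i : Ix n, idx i = l → i ≠ c ∧ i ≠ c.swap ∧ c ≠ i ∧ c.swap ≠ i := fun i hi => by
    refine ⟨?_, ?_, ?_, ?_⟩ <;> rintro rfl <;> simp_all
  have cc : c ≠ c.swap := by cases c <;> simp
  have n1 := ne (inl l) rfl
  have n2 := ne (inr l) rfl
  have p0 : p = 0 := by simpa [bv_apply, n1, n2, cc, cc.symm] using congrFun f1 (inl l)
  have r0 : r = 0 := by simpa [bv_apply, n1, n2, cc, cc.symm] using congrFun f1 (inr l)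
  have z0 : z = 0 := by simpa [bv_apply, n1, n2, cc, cc.symm, p0, r0] using congrFun f1 c
  rw [p0, r0, z0, g.x0 e, g.x0 e', g.y0, one_mul, one_mul, one_mul] at u1 ⊢
  exact h.fnS hn l s hs u1

end ST5

open Cfsg.Lib.Chev.SpAm Sum ST5

theorem StC.MS (h : StC x y) (hk : (k : ℕ) + 1 < n) (l : Fin n) : Fn (gM x y k ⊔ gS y l) := by
  have g := h.gr
  have hn : 2 ≤ n := by omega
  by_cases c1 : l = k
  · subst c1
    refine near h hn (c := inl ⟨_, hk⟩) (by simp) fun Q h1 h2 h3 => (closure_le _).2 ?_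
    rintro _ ⟨m, hm, s, e⟩
    obtain rfl : m = ⟨_, hk⟩ := Fin.ext hm
    rcases e with rfl | rfl | rfl
    exacts [h3 s, h2 s, h1 s]
  by_cases c2 : (l : ℕ) = k + 1
  · have e : idx (inl l : Ix n) ≠ idx (inl k : Ix n) := by simp [c2]
    refine near h hn (c := inl k) e fun Q h1 h2 h3 => (closure_le _).2 ?_
    rintro _ ⟨m, hm, s, e'⟩
    obtain rfl : m = l := Fin.ext (hm.trans c2.symm)
    rcases e' with rfl | rfl | rfl
    exacts [h2 s, h3 s, g.sym _ _ s e ▸ h1 s]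
  intro u hu u1
  have c3 : (l : ℕ) ≠ k := fun e => c1 (Fin.ext e)
  have com : ∀ a : Ix n, idx a = l → ∀ s, gM x y k ≤ C1 (gY y a s) := fun a ha s => (closure_le _).2 (by
    have ns : ∀ m : Fin n, (m : ℕ) = k ∨ (m : ℕ) = k + 1 → inl m ≠ a.swap := fun m hm e => by
      have := congrArg idx e
      simp only [idx_inl, idx_swap] at this
      omega
    rintro _ ⟨m, hm, r, rfl | rfl | rfl⟩
    · exact mem_C1.2 (g.yy _ _ _ _ (ns k (.inl rfl))).symm
    · exact mem_C1.2 (g.yy _ _ _ _ (ns m (.inr hm))).symm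
    · exact mem_C1.2 (g.yx _ _ _ _ _ (by simp [hm]) (ns k (.inl rfl)) (ns m (.inr hm))).symm)
  obtain ⟨q, hq, s, hs, rfl⟩ := dec (gS_eq y l) (by
    rintro _ (⟨s, rfl⟩ | ⟨s, rfl⟩) q hq
    · rwa [← mem_C1.1 (com (inl l) rfl s hq), mul_inv_cancel_right]
    · rwa [← mem_C1.1 (com (inr l) rfl s hq), mul_inv_cancel_right]) (by
    rintro _ (⟨s, rfl⟩ | ⟨s, rfl⟩) <;> exact g.ysq _ _) hu
  have q1 : q.1 = 1 := FixI.eq_one fun i _ => by
    by_cases e : idx i = l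
    · exact h.M_le k q hq i (.inr (by omega))
    · rw [eq_inv_of_mul_eq_one_left u1]
      exact inv_mem (h.S_le l s hs) i e
  rw [h.MM k k q (mem_sup_left hq) q1, one_mul] at u1 ⊢
  exact h.fnS hn l s hs u1

end Cfsg.Lib.SPW
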