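import Cfsg.Agent.SPW.Api

/-!
# Standard subgroups of type `Sp_{2k}(2ⁿ)`, type IV: calculus of the new root elements
-/

set_option autoImplicit false
set_option linter.unusedSectionVars false

namespace Cfsg.Lib.SPW

open Subgroup Module Cfsg.Lib.Trans Cfsg.Lib.Gold Cfsg.Lib.Class.Form Cfsg.Lib.Class.FAut
open Cfsg.Lib.UM (tT tE VW RR Fx St QW Cf mp Semi fa Mp cx re Ot kk Mx)
open Cfsg.Lib.SPN
open Cfsg.Lib.SG2 (Uq Top)
open Cfsg.Lib.Comp (Tw)
open scoped commutatorElement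

variable {G F M : Type*} [Group G] [Finite G] [Field F] [Finite F] [AddCommGroup M] [Module F M]
  [FiniteDimensional F M] {B : M →ₗ[F] M →ₗ[F] F} {φ y z : sIsom B →* G} {t : G} {X : Subgroup G}
  {H : M → M → G} {D : M → G} {β s : F}

theorem T0.mo (h : T4 φ t H D β) : Mo B := h.toTD0.toTH.toTH0.toH1.toHyp.toMod.toMo

theorem t4_self (h : T4 φ t H D β) (a : F) (u : M) : H u (a • u) = 1 := by
  rw [h.self, zero_mul, (T0.mo h).tT_zero, map_one]

theorem t4_zero (h : T4 φ t H D β) (u : M) : H u 0 = 1 := by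
  simpa using t4_self h 0 u

theorem t4_swap (h : T4 φ t H D β) (u w : M) : H w u = H u w := by
  by_cases e : B u w = 0
  · rw [h.swap u w e, zero_smul, (T0.mo h).tE_zero, map_one, mul_one]
  · rw [h.junk u w e, h.junk w u fun e' => e ((T0.mo h).swap e')]

theorem t4_Hfix (h : T4 φ t H D β) {g : sIsom B} {u w : M} (e : lin g u = u) (e' : lin g w = w) :
    Commute (φ g) (H u w) :=
  mul_inv_eq_iff_eq_mul.1 (by rw [h.eqv, e, e'])

theorem t4_Dfix (h : T4 φ t H D β) {g : sIsom B} {u : M} (e : lin g u = u) : Commute (φ g) (D u) :=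
  mul_inv_eq_iff_eq_mul.1 (by rw [h.deqv, e])

theorem t4_HE (h : T4 φ t H D β) {u w x : M} (e : B u w = 0) (e' : B u x = 0) :
    Commute (H u w) (φ (tE B u x)) :=
  mul_inv_eq_iff_eq_mul.1 (by rw [h.actQ u w x e e', zero_mul, (T0.mo h).ee_zero])

theorem t4_Dsq (h : T4 φ t H D β) (u : M) : D u * D u = 1 := by
  rw [h.dsq, (T0.mo h).tT_zero, map_one]

theorem t4_DD (h : T4 φ t H D β) {u w : M} (e : B u w = 0) : Commute (D u) (D w) := by
  have e1 := h.dadd u w e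
  rw [add_comm, h.dadd w u ((T0.mo h).swap e), t4_swap h w u] at e1
  exact (mul_right_cancel e1).symm

theorem t4_Dadd (h : T4 φ t H D β) (a b : F) (u : M) :
    D ((a + b) • u) = D (a • u) * D (b • u) := by
  rw [add_smul, h.dadd _ _ (by simp [(T0.mo h).alt]), h.smul, smul_smul, t4_self h, mul_one]

theorem T0.flip {a b c : G} (a2 : a * a = 1) (b2 : b * b = 1) (e : a * b * a⁻¹ = b * c) (k : Commute a c) :
    b * a * b⁻¹ = a * c := by
  have c1 : c = b * a * b * a := by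
    rw [inv_eq_of_mul_eq_one_right a2] at e
    calc c = b * b * c := by rw [b2, one_mul]
      _ = _ := by rw [mul_assoc, ← e]; group
  rw [inv_eq_of_mul_eq_one_right b2, k.eq, c1, mul_assoc _ a a, a2, mul_one]

theorem t4_tH (h : T4 φ t H D β) {u w : M} (e : B u w = 0) :
    t * H u w * t⁻¹ = H u w * φ (tE B u w) :=
  T0.flip (h.sq u w) h.t2 (h.ht u w e) (t4_HE h e e)

theorem t4_tD (h : T4 φ t H D β) (u : M) : t * D u * t⁻¹ = D u * φ (tT B u 1) :=
  T0.flip (t4_Dsq h u) h.t2 (h.dt u)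
    (t4_Dfix h (by rw [(T0.mo h).lin_tT, (T0.mo h).alt, mul_zero, zero_smul, add_zero])).symm

theorem T0.L_le : φ.range ≤ G2 φ H D := le_sup_left.trans le_sup_left

theorem T0.H_mem (u w : M) : H u w ∈ G2 φ H D :=
  mem_sup_left (mem_sup_right (subset_closure ⟨u, w, rfl⟩))

theorem T0.D_mem (u : M) : D u ∈ G2 φ H D := mem_sup_right (subset_closure ⟨u, rfl⟩)

theorem T0.le {S : Subgroup G} (h1 : φ.range ≤ S) (h2 : ∀ u w, H u w ∈ S) (h3 : ∀ u, D u ∈ S) :
    G2 φ H D ≤ S :=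
  sup_le (sup_le h1 ((closure_le _).2 fun _ ⟨u, w, e⟩ => e ▸ h2 u w))
    ((closure_le _).2 fun _ ⟨u, e⟩ => e ▸ h3 u)

theorem t4_nL (h : T4 φ t H D β) : C1 t ≤ Ns (G2 φ H D) := fun c hc => by
  have ct : Commute c t := mem_C1.1 hc
  obtain ⟨α, Γ, τ, k, k'⟩ := h.toTD0.toTH.toTH0.toH1.toHyp.semi ct
  obtain ⟨a, ha⟩ := h.eqvC c ct α Γ τ k k'
  obtain ⟨b, hb⟩ := h.deqvC c ct α Γ τ k k'
  refine Comp.mem_Ns_of fun g hg =>
    T0.le (S := comap (MulAut.conj c).toMonoidHom (G2 φ H D)) ?_ (fun u w => ?_) (fun u => ?_) hg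
  · rintro _ ⟨a, rfl⟩
    change c * φ a * c⁻¹ ∈ G2 φ H D
    exact k a ▸ T0.L_le ⟨_, rfl⟩
  · change c * H u w * c⁻¹ ∈ G2 φ H D
    by_cases e : B u w = 0
    · exact ha u w e ▸ mul_mem (T0.H_mem _ _) (T0.L_le ⟨_, rfl⟩)
    · rw [h.junk u w e, mul_one, mul_inv_cancel]
      exact one_mem _
  · change c * D u * c⁻¹ ∈ G2 φ H D
    exact hb u ▸ mul_mem (T0.D_mem _) (T0.L_le ⟨_, rfl⟩)

theorem t4_cO (h : T4 φ t H D β) : Ot φ t ≤ Cs (G2 φ H D) := fun o ho => mem_Cs.2 fun _ hg =>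
  (mem_Cs.1 (T0.le L_le_Cs_Ot h.cO h.dO hg) o ho).symm

theorem t4_G2 (h : T4 φ t H D β) {S : Subgroup G} (h1 : φ.range ≤ S) {u w x : M} (k : P2 B u w)
    (h2 : H u w ∈ S) (x0 : x ≠ 0) (h3 : D x ∈ S) : G2 φ H D ≤ S := by
  have m := T0.mo h
  have cS : ∀ g, ∀ a ∈ S, φ g * a * (φ g)⁻¹ ∈ S := fun g a ha =>
    mul_mem (mul_mem (h1 ⟨g, rfl⟩) ha) (inv_mem (h1 ⟨g, rfl⟩))
  refine T0.le h1 (fun a b => ?_) fun a => ?_
  · by_cases e : P2 B a b
    · obtain ⟨g, e1, e2⟩ := m.tr2 k e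
      rw [← e1, ← e2, ← h.eqv]
      exact cS g _ h2
    · have : H a b = 1 := by
        by_cases e1 : B a b = 0
        · by_cases a0 : a = 0
          · rw [a0, t4_swap h, t4_zero h]
          · have : b ∈ F ∙ a := by
              by_contra c
              exact e (P2.iff.2 ⟨e1, a0, c⟩)
            obtain ⟨r, rfl⟩ := Submodule.mem_span_singleton.1 this
            exact t4_self h r a
        · exact h.junk a b e1
      exact this ▸ one_mem _
  · by_cases a0 : a = 0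
    · rw [a0, h.d0]
      exact one_mem _
    · obtain ⟨g, e⟩ := m.tr1 x0 a0
      rw [← e, ← h.deqv]
      exact cS g _ h3

end Cfsg.Lib.SPW
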