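import Cfsg.Agent.SPW.Api
import Cfsg.Agent.SPW.T0
import Cfsg.Agent.SPW.QK

/-!
# Type IV: the commutator relation of type `A₂` over the quadratic extension
-/

set_option autoImplicit false
set_option linter.unusedSectionVars false

namespace Cfsg.Lib.SPW

open Subgroup Module Cfsg.Lib.Trans Cfsg.Lib.Gold Cfsg.Lib.Class.Form Cfsg.Lib.Class.FAut
open Cfsg.Lib.UM (tT tE VW RR Fx St QW Cf mp Semi fa Mp cx re Ot kk Mx)
open Cfsg.Lib.SPN
open Cfsg.Lib.SG2 (Uq Top)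
open Cfsg.Lib.Comp (Tw)
open Cfsg.Lib.Chev.SpAm (Ix Sp bv idx Fn FixI pl TM)
open scoped commutatorElement

variable {G F M K : Type*} [Group G] [Finite G] [Field F] [Finite F] [AddCommGroup M] [Module F M]
  [FiniteDimensional F M] [Field K] [Finite K] {B : M →ₗ[F] M →ₗ[F] F} {φ : sIsom B →* G} {t : G}
  {H : M → M → G} {D : M → G} {ι : F →+* K} {γ : K} {β : F} {p₀ p₁ : K → F} {τ : K ≃+* K}
  {X : Subgroup G}

theorem XB.col {A A' C C' z₁ z₂ z₃ z₄ : G} (h1 : A * C = z₁ * C * A) (h2 : A * C' = z₂ * C' * A)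
    (h3 : A' * C = z₃ * (C * A')) (h4 : A' * C' = z₄ * (C' * A')) (c1 : Commute z₃ A)
    (c2 : Commute z₄ A) (c3 : Commute z₄ C) (c4 : Commute z₂ C) :
    A * A' * (C * C') = z₃ * z₁ * z₄ * z₂ * (C * C' * (A * A')) :=
  calc A * A' * (C * C') = A * (A' * C) * C' := by group
    _ = A * z₃ * C * (A' * C') := by rw [h3]; group
    _ = z₃ * (A * C) * z₄ * (C' * A') := by rw [h4, ← c1.eq]; group
    _ = z₃ * z₁ * C * (A * z₄) * (C' * A') := by rw [h1]; group
    _ = z₃ * z₁ * (C * z₄) * (A * C') * A' := by rw [← c2.eq]; group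
    _ = z₃ * z₁ * z₄ * (C * z₂) * C' * (A * A') := by rw [← c3.eq, h2]; group
    _ = _ := by rw [← c4.eq]; group

theorem t4_a2 (h : T4 φ t H D β) (k : QE ι γ β p₀ p₁ τ) {u x w y : M} (s r : K) (o : O3 B w u x)
    (e : B w y = 0) (e' : B x y = 0) : XK φ H p₀ p₁ x u s * XK φ H p₀ p₁ y w r =
      XK φ H p₀ p₁ x w (ι (B u y) * s * r) * (XK φ H p₀ p₁ y w r * XK φ H p₀ p₁ x u s) := by
  have m : Mo B := h.toMo
  obtain ⟨wu, wx, ux⟩ := o
  have uw := m.swap wu
  have xw := m.swap wx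
  have xu := m.swap ux
  have yw := m.swap e
  have yx := m.swap e'
  have xx := m.alt x
  have ww := m.alt w
  have yu := m.symm y u
  have z1 : ∀ a : F, B x (a • u) = 0 := fun a => by simp [xu]
  have z2 : ∀ a : F, B x (a • w) = 0 := fun a => by simp [xw]
  have z3 : ∀ a : F, B y (a • w) = 0 := fun a => by simp [yw]
  have g1 : ∀ a : F, lin (tE B x (a • u)) y = (a * B u y) • x + y := fun a => by
    rw [m.lin_tE (z1 a)]; simp [e', add_comm]
  have g2 : ∀ a c : F, lin (tE B x (a • u)) (c • w) = c • w := fun a c => by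
    rw [m.lin_tE (z1 a)]; simp [xw, uw]
  have g3 : ∀ a : F, lin (tE B x (a • u)) x = x := fun a => by
    rw [m.lin_tE (z1 a)]; simp [xx, ux]
  have g4 : ∀ a : F, lin (tE B y (a • w)) x = x := fun a => by
    rw [m.lin_tE (z3 a)]; simp [yx, wx]
  have g5 : ∀ a c : F, lin (tE B y (a • w)) (c • w) = c • w := fun a c => by
    rw [m.lin_tE (z3 a)]; simp [yw, ww]
  have g6 : ∀ a c : F, lin (tE B y (a • w)) (c • u) = (c * B u y * a) • w + c • u := fun a c => by
    rw [m.lin_tE (z3 a)]; simp [yu, wu, add_comm, smul_smul]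
  have ce : ∀ {g : sIsom B} {a : F}, lin g x = x → lin g (a • w) = a • w →
      Commute (φ (tE B x (a • w))) (φ g) := fun {g a} h1 h2 => by
    have := m.tE_conj g (z2 a)
    rw [h1, h2, mul_inv_eq_iff_eq_mul] at this
    exact (show Commute g _ from this).symm.map φ
  have o1 : ∀ a c : F, O3 B x (a • w) (c • w) := fun a c => ⟨z2 a, z2 c, by simp [ww]⟩
  have key := XB.col (A := φ (tE B x (p₀ s • u))) (A' := H x (p₁ s • u))
    (C := φ (tE B y (p₀ r • w))) (C' := H y (p₁ r • w))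
    (z₁ := φ (tE B x ((p₀ s * B u y * p₀ r) • w))) (z₂ := H x ((p₀ s * B u y * p₁ r) • w))
    (z₃ := H x ((p₁ s * B u y * p₀ r) • w))
    (z₄ := H x ((p₁ s * B u y * p₁ r) • w) * φ (tE B x ((β * (p₁ s * B u y) * p₁ r) • w)))
    (by
      rw [← mul_inv_eq_iff_eq_mul, ← map_inv, ← map_mul, ← map_mul, m.tE_conj _ (z3 _), g1, g2,
        m.tE_add' ⟨by simp [e'], by simp [xw], z3 _⟩, m.tE_smul (z2 _), smul_smul, map_mul])
    (by
      rw [← mul_inv_eq_iff_eq_mul, h.eqv, g1, g2, h.add1 _ _ _ ⟨by simp [e'], by simp [xw], z3 _⟩,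
        h.smul, smul_smul])
    (by
      have := h.eqv (tE B y (p₀ r • w)) x (p₁ s • u)
      rw [g4, g6, h.add2 _ _ _ ⟨z2 _, z1 _, by simp [wu]⟩, mul_inv_eq_iff_eq_mul] at this
      rw [this, ← mul_assoc, ← mul_assoc, h.sq, one_mul])
    (by
      have := h.r120 (p₁ s • u) x (p₁ r • w) y ⟨by simp [wu], by simp [wx], by simp [ux]⟩
        (by simp [e]) e'
      rw [t4_swap h x (p₁ s • u), t4_swap h y (p₁ r • w), t4_swap h (_ • x) (p₁ r • w), h.smul,
        smul_smul, m.tE_comm (u := p₁ r • w) (by simp [wx]), m.tE_smul (z2 _), smul_smul,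
        map_smul, LinearMap.smul_apply, smul_eq_mul, commutatorElement_def] at this
      rw [← this]
      group)
    (t4_HE h (z2 _) (z1 _)) ((t4_HE h (z2 _) (z1 _)).mul_left (ce (g3 _) (g2 _ _)))
    ((t4_Hfix h (g4 _) (g5 _ _)).symm.mul_left (ce (g4 _) (g5 _ _)))
    (t4_Hfix h (g4 _) (g5 _ _)).symm
  simp only [XK]
  rw [key]
  congr 1
  have e0 : p₀ (ι (B u y) * s * r) = p₀ s * B u y * p₀ r + β * (p₁ s * B u y) * p₁ r := by
    rw [k.p0_mul, k.p0_mul, k.p1_mul, k.p0_ι, k.p1_ι]; ring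
  have e1 : p₁ (ι (B u y) * s * r) =
      p₁ s * B u y * p₀ r + p₁ s * B u y * p₁ r + p₀ s * B u y * p₁ r := by
    rw [k.p1_mul, k.p0_mul, k.p1_mul, k.p0_ι, k.p1_ι]; ring
  have c := fun a c : F => (t4_HE h (z2 a) (z2 c)).eq
  rw [e0, e1, add_smul, m.tE_add (o1 _ _), map_mul, add_smul, h.add2 _ _ _ ⟨by simp [xw], z2 _,
    by simp [ww]⟩, add_smul, h.add2 _ _ _ (o1 _ _), c, c, mul_assoc (φ _), ← mul_assoc (H _ _), c]
  group

end Cfsg.Lib.SPW
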