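import Cfsg.Agent.SPW.Api

/-!
# Standard subgroups of type `Sp_{2k}(2ⁿ)`, type IV: Steinberg's relations from the vector relations
-/

set_option autoImplicit false
set_option linter.unusedSectionVars false

namespace Cfsg.Lib.SPW

open Subgroup Module Cfsg.Lib.Trans Cfsg.Lib.Gold Cfsg.Lib.Class.Form Cfsg.Lib.Class.FAut
open Cfsg.Lib.UM (tT tE VW RR Fx St QW Cf mp Semi fa Mp cx re Ot kk Mx)
open Cfsg.Lib.SPN
open Cfsg.Lib.SG2 (Uq Top)
open Cfsg.Lib.Comp (Tw)
open Cfsg.Lib.Chev.SpAm (Ix Sp bv idx Fn FixI pl TM)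
open scoped commutatorElement

variable {G F M K : Type*} [Group G] [Finite G] [Field F] [Finite F] [AddCommGroup M] [Module F M]
  [FiniteDimensional F M] [Field K] [Finite K] {B : M →ₗ[F] M →ₗ[F] F} {ι : F →+* K}
  {Xs : M → M → K → G} {Ys : M → K → G}

namespace XD

theorem grp {Z C A1 A2 A3 B1 B2 B3 : G} (z1 : Z * B1 = A1 * (B1 * Z)) (z2 : Z * B2 = A2 * (B2 * Z))
    (z3 : Z * B3 = A3 * (B3 * Z)) (c : C * C = 1) (_ : Commute C A1) (a3 : Commute C A3)
    (b3 : Commute C B3) (e31 : A1 * B3 = C * (B3 * A1)) (e12 : A2 * B1 = C * (B1 * A2))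
    (e32 : A2 * B3 = C * (B3 * A2)) :
    Z * (B3 * (B1 * B2)) = C * (A3 * (A1 * A2)) * (B3 * (B1 * B2) * Z) := by
  have k : ∀ {a b : G}, a * b = C * (b * a) → ∀ x, b * (a * x) = C * (a * (b * x)) := fun e x => by
    rw [← mul_assoc _ _ x, ← mul_assoc _ _ x, e, ← mul_assoc, ← mul_assoc, c, one_mul]
  have l : ∀ {a : G}, Commute C a → ∀ x, a * (C * x) = C * (a * x) := fun e x => by
    rw [← mul_assoc, ← e.eq, mul_assoc]
  have l' : ∀ {a b : G}, Z * b = a * (b * Z) → ∀ x, Z * (b * x) = a * (b * (Z * x)) := fun e x => by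
    rw [← mul_assoc, e]; simp only [mul_assoc]
  have cc : ∀ x, C * (C * x) = x := fun x => by rw [← mul_assoc, c, one_mul]
  rw [l' z3, l' z1, z2, k e31, k e12, l b3, k e32]
  simp only [mul_assoc, l a3, cc]

theorem x0 (h : VX B ι Xs Ys) {u w : M} (e : B u w = 0) : Xs u w 0 = 1 := by
  have := h.xadd u w 0 0 e
  rwa [add_zero, left_eq_mul] at this

theorem xsq (h : VX B ι Xs Ys) (h2 : (2 : K) = 0) {u w : M} (e : B u w = 0) (s : K) :
    Xs u w s * Xs u w s = 1 := by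
  rw [← h.xadd u w s s e, show s + s = 0 by linear_combination s * h2, x0 h e]

theorem yeq (h : VX B ι Xs Ys) (h2 : (2 : K) = 0) {w y z : M} (e : B w y = 0) (e' : B w z = 0)
    (e1 : B y z = 1) (s : K) : Ys w (s * s) = Xs w (y + z) s * (Xs w y s * Xs w z s) := by
  rw [h.mul w y z s e e', ← mul_assoc, xsq h h2 (by simp [e, e']), one_mul, e1, map_one, one_mul]

theorem c2 (h : VX B ι Xs Ys) (m : Mo B) (h2 : (2 : K) = 0) {u p w y z : M} (up : B u p = 0)
    (uw : B u w = 0) (pw : B p w = 1) (uy : B u y = 0) (uz : B u z = 0) (py : B p y = 0)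
    (pz : B p z = 0) (wy : B w y = 0) (wz : B w z = 0) (yz : B y z = 1) (s l : K) :
    Xs u p s * Ys w (l * l) =
      Xs u w (s * (l * l)) * Ys u (s * s * (l * l)) * (Ys w (l * l) * Xs u p s) := by
  have zy : B z y = 1 := (m.symm _ _).trans yz
  have z0 : ∀ v, B u v = 0 → B p v = 0 → B w v = 0 →
      Xs u p s * Xs w v l = Xs u v (s * l) * (Xs w v l * Xs u p s) := fun v a b c => by
    have := h.a2 p u v w s l ⟨m.swap b, m.swap a, m.swap up⟩ (m.swap c) uw
    rwa [pw, map_one, one_mul] at this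
  have e0 : ∀ v v', B u v = 0 → B w v = 0 → B u v' = 0 → B w v' = 0 → B v v' = 1 →
      Xs u v (s * l) * Xs w v' l = Xs u w (s * (l * l)) * (Xs w v' l * Xs u v (s * l)) :=
    fun v v' a b c d e => by
      have := h.a2 v u w v' (s * l) l ⟨b, m.swap uw, m.swap a⟩ d c
      rwa [e, map_one, one_mul, h.sym v' w l (m.swap d), mul_assoc s] at this
  have uq : B u (y + z) = 0 := by simp [uy, uz]
  have wq : B w (y + z) = 0 := by simp [wy, wz]
  rw [yeq h h2 wy wz yz, show s * s * (l * l) = (s * l) * (s * l) by ring, yeq h h2 uy uz yz]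
  refine grp (z0 y uy py wy) (z0 z uz pz wz) (z0 _ uq (by simp [py, pz]) wq) (xsq h h2 uw _)
    (h.xq _ _ _ _ _ uw uy) (h.xq _ _ _ _ _ uw uq) ?_ (e0 _ _ uy wy uq wq (by simp [m.alt y, yz]))
    (e0 _ _ uz wz uy wy zy) (e0 _ _ uz wz uq wq (by simp [m.alt z, zy]))
  rw [h.sym u w _ uw]
  exact h.xq _ _ _ _ _ (m.swap uw) wq

end XD

theorem VX.stc {Xs : M → M → K → G} {Ys : M → K → G} (h : VX B ι Xs Ys) (m : Mo B) (h2 : (2 : K) = 0)
    {n : ℕ} {b : Ix n → M} (k : Sb B b) : StC (fun a c => Xs (b a) (b c)) fun a => Ys (b a) := by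
  have o : ∀ {a c : Ix n}, c ≠ a.swap → B (b a) (b c) = 0 := fun e => by rw [k.form, if_neg e]
  have o' : ∀ {a c : Ix n}, idx a ≠ idx c → B (b a) (b c) = 0 := fun e => o fun e' => e (by
    rw [e', Chev.SpAm.idx_swap])
  have o1 : ∀ a : Ix n, B (b a) (b a.swap) = 1 := fun a => by rw [k.form, if_pos rfl]
  refine ⟨h2, fun a c s e => h.sym _ _ s (o' e), fun a c s r e => h.xadd _ _ s r (o' e),
    fun a s r => h.yadd _ s r, fun a c s r e => h.yy _ _ s r (o e),
    fun a c d s r e e1 e2 => h.yx _ _ _ s r ⟨o e1, o e2, o' e⟩,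
    fun a c d e s r e1 e2 e3 e4 e5 e6 => h.xx _ _ _ _ s r ⟨o' e1, o e3, o e4⟩ ⟨o' e1, o e5, o e6⟩ (o' e2),
    fun a c s r e => h.xq _ _ _ s r (o' e) (o' (by simpa using e)), fun a c d s r e1 e2 e3 => ?_,
    fun a c s r e => ?_⟩
  · have := h.a2 (b c) (b a) (b d) (b c.swap) s r ⟨o' e3.symm, o' e2.symm, o' e1.symm⟩
      (o' (by simpa using e3.symm)) (o' (by simpa using e1))
    rwa [o1, map_one, one_mul] at this
  · have h3 : 3 ≤ n := k.dim ▸ m.three_le
    obtain ⟨d, d1, d2⟩ : ∃ d : Ix n, idx a ≠ idx d ∧ idx c ≠ idx d := by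
      by_cases c0 : idx a ≠ 0 ∧ idx c ≠ 0
      · exact ⟨.inl ⟨0, by omega⟩, c0⟩
      by_cases c1 : idx a ≠ 1 ∧ idx c ≠ 1
      · exact ⟨.inl ⟨1, by omega⟩, c1⟩
      exact ⟨.inl ⟨2, by omega⟩, by simp; omega⟩
    obtain ⟨l, rfl⟩ : ∃ l : K, l * l = r := Finite.surjective_of_injective (f := fun c : K => c * c)
      (fun x y (e : x * x = y * y) => sub_eq_zero.1 (pow_eq_zero_iff two_ne_zero |>.1 (by
        linear_combination e + (y ^ 2 - x * y) * h2 : (x - y) ^ 2 = 0))) r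
    exact XD.c2 h m h2 (y := b d) (z := b d.swap) (o' e) (o' (by simpa using e)) (o1 c) (o' d1)
      (o' (by simpa using d1)) (o' d2) (o' (by simpa using d2)) (o' (by simpa using d2))
      (o' (by simpa using d2)) (o1 d) s l

end Cfsg.Lib.SPW
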