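import Cfsg.Agent.SPW.Api
import Cfsg.Agent.SPW.C0
import Cfsg.Agent.SPW.C0b
import Cfsg.Agent.SPW.C9

/-! # Involutions of `Sp(M)` are conjugate to rational ones -/

set_option autoImplicit false
set_option linter.unusedSectionVars false

namespace Cfsg.Lib.SPW

open Subgroup Module Cfsg.Lib.Trans Cfsg.Lib.Gold Cfsg.Lib.Class.Form Cfsg.Lib.Class.FAut
open Cfsg.Lib.UM (tT tE VW RR Fx St QW Cf mp Semi fa Mp cx re Ot kk Mx)
open Cfsg.Lib.SPN
open Cfsg.Lib.SG2 (Uq Top)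
open Cfsg.Lib.Comp (Tw)
open Cfsg.Lib.Chev.SpAm (Ix Sp bv idx Fn FixI pl TM)
open scoped commutatorElement

variable {F M : Type*} [Field F] [Finite F] [AddCommGroup M] [Module F M] [FiniteDimensional F M]
  {B : M →ₗ[F] M →ₗ[F] F} {c c' : ℕ → M} {α : MulAut (sIsom B)} {Γ : M ≃+ M} {τ : F ≃+* F}
  {γ : (F ≃+* F) →* MulAut (sIsom B)} {g g' : sIsom B} {i j : ℕ}

namespace RAT

variable {N : Type*} [AddCommGroup N] [Module F N] [FiniteDimensional F N]

theorem ins {O : Submodule F N} {φ : N →ₗ[F] F} {x : N} {s : Set N} (hx : x ∈ O) (h1 : φ x = 1)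
    (hs : LinearIndepOn F id s) (e : Submodule.span F s = O ⊓ LinearMap.ker φ) :
    LinearIndepOn F id (insert x s) ∧ Submodule.span F (insert x s) = O := by
  refine ⟨hs.id_insert fun k => ?_, le_antisymm ?_ fun z hz => ?_⟩
  · rw [e] at k
    exact one_ne_zero (h1.symm.trans k.2)
  · rw [Submodule.span_insert, e]
    exact sup_le ((Submodule.span_singleton_le_iff_mem _ _).2 hx) inf_le_left
  · rw [Submodule.mem_span_insert', e]
    exact ⟨-φ z, add_mem hz (O.smul_mem _ hx), by simp [h1]⟩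

theorem good (h2 : (2 : F) = 0) (S : N →ₗ[F] N →ₗ[F] F) (hS : ∀ x y, S x y = S y x)
    (O : Submodule F N) : ∃ s : Set N, LinearIndepOn F id s ∧ Submodule.span F s = O ∧
      ∀ x ∈ s, ∀ y ∈ s, S x y = 0 ∨ S x y = 1 := by
  induction O using WellFoundedLT.induction with | _ O ih => ?_
  by_cases ha : ∃ x ∈ O, S x x = 1
  · obtain ⟨x, hx, h1⟩ := ha
    obtain ⟨s, s1, s2, s3⟩ := ih (O ⊓ LinearMap.ker (S x)) (lt_of_le_of_ne inf_le_left fun e =>
      one_ne_zero (h1.symm.trans (e.ge hx).2))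
    have k : ∀ y ∈ s, S x y = 0 := fun y hy => (s2.le (Submodule.subset_span hy)).2
    refine ⟨_, (ins hx h1 s1 s2).1, (ins hx h1 s1 s2).2, ?_⟩
    rintro a (rfl | ha) b (rfl | hb)
    exacts [.inr h1, .inl (k _ hb), .inl ((hS _ _).trans (k _ ha)), s3 a ha b hb]
  have alt : ∀ x ∈ O, S x x = 0 := fun x hx => by_contra fun k => by
    have : CharP F 2 := CharTwo.of_one_ne_zero_of_two_eq_zero one_ne_zero h2
    obtain ⟨a, e⟩ := FiniteField.isSquare_of_char_two (ringChar.eq F 2) (S x x)⁻¹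
    exact ha ⟨a • x, O.smul_mem a hx, by
      simp only [map_smul, LinearMap.smul_apply, smul_eq_mul]
      rw [← mul_assoc, ← e, inv_mul_cancel₀ k]⟩
  by_cases hb : ∃ x ∈ O, ∃ y ∈ O, S x y = 1
  · obtain ⟨x, hx, y, hy, h1⟩ := hb
    have h1' : S y x = 1 := (hS _ _).trans h1
    obtain ⟨s, s1, s2, s3⟩ := ih (O ⊓ LinearMap.ker (S y) ⊓ LinearMap.ker (S x))
      (lt_of_le_of_ne (inf_le_left.trans inf_le_left) fun e =>
        one_ne_zero (h1'.symm.trans (e.ge hx).1.2))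
    have k : ∀ z ∈ s, S x z = 0 ∧ S y z = 0 := fun z hz =>
      ⟨(s2.le (Submodule.subset_span hz)).2, (s2.le (Submodule.subset_span hz)).1.2⟩
    obtain ⟨t1, t2⟩ := ins (O := O ⊓ LinearMap.ker (S y)) ⟨hy, alt y hy⟩ h1 s1 s2
    refine ⟨_, (ins hx h1' t1 t2).1, (ins hx h1' t1 t2).2, ?_⟩
    rintro a (rfl | rfl | ha) b (rfl | rfl | hb)
    exacts [.inl (alt _ hx), .inr h1, .inl (k _ hb).1, .inr h1', .inl (alt _ hy), .inl (k _ hb).2,
      .inl ((hS _ _).trans (k _ ha).1), .inl ((hS _ _).trans (k _ ha).2), s3 a ha b hb]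
  obtain ⟨s, s1, s2, s3⟩ := exists_linearIndependent F (O : Set N)
  refine ⟨s, s3, by rw [s2, Submodule.span_eq], fun x hx y hy => .inl (by_contra fun k => ?_)⟩
  exact hb ⟨x, s1 hx, (S x y)⁻¹ • y, O.smul_mem _ (s1 hy), by
    rw [map_smul, smul_eq_mul, inv_mul_cancel₀ k]⟩

end RAT

theorem sym_basis {N : Type*} [AddCommGroup N] [Module F N] [FiniteDimensional F N] (h2 : (2 : F) = 0)
    (S : N →ₗ[F] N →ₗ[F] F) (hS : ∀ x y, S x y = S y x) :
    ∃ b : Basis (Fin (finrank F N)) F N, ∀ i j, S (b i) (b j) = 0 ∨ S (b i) (b j) = 1 := by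
  obtain ⟨s, s1, s2, s3⟩ := RAT.good h2 S hS ⊤
  let b : Basis s F N := Basis.mk (v := Subtype.val) s1 (by rw [Subtype.range_coe, s2])
  refine ⟨b.reindex (b.indexEquiv (finBasis F N)), fun i j => ?_⟩
  have k : ∀ i, b i ∈ s := fun i => (Basis.mk_apply (v := Subtype.val) s1 _ i).symm ▸ i.2
  rw [Basis.reindex_apply, Basis.reindex_apply]
  exact s3 _ (k _) _ (k _)

theorem RAT.sy (h : Mo B) (x y : M) : B x y = B y x := by
  have := h.alt (x + y)
  simp only [map_add, LinearMap.add_apply, h.alt] at this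
  linear_combination this - B y x * h.two

theorem RAT.chain (k : Ch B c) (h : Mo B) (e : g * g = 1) (hg : g ∈ VW B (Lf F c (kk F M))) :
    ∃ c', Ch B c' ∧ ∀ i j, B (c' i) (lin g (c' j)) = 0 ∨ B (c' i) (lin g (c' j)) = 1 := by
  classical
  generalize hn : kk F M = n at hg
  have hk : ∀ i j, B (c i) (c j) = if i + j + 1 = 2 * n then 1 else 0 := hn ▸ k
  let κ : (Fin n → F) →ₗ[F] M := Fintype.linearCombination F fun i => c i
  let ι : (Fin n → F) →ₗ[F] M := Fintype.linearCombination F fun i => c (2 * n - 1 - i)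
  have ti : TotIso B (Lf F c n) := k.ti h hn.ge
  have κW : ∀ u, κ u ∈ Lf F c n := fun u => by
    rw [Fintype.linearCombination_apply]
    exact Submodule.sum_mem _ fun i _ => Submodule.smul_mem _ _ (mem_Lf_of i.2)
  have ιι : ∀ x y, B (ι x) (ι y) = 0 := fun x y => by
    simp only [ι, Fintype.linearCombination_apply, map_sum, map_smul, LinearMap.sum_apply,
      LinearMap.smul_apply, hk]
    exact Finset.sum_eq_zero fun i _ => by
      rw [Finset.sum_eq_zero fun j _ => by rw [if_neg (by omega), smul_zero], smul_zero]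
  have κι : ∀ u x, B (κ u) (ι x) = ∑ i, x i * u i := fun u x => by
    simp only [κ, ι, Fintype.linearCombination_apply, map_sum, map_smul, LinearMap.sum_apply,
      LinearMap.smul_apply, hk, smul_eq_mul]
    refine Finset.sum_congr rfl fun i _ => ?_
    rw [Finset.sum_eq_single i (fun j _ hj => by
      rw [if_neg (fun e => hj (Fin.ext (by omega))), mul_zero]) (by simp), if_pos (by omega), mul_one]
  obtain ⟨b, hb⟩ := sym_basis h.two (B.compl₁₂ ι ((lin g : M →ₗ[F] M) ∘ₗ ι)) fun x y => by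
    change B (ι x) (lin g (ι y)) = B (ι y) (lin g (ι x))
    rw [← lin_isom g, ← lin_mul, e, lin_one, RAT.sy h]
  let b' := b.reindex (finCongr (Module.finrank_fin_fun F))
  have hb' : ∀ i j, B (ι (b' i)) (lin g (ι (b' j))) = 0 ∨ B (ι (b' i)) (lin g (ι (b' j))) = 1 :=
    fun i j => by
      simp only [b', Basis.reindex_apply]
      exact hb _ _
  clear_value b'
  let a : Fin n → M := fun i => κ fun j => b'.repr (Pi.single j 1) i
  have ab : ∀ i j, B (a i) (ι (b' j)) = if i = j then 1 else 0 := fun i j => by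
    rw [κι]
    have : b'.repr (b' j) i = ∑ l, b' j l * b'.repr (Pi.single l 1) i := by
      conv_lhs => rw [pi_eq_sum_univ' (b' j)]
      simp
    rw [← this, b'.repr_self, Finsupp.single_apply]
    exact if_congr eq_comm rfl rfl
  let c' : ℕ → M := fun j => if h : j < n then a ⟨j, h⟩ else
    if h' : j < 2 * n then ι (b' ⟨2 * n - 1 - j, by omega⟩) else 0
  have cs : ∀ j, (∃ h : j < n, c' j = a ⟨j, h⟩) ∨
      (∃ h : 2 * n - 1 - j < n, n ≤ j ∧ j < 2 * n ∧ c' j = ι (b' ⟨_, h⟩)) ∨ (2 * n ≤ j ∧ c' j = 0) := by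
    intro j
    by_cases h1 : j < n
    · exact .inl ⟨h1, dif_pos h1⟩
    by_cases h2 : j < 2 * n
    · exact .inr (.inl ⟨by omega, by omega, h2, (dif_neg h1).trans (dif_pos h2)⟩)
    · exact .inr (.inr ⟨by omega, (dif_neg h1).trans (dif_neg h2)⟩)
  clear_value c'
  have k' : ∀ i j, B (c' i) (c' j) = if i + j + 1 = 2 * n then 1 else 0 := fun i j => by
    rcases cs i with ⟨i1, e1⟩ | ⟨i1, i2, i3, e1⟩ | ⟨i1, e1⟩ <;>
      rcases cs j with ⟨j1, e2⟩ | ⟨j1, j2, j3, e2⟩ | ⟨j1, e2⟩ <;> rw [e1, e2]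
    · rw [if_neg (by omega)]; exact ti _ (κW _) _ (κW _)
    · rw [ab]; exact if_congr (by rw [Fin.ext_iff]; dsimp only; omega) rfl rfl
    · rw [if_neg (by omega), map_zero]
    · rw [RAT.sy h, ab]; exact if_congr (by rw [Fin.ext_iff]; dsimp only; omega) rfl rfl
    · rw [if_neg (by omega), ιι]
    · rw [if_neg (by omega), map_zero]
    all_goals rw [if_neg (by omega)]; simp
  have k2 : ∀ i j, B (c' i) (c' j) = 0 ∨ B (c' i) (c' j) = 1 := fun i j => by
    rw [k']; split_ifs <;> simp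
  refine ⟨c', fun i j => by rw [hn]; exact k' i j, fun i j => ?_⟩
  rcases cs j with ⟨j1, e2⟩ | ⟨j1, j2, j3, e2⟩ | ⟨j1, e2⟩
  · rw [show lin g (c' j) = c' j from (h.VW_le_QW ti hg).1 _ (e2 ▸ κW _)]
    exact k2 i j
  · rcases cs i with ⟨i1, e1⟩ | ⟨i1, i2, i3, e1⟩ | ⟨i1, e1⟩
    · have := ti (c' i) (e1 ▸ κW _) _ (UM.mem_VW.1 hg (c' j))
      rw [map_sub, sub_eq_zero] at this
      rw [this]
      exact k2 i j
    · rw [e1, e2]; exact hb' _ _
    · rw [e1]; simp
  · rw [e2]; simp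

theorem Sc.rat (k : Sc B c α Γ τ) (h : Mo B) (e : g * g = 1) : ∃ l, l * g * l⁻¹ ∈ Cf α := by
  obtain ⟨l, hl⟩ := mx_inv h (k.ch.mx h) e
  obtain ⟨c', k', hc⟩ := RAT.chain k.ch h (g := l * g * l⁻¹)
    (by rw [conj_mul, e, mul_one, mul_inv_cancel]) hl
  obtain ⟨m, hm⟩ := k'.tr h k.ch
  refine ⟨m * l, (k.mem_Cf h).2 fun i j => ?_⟩
  rw [show m * l * g * (m * l)⁻¹ = m * (l * g * l⁻¹) * m⁻¹ by group, ← hm i, ← hm j, lin_mul,
    lin_inv_lin, lin_mul, lin_isom]
  rcases hc i j with e | e <;> rw [e] <;> simp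

end Cfsg.Lib.SPW
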