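import Cfsg.Agent.SPW.Api
import Cfsg.Agent.SPW.C0
import Cfsg.Agent.SPW.C0b

/-!
# The centre of the unitriangular group
-/

set_option autoImplicit false
set_option linter.unusedSectionVars false

namespace Cfsg.Lib.SPW

open Subgroup Module Cfsg.Lib.Trans Cfsg.Lib.Gold Cfsg.Lib.Class.Form Cfsg.Lib.Class.FAut
open Cfsg.Lib.UM (tT tE VW RR Fx St QW Cf mp Semi fa Mp cx re Ot kk Mx)
open Cfsg.Lib.SPN
open scoped commutatorElement

section Model
variable {F M : Type*} [Field F] [Finite F] [AddCommGroup M] [Module F M] [FiniteDimensional F M]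
  {B : M →ₗ[F] M →ₗ[F] F} {c c' : ℕ → M} {α : MulAut (sIsom B)} {Γ : M ≃+ M} {τ : F ≃+* F}
  {g g' : sIsom B} {i j : ℕ}

theorem C3.mE (k : Sc B c α Γ τ) (h : Mo B) (e : i < j) (e' : i + j + 1 < 2 * kk F M) {a : F}
    (ha : τ a = a) : tE B (c i) (a • c j) ∈ UU B c ⊓ Cf α :=
  ⟨k.ch.tE_mem h e e' a, show α _ = _ by rw [k.aE h e'.ne, ha]⟩

theorem C3.mT (k : Sc B c α Γ τ) (h : Mo B) (hi : i < kk F M) {a : F} (ha : τ a = a) :
    tT B (c i) a ∈ UU B c ⊓ Cf α :=
  ⟨k.ch.tT_mem h hi a, show α _ = _ by rw [k.aT h, ha]⟩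

theorem C3.sym (h : Mo B) (x y : M) : B x y = B y x := by
  have := h.alt (x + y)
  simp only [map_add, LinearMap.add_apply, h.alt] at this
  linear_combination this - h.add_self (B y x)

theorem Sc.mem_Z (k : Sc B c α Γ τ) (h : Mo B)
    (hg : g ∈ (UU B c ⊓ Cf α) ⊓ Cs (UU B c ⊓ Cf α)) :
    ∃ a b : F, τ a = a ∧ τ b = b ∧ g = ee B (c 0) (b • c 1) a := by
  have k3 := h.three_le
  have ch := k.ch
  have cm : ∀ y ∈ UU B c ⊓ Cf α, Commute g y := fun y hy => (mem_centralizer_iff.1 hg.2 y hy).symm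
  have fe : ∀ i, i < kk F M → lin g (c i) = c i := fun i hi =>
    (h.comm_tT one_ne_zero).1 (cm _ (C3.mT k h hi (map_one τ)))
  obtain ⟨d, hd⟩ : ∃ d : M → M, ∀ y, lin g y = y + d y := ⟨fun y => lin g y - y, fun y => by simp⟩
  have d0 : ∀ i, i < kk F M → ∀ y, B (c i) (d y) = 0 := fun i hi y => by
    have := lin_isom g (c i) y
    rwa [fe i hi, hd, map_add, add_eq_left] at this
  have dW : ∀ y, d y ∈ Lf F c (kk F M) := fun y => (ch.mem_Lf h).2 fun i hi => d0 i (by omega) y
  have ds : ∀ x y, B x (d y) = B y (d x) := fun x y => by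
    have := lin_isom g x y
    rw [hd, hd] at this
    simp only [map_add, LinearMap.add_apply] at this
    rw [ch.ti h le_rfl _ (dW x) _ (dW y), C3.sym h (d x)] at this
    linear_combination this - h.add_self (B y (d x))
  have key : ∀ i j, i < j → j < kk F M → d (c (2 * kk F M - 1 - j)) =
      B (c (2 * kk F M - 1 - j)) (d (c (2 * kk F M - 1 - i))) • c i := fun i j e hj => by
    have o : B (c i) ((1 : F) • c (2 * kk F M - 1 - j)) = 0 := by
      rw [one_smul, ch, if_neg (by omega)]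
    have := congrArg (fun y => lin y (c (2 * kk F M - 1 - i)))
      (cm _ (C3.mE k h (i := i) (j := 2 * kk F M - 1 - j) (by omega) (by omega) (map_one τ))).eq
    simp only [lin_mul, h.lin_tE o] at this
    rw [one_smul, hd (c (2 * kk F M - 1 - i)), map_add (B _), map_add (B _), d0 i (by omega), ch, ch,
      if_pos (by omega), if_neg (by omega), one_smul, zero_smul, add_zero, map_add, hd, hd, add_zero,
      one_smul, zero_add] at this
    linear_combination (norm := abel1) this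
  have k0 : ∀ l, l < 2 * kk F M → l + 1 ≠ 2 * kk F M → l + 2 ≠ 2 * kk F M →
      B (c l) (d (c (2 * kk F M - 1))) = 0 := fun l h1 h2 h3 => by
    by_cases e : l < kk F M
    · exact d0 l e _
    · rw [ds, show l = 2 * kk F M - 1 - (2 * kk F M - 1 - l) by omega, key 1 _ (by omega) (by omega),
        map_smul, ch, if_neg (by omega), smul_zero]
  have ft : ∀ i j, τ (B (c i) (d (c j))) = B (c i) (d (c j)) := fun i j => by
    have e1 := (k.mem_Cf h).1 hg.1.2 i j
    have e2 := k.semi.form (c i) (c j)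
    rw [k.fix, k.fix] at e2
    rwa [hd, map_add, map_add, ← e2, add_right_inj] at e1
  refine ⟨_, _, ft (2 * kk F M - 1) (2 * kk F M - 1), ft (2 * kk F M - 2) (2 * kk F M - 1),
    ch.ext h fun j hj => ?_⟩
  rw [h.lin_ee (by rw [map_smul, ch, if_neg (by omega), smul_zero]), LinearMap.map_smul₂, ch, ch]
  by_cases e : j < kk F M
  · rw [fe j e, if_neg (by omega), if_neg (by omega)]
    simp
  rw [hd, add_assoc, add_right_inj]
  by_cases e1 : j + 1 = 2 * kk F M
  · rw [if_pos (by omega), if_neg (by omega), show j = 2 * kk F M - 1 by omega]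
    refine sub_eq_zero.1 (ch.eq_zero h fun l hl => ?_)
    simp only [map_sub, map_add, map_smul, ch l, smul_eq_mul, mul_zero, zero_add, mul_one, one_mul]
    by_cases e2 : l + 1 = 2 * kk F M
    · rw [if_neg (by omega), if_pos (by omega), show l = 2 * kk F M - 1 by omega]
      ring
    by_cases e3 : l + 2 = 2 * kk F M
    · rw [if_pos (by omega), if_neg (by omega), show l = 2 * kk F M - 2 by omega]
      ring
    · rw [if_neg (by omega), if_neg (by omega), k0 l hl e2 e3]
      ring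
  have := key 0 (2 * kk F M - 1 - j) (by omega) (by omega)
  rw [show 2 * kk F M - 1 - (2 * kk F M - 1 - j) = j by omega, Nat.sub_zero] at this
  rw [this, if_neg (by omega)]
  by_cases e3 : j + 2 = 2 * kk F M
  · rw [if_pos (by omega), show j = 2 * kk F M - 2 by omega]
    simp
  · rw [if_neg (by omega), k0 j hj e1 e3]
    simp

theorem Sc.zle (k : Sc B c α Γ τ) (h : Mo B) :
    (UU B c ⊓ Cf α) ⊓ Cs (UU B c ⊓ Cf α) ≤ ⁅UU B c ⊓ Cf α, UU B c ⊓ Cf α⁆ := by
  intro g hg
  obtain ⟨a, b, ha, hb, rfl⟩ := k.mem_Z h hg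
  have k3 := h.three_le
  have ch := k.ch
  have o : ∀ i j (s : F), i + j + 1 ≠ 2 * kk F M → B (c i) (s • c j) = 0 := fun i j s e => by
    rw [map_smul, ch, if_neg e, smul_zero]
  have m1 := commutator_mem_commutator (C3.mT k h (i := 1) (by omega) ha)
    (C3.mE k h (i := 0) (j := 2 * kk F M - 2) (by omega) (by omega) (map_one τ))
  rw [← h.ee_zero, h.comm_T (o _ _ _ (by omega)) (by rw [ch, if_neg (by omega)]), one_smul, ch,
    if_pos (by omega), mul_one, mul_one] at m1
  have m2 := commutator_mem_commutator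
    (C3.mE k h (i := 1) (j := 2 * kk F M - 3) (by omega) (by omega) (a := a + b) (by rw [map_add, ha, hb]))
    (C3.mE k h (i := 0) (j := 2) (by omega) (by omega) (map_one τ))
  rw [commutatorElement_def, h.tE_conj _ (o _ _ _ (by omega)), h.lin_tE (o _ _ _ (by omega)),
    h.lin_tE (o _ _ _ (by omega)), o _ _ _ (by omega), one_smul, LinearMap.map_smul₂,
    LinearMap.map_smul₂, ch, ch, ch, if_neg (by omega), if_neg (by omega), if_pos (by omega), zero_smul,
    smul_zero, zero_smul, add_zero, add_zero, add_zero, smul_eq_mul, mul_one, add_comm (c 2),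
    h.tE_add ⟨o _ _ _ (by omega), by rw [ch, if_neg (by omega)],
      by rw [LinearMap.map_smul₂, ch, if_neg (by omega), smul_zero]⟩, mul_inv_cancel_right,
    ← h.ee_zero] at m2
  have := mul_mem m1 m2
  rwa [h.ee_mul (o _ _ _ (by omega)) (o _ _ _ (by omega)), ← add_smul, ← add_assoc, h.add_self, zero_add,
    add_zero, LinearMap.map_smul₂, o _ _ _ (by omega), smul_zero, add_zero] at this

theorem Sc.zc (k : Sc B c α Γ τ) (h : Mo B) :
    Nat.card ((UU B c ⊓ Cf α) ⊓ Cs (UU B c ⊓ Cf α) : Subgroup (sIsom B)) ^ 2 <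
      qf τ ^ (kk F M ^ 2) := by
  choose a b ha hb e using
    fun g : ((UU B c ⊓ Cf α) ⊓ Cs (UU B c ⊓ Cf α) : Subgroup (sIsom B)) => k.mem_Z h g.2
  have l := Nat.card_le_card_of_injective
    (fun g => ((⟨a g, ha g⟩, ⟨b g, hb g⟩) : {a : F // τ a = a} × {a : F // τ a = a})) fun g g' k =>
      Subtype.ext (by
        rw [e g, e g', show a g = a g' from congrArg (·.1.1) k, show b g = b g' from congrArg (·.2.1) k])
  have q2 : 1 < qf τ := Finite.one_lt_card_iff_nontrivial.2
    ⟨⟨0, map_zero τ⟩, ⟨1, map_one τ⟩, fun e => zero_ne_one (congrArg Subtype.val e)⟩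
  rw [Nat.card_prod, ← pow_two] at l
  refine (Nat.pow_le_pow_left l 2).trans_lt ?_
  rw [← pow_mul]
  have := h.three_le
  exact Nat.pow_lt_pow_right q2 (by nlinarith)

theorem Ch.Z_mem (k : Ch B c) (h : Mo B) (a b : F) :
    ee B (c 0) (b • c 1) a ∈ UU B c ⊓ Cs (UU B c) := by
  have k3 := h.three_le
  obtain ⟨o, m⟩ := k.ee_mem h (i := 0) (by omega) (x := b • c 1)
    (Submodule.smul_mem _ _ (Submodule.subset_span ⟨1, ⟨by omega, by omega⟩, rfl⟩)) a
  refine ⟨m.1, mem_centralizer_iff.2 fun g hg => ?_⟩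
  have e0 := (k.mem_U h).1 hg 0
  have e1 := (k.mem_U h).1 hg 1
  rw [Lf_zero, Submodule.mem_bot, sub_eq_zero] at e0
  rw [Lf_one, Submodule.mem_span_singleton] at e1
  obtain ⟨s, e1⟩ := e1
  rw [← mul_inv_eq_iff_eq_mul, h.ee_conj g o, e0, map_smul, ← add_sub_cancel (c 1) (lin g (c 1)),
    ← e1, smul_add, smul_smul, h.ee_add_self o]

end Model

end Cfsg.Lib.SPW
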