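import Cfsg.Agent.SPW.Api

/-!
# The wreath end game: the weakly closed subgroup `J J'`
-/

set_option autoImplicit false
set_option linter.unusedSectionVars false

namespace Cfsg.Lib.SPW

open Subgroup Cfsg.Lib.Trans Cfsg.Lib.Gold
open Cfsg.Lib.UM (N0.common N0.sq_cj N0.sup_sq N0.sub_Cs N0.sub_inf N0.le_Ns1)
open scoped commutatorElement

variable {G Γ : Type*} [Group G] [Finite G] [CommGroup Γ] [Finite Γ] {A B U V D E X J J' K : Subgroup G}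
  {θ η : G → Γ} {n₀ b₀ m : ℕ} {t g g' v r r' : G}

theorem itc_le (h : U ≤ Ns J) (m : ℕ) : itc J U m ≤ J := by
  induction m with
  | zero => exact le_rfl
  | succ m ih =>
    rw [itc_succ]
    exact (commutator_mono ih le_rfl).trans (commutator_le_left_of_le h)

theorem itc_mono {J J' U U' : Subgroup G} (h : J ≤ J') (h' : U ≤ U') (m : ℕ) :
    itc J U m ≤ itc J' U' m := by
  induction m with
  | zero => exact h
  | succ m ih =>
    rw [itc_succ, itc_succ]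
    exact commutator_mono ih h'

theorem cj_itc (g : G) (J U : Subgroup G) (m : ℕ) : cj g (itc J U m) = itc (cj g J) (cj g U) m := by
  induction m with
  | zero => rfl
  | succ m ih => rw [itc_succ, itc_succ, ← ih]; exact map_commutator _ _ _

theorem Fb.rJ (h : Fb A U J r m) : r ∈ J := itc_le h.UJ _ h.rm

theorem Fb.LZ (h : Fb A U J r m) : itc J U (m + 1) ≤ U ⊓ Cs U :=
  le_inf ((itc_le h.UJ _).trans h.JU) h.lz

theorem WF.J_sq (h : WF A B U V D E θ η n₀ b₀ t X J J' r r' m) : ∀ a ∈ J ⊔ J', a * a = 1 :=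
  N0.sup_sq (N0.sub_Cs h.UV h.ga.JU h.gb.JU) h.ga.el h.gb.el

theorem WF.J_le (h : WF A B U V D E θ η n₀ b₀ t X J J' r r' m) : J ⊔ J' ≤ U ⊔ V :=
  sup_le_sup h.ga.JU h.gb.JU

theorem N1.TJ (h : WF A B U V D E θ η n₀ b₀ t X J J' r r' m) : U ⊔ V ≤ Ns J :=
  sup_le h.ga.UJ ((N0.sub_Cs h.symm.UV le_rfl h.ga.JU).trans Cs_le_Ns)

theorem WF.T_Ns (h : WF A B U V D E θ η n₀ b₀ t X J J' r r' m) : U ⊔ V ≤ Ns (J ⊔ J') :=
  fun _ hg => mem_Ns_sup (N1.TJ h hg) (N1.TJ h.symm (sup_comm U V ▸ hg))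

theorem WF.sylJ (h : WF A B U V D E θ η n₀ b₀ t X J J' r r' m) :
    IsSylowIn 2 (U ⊔ V) (X ⊓ Ns (J ⊔ J')) :=
  h.syl.mono (le_inf h.syl.le h.T_Ns) inf_le_left

theorem N1.half (h : WF A B U V D E θ η n₀ b₀ t X J J' r r' m) (hA : K ≤ U ⊔ V)
    (h2 : ∀ a ∈ K, a * a = 1) (e : Nat.card J * Nat.card J' ≤ Nat.card K) : J' ≤ K := by
  obtain ⟨D, k1, k2, k3⟩ := SG2.exists_proj h.UV h.infU hA h2
  exact ((h.gb.jb (K ⊓ V) inf_le_right fun a ha => h2 a ha.1).2 (Nat.le_of_mul_le_mul_left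
    (e.trans (k3.trans (Nat.mul_le_mul_right _ (h.ga.jb D k1 k2).1))) Nat.card_pos)).ge.trans
    inf_le_left

theorem WF.wc (h : WF A B U V D E θ η n₀ b₀ t X J J' r r' m) (hg : cj g (J ⊔ J') ≤ U ⊔ V) :
    cj g (J ⊔ J') = J ⊔ J' := by
  have e : Nat.card J * Nat.card J' = Nat.card (cj g (J ⊔ J')) := by
    rw [card_cj, h.card_sup (h.ga.JU.trans h.fa.syl.le) (h.gb.JU.trans h.fb.syl.le)]
  exact (eq_of_le_of_card_ge (sup_le
    (N1.half h.symm (sup_comm U V ▸ hg) (N0.sq_cj h.J_sq g) (by rw [mul_comm, e]))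
    (N1.half h hg (N0.sq_cj h.J_sq g) e.le)) (card_cj _ _).le).symm

theorem WF.fus_J (h : WF A B U V D E θ η n₀ b₀ t X J J' r r' m) (hv : v ∈ J ⊔ J') (hg : g ∈ X)
    (hv' : g * v * g⁻¹ ∈ J ⊔ J') : ∃ n ∈ X ⊓ Ns (J ⊔ J'), n * v * n⁻¹ = g * v * g⁻¹ := by
  have k1 := h.J_le.trans h.syl.le
  have k2 := h.syl.isPGroup.to_le h.J_le
  have k3 := le_Cs_of_sq h.J_sq le_rfl
  obtain ⟨c, hc, f, -, e1, e2⟩ := N0.common (w := g * v * g⁻¹) h.syl k2 (isPGroup_cj k2 g)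
    (le_inf k1 (k3.trans (Cs_le_C1 hv')))
    (le_inf (cj_le_of_mem_of_le hg k1) (by
      rw [← cj_C1]; exact cj_mono g (k3.trans (Cs_le_C1 hv))))
  rw [cj_cj] at e2
  have e3 := (h.wc e2).trans (h.wc e1).symm
  rw [mul_assoc, cj_mul, cj_inj] at e3
  exact ⟨c * g, ⟨mul_mem hc.1 hg, mem_Ns_iff.2 e3⟩, by
    rw [show c * g * v * (c * g)⁻¹ = c * (g * v * g⁻¹) * c⁻¹ by group, mem_C1.1 hc.2,
      mul_inv_cancel_right]⟩

end Cfsg.Lib.SPW
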