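import Cfsg.Agent.SPW.Api
import Cfsg.Agent.SPW.C0
import Cfsg.Agent.SPW.C0b
import Cfsg.Agent.SPW.C2
import Cfsg.Agent.SPW.C3
import Cfsg.Agent.SPW.N1

/-!
# Standard subgroups of type `Sp_{2k}(2ⁿ)`, type IV: the last term of the series `[J, U, …, U]`
-/

set_option autoImplicit false
set_option linter.unusedSectionVars false

namespace Cfsg.Lib.SPW

open Subgroup Module Cfsg.Lib.Trans Cfsg.Lib.Gold Cfsg.Lib.Class.Form Cfsg.Lib.Class.FAut
open Cfsg.Lib.UM (tT tE VW RR Fx St QW Cf mp Semi fa Mp cx re Ot kk Mx)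
open Cfsg.Lib.SPN
open Cfsg.Lib.SG2 (Uq Top)
open Cfsg.Lib.Comp (Tw)
open Cfsg.Lib.Chev.SpAm (Ix Sp bv idx Fn FixI pl TM)
open scoped commutatorElement

variable {F M : Type*} [Field F] [Finite F] [AddCommGroup M] [Module F M] [FiniteDimensional F M]
  {B : M →ₗ[F] M →ₗ[F] F} {c : ℕ → M} {g : sIsom B} {j : ℕ}

namespace C10

theorem sym (h : Mo B) (x y : M) : B x y = B y x := by
  have := h.alt (x + y)
  simp only [map_add, LinearMap.add_apply, h.alt] at this
  linear_combination this - B y x * h.two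

theorem cnj {W : Submodule F M} {v : sIsom B} (hv : v ∈ VW B W) (hg : g ∈ St B W) :
    g * v * g⁻¹ ∈ VW B W := UM.mem_VW.2 fun x => by
  have := (hg _).1 (hv (lin g⁻¹ x))
  rwa [map_sub, lin_lin_inv] at this

theorem dmul (h : Mo B) {W : Submodule F M} (hW : TotIso B W) {v w : sIsom B} (hv : v ∈ VW B W)
    (hw : w ∈ VW B W) (x : M) : B x (lin (v * w) x) = B x (lin v x) + B x (lin w x) := by
  have := K2.fix h hv (hW.le_orth (UM.mem_VW.1 hw x))
  rw [map_sub, sub_eq_iff_eq_add] at this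
  rw [lin_mul, this, map_add, map_sub, h.alt, sub_zero, add_comm]

theorem dadd (h : Mo B) {v : sIsom B} (e : v * v = 1) (x y : M) :
    B (x + y) (lin v (x + y)) = B x (lin v x) + B y (lin v y) := by
  have : B x (lin v y) = B y (lin v x) := by
    rw [← lin_isom v x, ← lin_mul, e, lin_one, sym h]
  simp only [map_add, LinearMap.add_apply, this]
  linear_combination B y (lin v x) * h.two

theorem UJ (c : ℕ → M) : UU B c ≤ Ns (VW B (Lf F c (kk F M))) := fun _ hg =>
  Comp.mem_Ns_of fun _ hv => cnj hv (hg _).1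

theorem alt (k : Ch B c) (h : Mo B) (j : ℕ) : ∀ g ∈ itc (VW B (Lf F c (kk F M))) (UU B c) j,
    ∀ x ∈ Lf F c (kk F M + j), B x (lin g x) = 0 := by
  have ti := k.ti h le_rfl
  induction j with
  | zero => exact fun g hg x hx => by rw [K2.fix h hg (ti.le_orth hx), h.alt]
  | succ j ih =>
    let A : Subgroup (sIsom B) :=
      { carrier := {v | v ∈ VW B (Lf F c (kk F M)) ∧
          ∀ x ∈ Lf F c (kk F M + (j + 1)), B x (lin v x) = 0}
        one_mem' := ⟨one_mem _, fun x _ => h.alt x⟩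
        mul_mem' := fun ha hb => ⟨mul_mem ha.1 hb.1, fun x hx => by
          rw [dmul h ti ha.1 hb.1, ha.2 x hx, hb.2 x hx, add_zero]⟩
        inv_mem' := fun ha => by rwa [inv_eq_of_mul_eq_one_right (h.sq_VW ti ha.1)] }
    have : itc (VW B (Lf F c (kk F M))) (UU B c) (j + 1) ≤ A := by
      rw [itc_succ]
      refine commutator_le.2 fun v hv g hg => ?_
      have m := itc_le (UJ c) j hv
      have s := h.sq_VW ti m
      rw [commutatorElement_def, inv_eq_of_mul_eq_one_right s, mul_assoc, mul_assoc, ← mul_assoc g]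
      refine ⟨mul_mem m (cnj m (hg _).1), fun x hx => ?_⟩
      rw [dmul h ti m (cnj m (hg _).1), lin_mul, lin_mul, ← lin_isom g⁻¹ x (lin g _), lin_inv_lin,
        ← dadd h s, add_comm x, ← h.vsub]
      exact ih v hv _ ((inv_mem hg _).2 x hx)
    exact fun g hg => (this hg).2

theorem prod (h : Mo B) {u w s : M} (k : O3 B u w s) :
    ee B u s 1 * ee B (u + w) s 1 = ee B w (u + s) 1 := lin_ext fun x => by
  have a : B (u + w) s = 0 := by simp [k.ux, k.wx]
  have b : B w (u + s) = 0 := by simp [h.swap k.uw, k.wx]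
  simp only [lin_mul, h.lin_ee k.ux, h.lin_ee a, h.lin_ee b, map_add, map_smul, LinearMap.add_apply,
    h.alt, k.uw, k.ux, h.swap k.ux, h.swap k.wx, smul_eq_mul]
  linear_combination (norm := module) h.vadd_self (B u x • s + (B s x + B u x) • u)

theorem step (k : Ch B c) (h : Mo B) {i : ℕ} (hi : i + 1 < kk F M) :
    tE B (c i) (c (2 * kk F M - 1 - (i + 1))) ∈ UU B c ∧
      ∀ x ∈ Lf F c (kk F M), lin (tE B (c i) (c (2 * kk F M - 1 - (i + 1)))) x =
        x + B (c (2 * kk F M - 1 - (i + 1))) x • c i := by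
  refine ⟨by simpa using k.tE_mem h (i := i) (j := 2 * kk F M - 1 - (i + 1)) (by omega) (by omega) 1,
    fun x hx => ?_⟩
  rw [h.lin_tE (by rw [k, if_neg (by omega)]), (k.mem_Lf h).1 hx i (by omega), zero_smul, add_zero]

theorem chain (k : Ch B c) (h : Mo B) (j : ℕ) : ∀ i, i + j + 1 = kk F M → ∃ x ∈ Lf F c (kk F M),
    (∀ l, i < l → l < kk F M → B (c (2 * kk F M - 1 - l)) x = 1) ∧
      (∀ l, l ≤ i → B (c (2 * kk F M - 1 - l)) x = 0) ∧
        ee B (c i) x 1 ∈ itc (VW B (Lf F c (kk F M))) (UU B c) j := by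
  have ti := k.ti h le_rfl
  induction j with
  | zero =>
    refine fun i hi => ⟨0, zero_mem _, fun l _ _ => by omega, fun l _ => map_zero _, ?_⟩
    rw [h.ee_zero']
    exact h.tT_mem (mem_Lf_of (by omega)) 1
  | succ j ih =>
    intro i hi
    obtain ⟨x, hx, h1, h0, hv⟩ := ih (i + 1) (by omega)
    obtain ⟨m, e⟩ := step k h (i := i) (by omega)
    have m1 : c (i + 1) ∈ Lf F c (kk F M) := mem_Lf_of (by omega)
    have m0 : c i ∈ Lf F c (kk F M) := mem_Lf_of (by omega)
    refine ⟨c (i + 1) + x, add_mem m1 hx, fun l a b => ?_, fun l a => ?_, ?_⟩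
    · rw [map_add, k]
      rcases Nat.lt_or_ge (i + 1) l with d | d
      · rw [if_neg (by omega), h1 l d b, zero_add]
      · rw [if_pos (by omega), h0 l d, add_zero]
    · rw [map_add, k, if_neg (by omega), h0 l (by omega), add_zero]
    · have := commutator_mem_commutator hv m
      rw [← itc_succ, commutatorElement_def, inv_eq_of_mul_eq_one_right (h.ee_sq (ti _ m1 _ hx) 1),
        mul_assoc, mul_assoc, ← mul_assoc (tE _ _ _), h.ee_conj _ (ti _ m1 _ hx), e _ m1, e _ hx,
        h0 _ le_rfl, k, if_pos (by omega), one_smul, zero_smul, add_zero,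
        prod h ⟨ti _ m1 _ m0, ti _ m1 _ hx, ti _ m0 _ hx⟩] at this
      exact this

end C10

theorem Ch.itc_alt (k : Ch B c) (h : Mo B) (hj : kk F M ≤ j)
    (hg : g ∈ itc (VW B (Lf F c (kk F M))) (UU B c) j) (x : M) : B x (lin g x) = 0 :=
  C10.alt k h j g hg x ((k.Lf_top h (by omega)).ge Submodule.mem_top)

theorem Ch.itc_ne (k : Ch B c) (h : Mo B) :
    tE B (c 0) (c 1) ∈ itc (VW B (Lf F c (kk F M))) (UU B c) (kk F M) := by
  have ti := k.ti h le_rfl
  have h3 := h.three_le
  obtain ⟨x, hx, h1, -, hv⟩ := C10.chain k h (kk F M - 1) 0 (by omega)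
  obtain ⟨m, e⟩ := C10.step k h (i := 1) (by omega)
  have m1 : c 1 ∈ Lf F c (kk F M) := mem_Lf_of (by omega)
  have m0 : c 0 ∈ Lf F c (kk F M) := mem_Lf_of (by omega)
  have := commutator_mem_commutator hv m
  rwa [← itc_succ, Nat.sub_add_cancel (by omega), commutatorElement_def,
    inv_eq_of_mul_eq_one_right (h.ee_sq (ti _ m0 _ hx) 1), mul_assoc, mul_assoc,
    ← mul_assoc (tE _ _ _), h.ee_conj _ (ti _ m0 _ hx), e _ m0, e _ hx, h1 _ (by omega) (by omega), k,
    if_neg (by omega), one_smul, zero_smul, add_zero,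
    h.ee_mul (ti _ m0 _ hx) (ti _ m0 _ (add_mem hx m1)), ti _ hx _ (add_mem hx m1), h.add_self,
    add_zero, ← add_assoc, h.vadd_self, zero_add, h.ee_zero] at this

theorem Ch.last (k : Ch B c) (h : Mo B) : ∃ (m : ℕ) (s : F), s ≠ 0 ∧
    tE B (c 0) (s • c 1) ∈ itc (VW B (Lf F c (kk F M))) (UU B c) (m + 1) ∧
    ∀ g ∈ itc (VW B (Lf F c (kk F M))) (UU B c) (m + 1), ∃ a : F, g = tE B (c 0) (a • c 1) := by
  classical
  have h3 := h.three_le
  have : Fact (Nat.Prime 2) := ⟨Nat.prime_two⟩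
  have ex : ∃ d, itc (VW B (Lf F c (kk F M))) (UU B c) (kk F M + d) = ⊥ := by
    obtain ⟨n, hn⟩ := (UU B c).isNilpotent_iff_lowerCentralSeries.1 (k.two h).isNilpotent
    have : ∀ n, itc (VW B (Lf F c (kk F M))) (UU B c) n ≤ (UU B c).lowerCentralSeries n := fun n => by
      induction n with
      | zero => exact k.V_le h
      | succ n ih => rw [itc_succ]; exact commutator_mono ih le_rfl
    exact ⟨n, eq_bot_iff.2 ((this _).trans
      (((UU B c).lowerCentralSeries_antitone (Nat.le_add_left _ _)).trans hn.le))⟩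
  have d0 : Nat.find ex ≠ 0 := fun e => by
    have := Nat.find_spec ex
    rw [e, add_zero] at this
    exact h.tE_ne (k.p2 (i := 0) (j := 1) (by omega) (by omega) (by omega) (by omega))
      (mem_bot.1 (this ▸ k.itc_ne h))
  obtain ⟨m, hm⟩ : ∃ m, kk F M + Nat.find ex = m + 1 + 1 := ⟨kk F M + Nat.find ex - 2, by omega⟩
  have e1 := Nat.find_spec ex
  have e2 := Nat.find_min ex (Nat.sub_one_lt d0)
  rw [hm, itc_succ, commutator_eq_bot_iff_le_centralizer] at e1
  rw [show kk F M + (Nat.find ex - 1) = m + 1 by omega] at e2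
  have all : ∀ g ∈ itc (VW B (Lf F c (kk F M))) (UU B c) (m + 1),
      ∃ a : F, g = tE B (c 0) (a • c 1) := fun g hg => by
    obtain ⟨a, b, -, -, e⟩ := k.sc1.mem_Z h (g := g) (by
      rw [Cf_one, inf_top_eq]
      exact ⟨k.V_le h (itc_le (C10.UJ c) _ hg), e1 hg⟩)
    have := k.itc_alt h (by omega) hg (c (2 * kk F M - 1))
    rw [e, h.lin_ee (by rw [map_smul, k, if_neg (by omega), smul_zero])] at this
    simp only [map_add, map_smul, LinearMap.smul_apply, h.alt, smul_eq_mul] at this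
    rw [k, k, k, k, if_pos (by omega), if_neg (by omega), if_neg (by omega), if_pos (by omega)] at this
    exact ⟨b, by rw [e, show a = 0 by simpa using this, h.ee_zero]⟩
  obtain ⟨g, hg, g1⟩ := (bot_or_exists_ne_one _).resolve_left e2
  obtain ⟨s, rfl⟩ := all g hg
  exact ⟨m, s, fun e => g1 (by rw [e, zero_smul, h.tE_zero]), hg, all⟩

end Cfsg.Lib.SPW
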