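import Cfsg.Agent.SPW.Api
import Cfsg.Agent.SPW.C0

/-! Regular unipotent elements have abelian centralisers. -/

set_option autoImplicit false
set_option linter.unusedSectionVars false

namespace Cfsg.Lib.SPW

open Subgroup Module Cfsg.Lib.Trans Cfsg.Lib.Gold Cfsg.Lib.Class.Form Cfsg.Lib.Class.FAut
open Cfsg.Lib.UM (tT tE VW RR Fx St QW Cf mp Semi fa Mp cx re Ot kk Mx)
open Cfsg.Lib.SPN

variable {F M : Type*} [Field F] [Finite F] [AddCommGroup M] [Module F M] [FiniteDimensional F M]
  {B : M →ₗ[F] M →ₗ[F] F} {c : ℕ → M} {g g' : sIsom B}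

theorem C4.top (k : Ch B c) (h : Mo B) {b : sIsom B} (hb : b ∈ UU B c)
    (hr : ∀ i, i + 1 < 2 * kk F M → B (c (2 * kk F M - 1 - i)) (lin b (c (i + 1))) ≠ 0)
    {W : Submodule F M} (h1 : c (2 * kk F M - 1) ∈ W) (h2 : ∀ x ∈ W, lin b x - x ∈ W) : W = ⊤ := by
  have step : ∀ i, i + 1 < 2 * kk F M → (∃ w ∈ W, w - c (i + 1) ∈ Lf F c (i + 1)) →
      ∃ w ∈ W, w - c i ∈ Lf F c i := by
    rintro i hi ⟨w, hw, e⟩
    obtain ⟨a, ha⟩ := mem_Lf_succ.1 ((hb (i + 1)).2 _ (mem_Lf_of (Nat.lt_succ_self (i + 1))))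
    have a0 : a ≠ 0 := by
      have := (k.mem_Lf h).1 ha (2 * kk F M - 1 - i) (by omega)
      rw [map_sub, map_sub, map_smul, k, k, if_neg (by omega), if_pos (by omega), sub_zero,
        smul_eq_mul, mul_one, sub_eq_zero] at this
      exact this ▸ hr i hi
    refine ⟨a⁻¹ • (lin b w - w), W.smul_mem _ (h2 w hw), ?_⟩
    have := Submodule.smul_mem _ a⁻¹ (add_mem ((hb i).2 _ e) ha)
    convert this using 1
    rw [map_sub, smul_add, smul_sub a⁻¹ _ (a • c i), inv_smul_smul₀ a0]
    module
  have all : ∀ r i, i + r + 1 = 2 * kk F M → ∃ w ∈ W, w - c i ∈ Lf F c i := by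
    intro r
    induction r with
    | zero =>
      intro i hi
      exact ⟨c i, by rwa [show i = 2 * kk F M - 1 by omega], by rw [sub_self]; exact zero_mem _⟩
    | succ r ih => exact fun i hi => step i (by omega) (ih (i + 1) (by omega))
  have le : ∀ j, j ≤ 2 * kk F M → Lf F c j ≤ W := by
    intro j
    induction j with
    | zero => exact fun _ => Lf_zero (F := F) (c := c) ▸ bot_le
    | succ j ih =>
      intro hj x hx
      obtain ⟨a, ha⟩ := mem_Lf_succ.1 hx
      obtain ⟨w, hw, e⟩ := all (2 * kk F M - 1 - j) j (by omega)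
      have := sub_mem hw (ih (by omega) e)
      rw [sub_sub_cancel] at this
      have := add_mem (ih (by omega) ha) (W.smul_mem a this)
      rwa [sub_add_cancel] at this
  exact top_le_iff.1 (k.Lf_top h le_rfl ▸ le _ le_rfl)

theorem C4.mem {N G : Module.End F M} {f : M}
    (h : ∀ x, ∃ A ∈ Algebra.adjoin F {N}, A f = x) (e : Commute G N) : G ∈ Algebra.adjoin F {N} := by
  obtain ⟨A, hA, k⟩ := h (G f)
  have : G = A := LinearMap.ext fun x => by
    obtain ⟨D, hD, rfl⟩ := h x
    have a := (Algebra.commute_of_mem_adjoin_singleton_of_commute hD e).eq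
    have b := (Algebra.commute_of_mem_adjoin_singleton_of_commute hD
      (Algebra.commute_of_mem_adjoin_self hA).symm).eq
    rw [← Module.End.mul_apply, a, Module.End.mul_apply, ← k, ← Module.End.mul_apply, ← b,
      Module.End.mul_apply]
  rwa [this]

theorem Ch.reg (k : Ch B c) (h : Mo B) {b : sIsom B} (hb : b ∈ UU B c)
    (hr : ∀ i, i + 1 < 2 * kk F M → B (c (2 * kk F M - 1 - i)) (lin b (c (i + 1))) ≠ 0)
    (e : Commute b g) (e' : Commute b g') : Commute g g' := by
  have t := C4.top k h hb hr (W := (Subalgebra.toSubmodule (Algebra.adjoin F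
    {((lin b).toLinearMap : Module.End F M)})).map (LinearMap.applyₗ (c (2 * kk F M - 1))))
    ⟨1, Subalgebra.one_mem _, rfl⟩ (by
      rintro _ ⟨A, hA, rfl⟩
      exact ⟨(lin b).toLinearMap * A - A,
        Subalgebra.sub_mem _ (Subalgebra.mul_mem _ (Algebra.self_mem_adjoin_singleton F _) hA) hA,
        rfl⟩)
  have key : ∀ g : sIsom B, Commute b g → ((lin g).toLinearMap : Module.End F M) ∈
      Algebra.adjoin F {((lin b).toLinearMap : Module.End F M)} := fun g e =>
    C4.mem (f := c (2 * kk F M - 1)) (fun x => t.ge (Submodule.mem_top (x := x)))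
      (LinearMap.ext fun x => (congrArg (fun s => lin s x) e.eq).symm)
  have := Algebra.commute_of_mem_adjoin_singleton_of_commute (key g' e')
    (Algebra.commute_of_mem_adjoin_self (key g e)).symm
  exact lin_ext fun x => congrArg (fun A : Module.End F M => A x) this.eq

end Cfsg.Lib.SPW
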