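import Cfsg.Agent.SPW.Api
import Cfsg.Agent.SPW.C0
import Cfsg.Agent.SPW.C0b
import Cfsg.Agent.SPW.C1
import Cfsg.Agent.SPW.C2
import Cfsg.Agent.SPW.C3
import Cfsg.Agent.SPW.C5
import Cfsg.Agent.SPW.C8

/-! Centralisers of root elements in the unitriangular group. -/

set_option autoImplicit false
set_option linter.unusedSectionVars false

namespace Cfsg.Lib.SPW

open Subgroup Module Cfsg.Lib.Trans Cfsg.Lib.Gold Cfsg.Lib.Class.Form Cfsg.Lib.Class.FAut
open Cfsg.Lib.UM (tT tE VW RR Fx St QW Cf mp Semi fa Mp cx re Ot kk Mx)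
open Cfsg.Lib.SPN

theorem C6.cover {G X : Type*} [Group G] [Finite G] {D : Subgroup G} {b : G} (f : G → X)
    (T : Set X) [Finite T] (h1 : ∀ d ∈ D, f d ∈ T)
    (h2 : ∀ d ∈ D, ∀ e ∈ D, f d = f e → d * b * d⁻¹ = e * b * e⁻¹) :
    Nat.card D ≤ Nat.card T * Nat.card (D ⊓ C1 b : Subgroup G) := by
  classical
  refine (SG2.card_le_cover (B := C1 b) (Set.range fun t : T =>
    if h : ∃ d ∈ D, f d = t then h.choose else 1) fun d hd => ?_).trans
    (Nat.mul_le_mul_right _ (Finite.card_range_le _))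
  have h : ∃ e ∈ D, f e = f d := ⟨d, hd, rfl⟩
  refine ⟨h.choose, ⟨⟨f d, h1 d hd⟩, dif_pos h⟩, mem_C1.2 ?_⟩
  have := h2 _ h.choose_spec.1 d hd h.choose_spec.2
  generalize h.choose = e at this
  calc e⁻¹ * d * b = e⁻¹ * (d * b * d⁻¹) * d := by group
    _ = b * (e⁻¹ * d) := by rw [← this]; group

theorem C6.num {k : ℕ} (h : 3 ≤ k) : 2 * k - 3 + k * (k + 1) / 2 ≤ k ^ 2 := by
  obtain ⟨m, rfl⟩ := Nat.exists_eq_add_of_le h
  have := Nat.div_mul_le_self ((3 + m) * (3 + m + 1)) 2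
  have e : 2 * (3 + m) - 3 = 2 * m + 3 := by omega
  rw [e]
  nlinarith [Nat.le_self_pow (two_ne_zero) m]

variable {F M : Type*} [Field F] [Finite F] [AddCommGroup M] [Module F M] [FiniteDimensional F M]
  {B : M →ₗ[F] M →ₗ[F] F} {c : ℕ → M} {α : MulAut (sIsom B)} {Γ : M ≃+ M} {τ : F ≃+* F}
  {i j : ℕ}

theorem Ch.cent_E (k : Ch B c) (h : Mo B) (e : i < j) (e' : i + j + 1 < 2 * kk F M) (a : F) :
    Nat.card F ^ (kk F M * (kk F M + 1) / 2) ≤
      Nat.card (UU B c ⊓ C1 (tE B (c i) (a • c j)) : Subgroup (sIsom B)) := by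
  have : Finite M := Module.finite_of_finite F
  have b0 : B (c i) (c j) = 0 := by rw [k, if_neg e'.ne]
  have b1 : B (c (2 * kk F M - 1 - i)) (c i) = 1 := by rw [k, if_pos (by omega)]
  have b2 : B (c (2 * kk F M - 1 - i)) (c j) = 0 := by rw [k, if_neg (by omega)]
  have m : ∀ g ∈ UU B c, ∀ l, lin g (c l) - c l ∈ Lf F c l := fun g hg l =>
    (hg l).2 _ (mem_Lf_of (Nat.lt_succ_self l))
  have cj : ∀ g : sIsom B, g * tE B (c i) (a • c j) * g⁻¹ = tE B (lin g (c i))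
      (a • (lin g (c j) - B (c (2 * kk F M - 1 - i)) (lin g (c j)) • lin g (c i))) := fun g => by
    rw [h.tE_conj g (by simp [b0]), smul_sub, smul_smul, sub_eq_add_neg, ← neg_smul, ← map_smul,
      h.tE_add_self (by rw [lin_isom]; simp [b0])]
  have := C6.cover (D := UU B c) (b := tE B (c i) (a • c j))
    (fun g => (lin g (c i) - c i,
      lin g (c j) - B (c (2 * kk F M - 1 - i)) (lin g (c j)) • lin g (c i) - c j))
    ((Lf F c i : Set M) ×ˢ ((Lf F c j ⊓ LinearMap.ker (B (c (2 * kk F M - 1 - i))) :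
      Submodule F M) : Set M)) (fun g hg => by
      refine ⟨m g hg i, ?_, ?_⟩
      · have := sub_mem (m g hg j) ((Lf F c j).smul_mem (B (c (2 * kk F M - 1 - i)) (lin g (c j)))
          (((hg j).1 _).1 (mem_Lf_of e)))
        rwa [sub_right_comm] at this
      · have := (k.mem_Lf h).1 (m g hg i) (2 * kk F M - 1 - i) (by omega)
        rw [map_sub, b1, sub_eq_zero] at this
        simp [b2, this])
    (fun g _ g' _ p => by
      rw [cj, cj, sub_left_inj.1 (Prod.mk.inj p).2, sub_left_inj.1 (Prod.mk.inj p).1])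
  have r : finrank F (Lf F c j ⊓ LinearMap.ker (B (c (2 * kk F M - 1 - i))) : Submodule F M) < j := by
    refine (Submodule.finrank_lt_finrank_of_lt (lt_of_le_of_ne inf_le_left fun z => ?_)).trans_eq
      (k.rank_Lf (by omega))
    have : B (c (2 * kk F M - 1 - i)) (c i) = 0 := (z.ge (mem_Lf_of e)).2
    exact one_ne_zero (b1.symm.trans this)
  rw [k.card h, Nat.card_congr (Equiv.Set.prod _ _), Nat.card_prod, SetLike.coe_sort_coe,
    SetLike.coe_sort_coe, Module.natCard_eq_pow_finrank (K := F) (V := Lf F c i),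
    Module.natCard_eq_pow_finrank (K := F) (V := (Lf F c j ⊓ _ : Submodule F M)), k.rank_Lf (by omega), ← pow_add] at this
  have q : 0 < Nat.card F := Nat.card_pos
  refine le_of_mul_le_mul_left (a := Nat.card F ^ (2 * kk F M - 3)) ?_ (pow_pos q _)
  rw [← pow_add]
  exact (Nat.pow_le_pow_right q (C6.num h.three_le)).trans (this.trans
    (Nat.mul_le_mul_right _ (Nat.pow_le_pow_right q (by omega))))

theorem Sc.up (k : Sc B c α Γ τ) (h : Mo B) : UP (UU B c ⊓ Cf α) (qf τ ^ (kk F M ^ 2)) 0 := by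
  refine ⟨(k.ch.two h).to_inf_left, k.card h, fun _ _ => k.nc h, k.zle h, k.zc h,
    k.gen h (fun i hi a ha => subset_closure ⟨⟨k.ch.tT_mem h hi a, ?_⟩, h.tT_sq _ _, Nat.zero_le _⟩)
      fun i j e e' a ha => subset_closure ⟨⟨k.ch.tE_mem h e e' a, ?_⟩,
        h.tE_sq (by simp [k.ch i j, e'.ne]), Nat.zero_le _⟩⟩
  · exact (k.aT h i a).trans (by rw [ha])
  · exact (k.aE h e'.ne a).trans (by rw [ha])

theorem Ch.up (k : Ch B c) (h : Mo B) :
    UP (UU B c) (Nat.card F ^ (kk F M ^ 2)) (Nat.card F ^ (kk F M * (kk F M + 1) / 2)) := by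
  have u := k.sc1.up h
  have g := fun S => k.sc1.gen h (S := S)
  rw [Cf_one, inf_top_eq] at u g
  rw [qf_one] at u
  refine ⟨u.two, u.card, u.nc, u.zle, u.zc, g _
    (fun i hi a _ => subset_closure ⟨k.tT_mem h hi a, h.tT_sq _ _, ?_⟩)
      fun i j e e' a _ => subset_closure ⟨k.tE_mem h e e' a, h.tE_sq (by simp [k i j, e'.ne]),
        k.cent_E h e e' a⟩⟩
  have t := k.ti h le_rfl
  have := h.card_VW t
  rw [k.rank_Lf (by omega)] at this
  rw [← this]
  refine Trans.card_le_of_le (le_inf (k.V_le h) fun v hv => mem_C1.2 (mem_Cs.1 ?_ v hv))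
  rw [h.Cs_VW t, h.Fx_mx (k.mx h)]
  exact h.tT_mem (mem_Lf_of hi) a

end Cfsg.Lib.SPW
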