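import Cfsg.Agent.SPW.Api
import Cfsg.Agent.SPW.C0b
import Cfsg.Agent.SPW.C2
import Cfsg.Agent.SPW.C6
import Cfsg.Agent.SPW.C8

/-!
# Standard subgroups of type `Sp_{2k}(2ⁿ)`, type IV: the properties of a factor
-/

set_option autoImplicit false
set_option linter.unusedSectionVars false

namespace Cfsg.Lib.SPW

open Subgroup Module Cfsg.Lib.Trans Cfsg.Lib.Gold Cfsg.Lib.Class.Form Cfsg.Lib.Class.FAut
open Cfsg.Lib.UM (tT tE VW RR Fx St QW Cf mp Semi fa Mp cx re Ot kk Mx)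
open Cfsg.Lib.SPN
open Cfsg.Lib.SG2 (Uq Top)
open Cfsg.Lib.Comp (Tw)
open Cfsg.Lib.Chev.SpAm (Ix Sp bv idx Fn FixI pl TM)
open Cfsg.Lib.SF4.Wr (map_le_Cs map_inf_Cs map_inf_C1)
open scoped commutatorElement

namespace G1

theorem num (n : ℕ) : n ^ 4 < 8 ^ n ∧ 4 * n ^ 2 < 8 ^ n := by
  induction n with
  | zero => simp
  | succ n ih =>
    rcases Nat.lt_or_ge n 2 with h | h
    · interval_cases n <;> simp
    · have h1 : (2 * (n + 1)) ^ 4 ≤ (3 * n) ^ 4 := Nat.pow_le_pow_left (by omega) 4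
      have h2 : (2 * (n + 1)) ^ 2 ≤ (3 * n) ^ 2 := Nat.pow_le_pow_left (by omega) 2
      rw [mul_pow, mul_pow] at h1 h2
      rw [pow_succ 8 n]
      omega

theorem bd {q n k : ℕ} (hq : q = 2 ^ n) (hk : 3 ≤ k) {a : ℕ} (ha : a < 8 ^ n) :
    q ^ (k ^ 2) * a < (q ^ (k * (k + 1) / 2)) ^ 2 := by
  have e : k * (k + 1) / 2 * 2 = k ^ 2 + k := by
    rw [Nat.div_mul_cancel (Nat.even_mul_succ_self k).two_dvd]; ring
  have q0 : 0 < q := hq ▸ Nat.two_pow_pos n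
  rw [← pow_mul, e, pow_add]
  refine Nat.mul_lt_mul_of_pos_left (ha.trans_le ?_) (pow_pos q0 _)
  rw [hq, ← pow_mul, show (8 : ℕ) = 2 ^ 3 from rfl, ← pow_mul, mul_comm 3 n]
  exact Nat.pow_le_pow_right (by decide) (Nat.mul_le_mul_left n hk)

end G1

section Wreath
variable {G F M : Type*} [Group G] [Finite G] [Field F] [Finite F] [AddCommGroup M] [Module F M]
  [FiniteDimensional F M] {B : M →ₗ[F] M →ₗ[F] F} {φ y z : sIsom B →* G} {t : G} {X : Subgroup G}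
  {c : ℕ → M} {γ : (F ≃+* F) →* MulAut (sIsom B)} {H : M → M → G} {D : M → G} {β s : F}

theorem th_eq (h : Mod y) {g : G} {α : MulAut (sIsom B)} (k : Mp y y g α) : th y g = fa α := by
  have e : ∃ α, Mp y y g α := ⟨α, k⟩
  exact (dif_pos e).trans (congrArg fa (h.mp_uniq e.choose_spec k))

theorem UP.map {Γ : Type*} [Group Γ] {f : Γ →* G} (hf : Function.Injective f) {W : Subgroup Γ}
    {n b : ℕ} (h : UP W n b) : UP (W.map f) n b := by
  refine ⟨h.two.map f, by rw [← h.card, card_map_of_injective hf], fun A B h1 h2 => ?_, ?_, ?_, ?_⟩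
  · have k : ∀ K : Subgroup G, K ≤ W.map f → ∃ K' : Subgroup Γ, K'.map f = K := fun K hK =>
      ⟨_, map_comap_eq_self (hK.trans (map_le_range f W))⟩
    obtain ⟨A, rfl⟩ := k A (le_sup_left.trans h2.le)
    obtain ⟨B, rfl⟩ := k B (le_sup_right.trans h2.le)
    exact (h.nc _ _ ((map_le_Cs hf).1 h1) (map_injective hf (by rw [Subgroup.map_sup, h2]))).imp
      (map_le_Cs hf).2 (map_le_Cs hf).2
  · rw [← map_inf_Cs hf, ← map_commutator]; exact map_mono h.zle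
  · rw [← map_inf_Cs hf, card_map_of_injective hf]; exact h.zc
  · refine (map_mono h.gen).trans ?_
    rw [MonoidHom.map_closure]
    refine closure_mono ?_
    rintro _ ⟨v, ⟨h1, h2, h3⟩, rfl⟩
    exact ⟨mem_map_of_mem f h1, by rw [← map_mul, h2, map_one],
      by rwa [← map_inf_C1 hf, card_map_of_injective hf]⟩

namespace G1

theorem sm (h : Mod y) (N : Subgroup G) (h1 : N ≤ y.range) (h2 : y.range ≤ Ns N) :
    N = ⊥ ∨ N = y.range := by
  have := h.toMo.simple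
  have n : (N.comap y).Normal := ⟨fun a ha g => by
    rw [mem_comap, map_mul, map_mul, map_inv]
    exact (mem_normalizer_iff.1 (h2 ⟨g, rfl⟩) _).1 ha⟩
  rcases n.eq_bot_or_eq_top with e | e
  · left; rw [← map_comap_eq_self h1, e, Subgroup.map_bot]
  · right; rw [← map_comap_eq_self h1, e, ← MonoidHom.range_eq_map]

theorem ic (h : Mod y) (v : G) (hv : v ∈ y.range) (e : v * v = 1) : ∃ T : Subgroup G,
    T ≤ y.range ⊓ C1 v ∧ IsPGroup 2 T ∧ Nat.card F ^ (kk F M * (kk F M + 1) / 2) ≤ Nat.card T := by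
  obtain ⟨v, rfl⟩ := hv
  obtain ⟨W, hW, hv⟩ := h.toMo.inv (g := v) (h.inj (by rwa [map_mul, map_one]))
  refine ⟨(VW B W).map y, ?_, ((h.toMo.two_QW hW.ti).to_le (h.toMo.VW_le_QW hW.ti)).map y, ?_⟩
  · rintro _ ⟨a, ha, rfl⟩
    refine ⟨⟨a, rfl⟩, mem_C1.2 ?_⟩
    have : a ∈ Cs (VW B W) := by
      rw [h.toMo.Cs_VW hW.ti, h.toMo.Fx_mx hW]; exact ha
    rw [← map_mul, ← map_mul, mem_Cs.1 this v hv]
  · rw [h.card_map, h.toMo.card_VW hW.ti, hW.dim]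

theorem th_D (h : Mod y) (k : Fr B c γ) {p : G} {τ : F ≃+* F} (e : Mp y y p (γ τ)) :
    orderOf (th y p) = orderOf τ := by
  rw [th_eq h e, k.fa_eq h.toMo]; rfl

theorem fixs (h : Mod y) {p : G} {α : MulAut (sIsom B)} (e : Mp y y p α) (U : Subgroup (sIsom B)) :
    U.map y ⊓ C1 p = (U ⊓ Cf α).map y := by
  ext g
  constructor
  · rintro ⟨⟨a, ha, rfl⟩, h2⟩
    exact mem_map_of_mem y ⟨ha, (h.mp_fix e).1 (mem_C1.1 h2 : Commute _ _).symm⟩
  · rintro ⟨a, ⟨ha, h2⟩, rfl⟩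
    exact ⟨mem_map_of_mem y ha, mem_C1.2 ((h.mp_fix e).2 h2).symm⟩

theorem dA (h : Mod y) (k : Fr B c γ) : y.range ⊓ DD y γ = ⊥ := by
  refine eq_bot_iff.2 ?_
  rintro _ ⟨⟨l, rfl⟩, τ, e⟩
  have e1 := h.mp_uniq (UM.Mp.self l) e
  have e2 : τ = 1 := by rw [← k.fa_eq h.toMo τ, ← e1, h.toMo.fa_conj]
  rw [e2, map_one, ← map_one MulAut.conj] at e1
  rw [h.toMo.conj_inj e1, map_one]
  exact one_mem _

theorem ker (h : Mod y) (g : G) (hg : g ∈ Ns y.range) :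
    th y g = 1 ↔ g ∈ y.range ⊔ Cs y.range := by
  constructor
  · intro e
    obtain ⟨α, k⟩ := h.ind hg
    rw [th_eq h k] at e
    obtain ⟨l, rfl⟩ := h.toMo.inner e
    rw [show g = y l * ((y l)⁻¹ * g) by group]
    exact mul_mem (mem_sup_left ⟨l, rfl⟩) (mem_sup_right (h.mp_conj k))
  · intro e
    obtain ⟨_, ⟨l, rfl⟩, b, hb, rfl⟩ := (SG2.mem_sup_Cs (le_Cs_comm.1 le_rfl)).1 e
    rw [th_eq h ((UM.Mp.self l).mul (UM.Mp.of_Cs hb)), mul_one]
    exact h.toMo.fa_conj l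

theorem h1 (h : Mod y) (k : Fr B c γ) (p : G) (hp : p ∈ DD y γ) (u : G) (hu : u ∈ (UU B c).map y)
    (e : (u * p) ^ orderOf (th y p) = p ^ orderOf (th y p)) :
    ∃ j ∈ (UU B c).map y, j * (u * p) * j⁻¹ = p := by
  obtain ⟨τ, hp⟩ := hp
  obtain ⟨u, hu, rfl⟩ := hu
  rw [th_D h k hp] at e
  have e1 := h.mp_uniq (((UM.Mp.self u).mul hp).pow (orderOf τ)) (e ▸ hp.pow (orderOf τ))
  rw [← map_pow γ, pow_orderOf_eq_one, map_one] at e1
  obtain ⟨l, hl, e2⟩ := k.h1 h.toMo hu e1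
  refine ⟨y l, mem_map_of_mem y hl, ?_⟩
  have e3 := congrArg y e2
  rw [map_mul, map_mul, map_inv, ← hp l, map_one] at e3
  calc _ = y l * y u * (p * y l * p⁻¹)⁻¹ * p := by group
    _ = p := by rw [e3, one_mul]

end G1

theorem mod_fa (h : Mod y) (k : Fr B c γ) : Fa y.range ((UU B c).map y) (DD y γ) (th y)
    (Nat.card F ^ (kk F M ^ 2)) (Nat.card F ^ (kk F M * (kk F M + 1) / 2)) where
  sm := G1.sm h
  perf := h.perf
  syl := by
    have : Finite (sIsom B) := Finite.of_injective _ h.inj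
    rw [MonoidHom.range_eq_map]
    exact (k.ch.syl h.toMo).map y
  up := (k.ch.up h.toMo).map h.inj
  ic := G1.ic h
  dN := fun p ⟨τ, e⟩ => by
    obtain ⟨Γ, s⟩ := k.sc τ
    exact ⟨mem_Ns_iff.2 e.cj_range, mem_Ns_iff.2 (by rw [e.cj_map, s.mp_U h.toMo])⟩
  cD := fun p hp => ⟨1, by rw [map_one]; exact UM.Mp.of_Cs hp⟩
  dA := G1.dA h k
  dec g hg := by
    obtain ⟨α, e⟩ := h.ind hg
    obtain ⟨l, e1⟩ := k.dec h.toMo α
    refine ⟨y l, ⟨l, rfl⟩, fa α, ?_⟩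
    have := (UM.Mp.self (y := y) l).inv.mul e
    rwa [eq_inv_mul_iff_mul_eq.2 e1.symm]
  mul g hg g' hg' := by
    obtain ⟨α, e⟩ := h.ind hg
    obtain ⟨α', e'⟩ := h.ind hg'
    rw [th_eq h (e.mul e'), th_eq h e, th_eq h e', h.toMo.fa_mul]; rfl
  ker := G1.ker h
  h1 := G1.h1 h k
  fc := fun p ⟨τ, e⟩ => by
    obtain ⟨Γ, s⟩ := k.sc τ
    rw [G1.th_D h k e, G1.fixs h e, h.card_map, s.card h.toMo, ← pow_mul, mul_comm, pow_mul, qf_pow]
  fx := fun p ⟨τ, e⟩ => by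
    obtain ⟨Γ, s⟩ := k.sc τ
    exact ⟨_, _, G1.fixs h e _ ▸ (s.up h.toMo).map h.inj⟩
  bd1 := G1.bd (card_AF h.two) h.toMo.three_le (G1.num _).1
  bd2 := by
    rw [mul_comm 4, mul_assoc]
    exact G1.bd (card_AF h.two) h.toMo.three_le (G1.num _).2

end Wreath

end Cfsg.Lib.SPW
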