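import Cfsg.Agent.SPW.N4

/-!
# Standard subgroups of type `Sp_{2k}(2ⁿ)`: the wreathed case does not occur
-/

set_option autoImplicit false
set_option linter.unusedSectionVars false

namespace Cfsg.Lib.SPW

open Subgroup Cfsg.Lib.Trans Cfsg.Lib.Gold
open Cfsg.Lib.Comp (Tw)
open scoped commutatorElement

variable {G Γ : Type*} [Group G] [Finite G] [CommGroup Γ] [Finite Γ] {A B U V D E X J J' K : Subgroup G}
  {θ η : G → Γ} {n₀ b₀ m : ℕ} {t g g' v r r' : G}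

namespace N5

theorem one_of_odd {O : Subgroup G} (hO : Odd (Nat.card O)) {x : G} (hx : x ∈ O) (h2 : Tw x) :
    x = 1 := by
  obtain ⟨n, e⟩ := h2
  exact orderOf_eq_one_iff.1 (Nat.eq_one_of_dvd_coprimes
    (Nat.Coprime.pow_left n (Nat.coprime_two_left.2 hO)) (orderOf_dvd_of_pow_eq_one e)
    (O.orderOf_dvd_natCard hx))

theorem zst {H S : Subgroup G} (hS : IsSylowIn 2 S H) {v : G} (hv : v ∈ S)
    (hw : ∀ g ∈ H, g * v * g⁻¹ ∈ S → g * v * g⁻¹ = v) {g : G} (hg : g ∈ H) :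
    g * v * g⁻¹ * v⁻¹ ∈ Oc H := by
  have := Fact.mk Nat.prime_two
  exact ⟨_, Block.Princ.zstar_elt hS.toSylow (x := ⟨v, hS.le hv⟩) hv
    (fun g h => Subtype.ext (hw g g.2 h)) ⟨g, hg⟩, rfl⟩

theorem odd_Ns (h : WR A B U V D E θ η n₀ b₀ t X) {O : Subgroup G} (hO : Odd (Nat.card O)) {o : G}
    (ho : o ∈ O) (hM : o ∈ Ns (A ⊔ B)) : o ∈ Ns A := by
  by_contra hn
  obtain ⟨j, e⟩ := hO
  have k1 : o ^ Nat.card O = 1 := congrArg Subtype.val (pow_card_eq_one' (x := (⟨o, ho⟩ : O)))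
  rw [e, pow_succ, pow_mul, sq] at k1
  exact hn ((mul_mem_cancel_left (pow_mem (h.idx o hM o hM hn hn) j)).1 (k1 ▸ one_mem _))

theorem comm_Q {O Q : Subgroup G} (hO : Odd (Nat.card O)) (hQ : IsPGroup 2 Q) {o a : G}
    (ho : o ∈ O) (k : o ∈ Ns Q) (ha : a ∈ Q) (hn : a ∈ Ns O) : Commute o a := by
  have := one_of_odd hO (x := o * a * o⁻¹ * a⁻¹) (by
    rw [show o * a * o⁻¹ * a⁻¹ = o * (a * o⁻¹ * a⁻¹) by group]
    exact mul_mem ho (mem_normalizer_conj hn (inv_mem ho)))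
    (Tw.of_mem hQ (mul_mem (mem_normalizer_conj k ha) (inv_mem ha)))
  rwa [mul_inv_eq_one, mul_inv_eq_iff_eq_mul] at this

theorem T_C1 (h : WF A B U V D E θ η n₀ b₀ t X J J' r r' m) : U ⊔ V ≤ C1 r :=
  sup_le ((le_Cs_comm.1 h.ga.lz).trans (Cs_le_C1 h.ga.rm))
    ((h.fb.syl.le.trans h.symm.AJ).trans (Cs_le_C1 h.ga.rJ))

end N5

theorem WF.cen (h : WF A B U V D E θ η n₀ b₀ t X J J' r r' m) : X ⊓ C1 (r * r') ≤ C1 r :=
    fun g hg => by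
  have w := h.toWR
  have y2 := h.ga.el _ h.ga.rJ
  have t1 : r ∈ U ⊔ V := mem_sup_left (h.ga.JU h.ga.rJ)
  have t2 : r' ∈ U ⊔ V := mem_sup_right (h.gb.JU h.gb.rJ)
  have c1 := N5.T_C1 h
  have c2 : U ⊔ V ≤ C1 r' := by rw [sup_comm]; exact N5.T_C1 h.symm
  have hY : ∀ a ∈ X ⊓ C1 (r * r'), a ∈ X ∧ Commute a (r * r') := fun a ha => ⟨ha.1, mem_C1.1 ha.2⟩
  have s : IsSylowIn 2 (U ⊔ V) (X ⊓ C1 (r * r')) :=
    h.syl.mono (le_inf h.syl.le fun a ha => mem_C1.2 (Commute.mul_right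
      (mem_C1.1 (c1 ha)) (mem_C1.1 (c2 ha)))) inf_le_left
  have tY : t ∈ Ns (X ⊓ C1 (r * r')) :=
    mem_Ns_inf (w.nX t) (mem_Ns_C1 (by
      rw [← mul_inv_eq_iff_eq_mul, ← conj_mul, h.tr, h.symm.tr, (w.comm h.rA h.symm.rA).eq]))
  generalize X ⊓ C1 (r * r') = Y at hg hY s tY
  have o1 := N5.zst s t1 (fun g hg e => by
    have e0 : g * r * g⁻¹ * (g * r' * g⁻¹) = r * r' := by
      rw [conj_mul, (hY g hg).2.eq, mul_inv_cancel_right]
    have e1 : g * r' * g⁻¹ ∈ U ⊔ V := (mul_mem_cancel_left e).1 (e0 ▸ mul_mem t1 t2)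
    have e2 := h.ic h.rA y2 (hY g hg).1 (w.UG e)
    have e3 := h.symm.ic h.symm.rA (h.gb.el _ h.gb.rJ) (hY g hg).1 (sup_comm A _ ▸ w.UG e1)
    exact (SG2.eq_of_mul w.inf e2 e3 h.rA h.symm.rA e0).1) hg
  have hO : Odd (Nat.card (Oc Y)) := odd_card_Oc
  have nO : U ⊔ V ≤ Ns (Oc Y) := s.le.trans le_Ns_Oc_self
  obtain ⟨Q, QU, nQ, a, ha, b, hb, a2, e⟩ := h.ga.ch
  have QV : cj t Q ≤ V := h.tU ▸ cj_mono t QU
  have ha' : t * a * t⁻¹ ∈ cj t Q := conj_mem_cj.2 ha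
  have aA := h.fa.syl.le (QU ha)
  have aB := h.fb.syl.le (QV ha')
  have ny := nO (mem_sup_left (QU ha))
  have nz := nO (mem_sup_right (QV ha'))
  have ia : a⁻¹ = a := inv_eq_of_mul_eq_one_left a2
  have it : t⁻¹ = t := inv_eq_of_mul_eq_one_left h.t2
  have cm := w.comm aA aB
  have k3 : a * (t * a * t⁻¹) ∈ Cs (Oc Y) := h.uq.okill w.tM h.t2 hO (mem_Ns_Oc tY)
    (mul_mem ny nz) (by rw [cm.symm.mul_mul_mul_comm, a2, conj_mul, a2]; simp)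
    (le_normalizer (mem_sup_left aA)) (by
      rw [cm.eq, ia, it, ← mul_assoc, ← mul_assoc, ← mul_assoc, h.t2, one_mul])
    fun o ho => by
      have e1 := N5.odd_Ns w hO ho.1 ho.2
      have e2 := w.NB ho.2 e1
      obtain ⟨e3, e4⟩ := w.comp_comm h.rA h.symm.rA e1 e2 (hY o (Oc_le ho.1)).2
      have e5 : o ∈ Ns (cj t Q) := by
        have : t * o * t⁻¹ ∈ Ns Q := nQ ⟨w.tNB.2 e2, mem_C1.2 (by
          rw [← h.symm.tr, conj_mul, conj_mul, e4.eq])⟩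
        rw [Ns, ← cj_normalizer, mem_cj, it]
        rwa [it] at this
      exact (N5.comm_Q hO (h.fa.up.two.to_le QU) ho.1 (nQ ⟨e1, mem_C1.2 e3⟩) ha ny).mul_right
        (N5.comm_Q hO (h.fb.up.two.to_le QV) ho.1 e5 ha' nz)
  have k4 : r ∈ Cs (Oc Y) := by
    have := mul_mem k3 (mem_normalizer_conj (mem_Ns_Cs (nO (mem_sup_left hb))) (inv_mem k3))
    have bA := h.fa.syl.le hb
    generalize t * a * t⁻¹ = z at this aB cm
    rwa [show a * z * (b * (a * z)⁻¹ * b⁻¹) = r by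
      rw [← e, commutatorElement_def, cm.eq, mul_inv_rev]
      calc _ = z * (a * b * a⁻¹) * z⁻¹ * b⁻¹ := by group
        _ = _ := by rw [← (w.comm (mul_mem (mul_mem aA bA) (inv_mem aA)) aB).eq, mul_inv_cancel_right]]
      at this
  have k5 := Gold.mem_Cs.1 k4 _ o1
  have k6 := N5.one_of_odd hO o1 (Tw.of_sq (by
    calc _ = g * r * g⁻¹ * r⁻¹ * (g * r * g⁻¹ * r⁻¹) * (r * r) := by rw [y2, mul_one]
      _ = g * r * g⁻¹ * r⁻¹ * (g * r * g⁻¹ * r⁻¹ * r) * r := by group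
      _ = g * (r * r) * g⁻¹ := by rw [k5]; group
      _ = 1 := by rw [y2]; group))
  rw [mul_inv_eq_one, mul_inv_eq_iff_eq_mul] at k6
  exact mem_C1.2 k6

theorem WF.false (h : WF A B U V D E θ η n₀ b₀ t X J J' r r' m) : False := by
  have y2 := h.ga.el _ h.ga.rJ
  have z2 := h.gb.el _ h.gb.rJ
  have yX := h.AX h.rA
  have zX := h.symm.AX h.symm.rA
  have k1 : ∀ g ∈ X, g * r * g⁻¹ ∈ C1 r' := fun g hg => by
    have aX : g * r * g⁻¹ ∈ X := mul_mem (mul_mem hg yX) (inv_mem hg)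
    obtain ⟨n, e1, e2⟩ := UM.dih (a := g * r * g⁻¹) (by rw [conj_mul, y2]; simp) z2
    obtain ⟨c, hc, e3, e4⟩ := h.pair hg (pow_mem (mul_mem zX aX) n) e1
    rw [← e4] at e2
    rw [← e3] at e2 aX ⊢
    have e5 := mem_C1.1 (h.cen (x := c⁻¹ * (c * r * c⁻¹ * r') * c)
      (mem_inf.2 ⟨mul_mem (mul_mem (inv_mem hc) (mul_mem aX zX)) hc, mem_C1.2 (by
        calc _ = c⁻¹ * (c * r * c⁻¹ * r' * (c * r * c⁻¹ * (c * r' * c⁻¹))) * c := by group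
          _ = _ := by rw [← e2.eq]; group)⟩))
    refine mem_C1.2 (mul_left_cancel (a := r * c⁻¹) (mul_right_cancel (b := c) ?_))
    calc _ = r * (c⁻¹ * (c * r * c⁻¹ * r') * c) := by group
      _ = _ := by rw [← e5]; group
  have k2 := (UM.N0.simple h.top.simple (ncl_le (zpowers_le.2 yX)) le_Ns_ncl).resolve_left fun e =>
    h.ga.r1 (mem_bot.1 (e ▸ le_ncl' (mem_zpowers _)))
  have k3 : X ≤ C1 r' := k2 ▸ iSup₂_le fun g hg => by
    rw [cj_zpowers]; exact zpowers_le.2 (k1 g hg)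
  have k4 := (UM.N0.simple h.top.simple (K := X ⊓ Cs X) inf_le_left
    (le_Ns_inf le_normalizer (le_Ns_Cs le_normalizer))).resolve_left fun e =>
      h.gb.r1 (mem_bot.1 (e ▸ mem_inf.2 ⟨zX, Gold.mem_Cs.2 fun a ha => mem_C1.1 (k3 ha)⟩))
  have k5 := commutator_eq_bot_iff_le_centralizer.2 (k4.ge.trans inf_le_right)
  rw [h.top.perf] at k5
  exact h.gb.r1 (mem_bot.1 (k5 ▸ zX))

end Cfsg.Lib.SPW
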