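import Cfsg.Agent.SPW.Api
import Cfsg.Agent.SPW.WS
import Cfsg.Agent.SPW.N5
import Cfsg.Agent.SPW.C7
import Cfsg.Agent.SPW.C8
import Cfsg.Agent.SPW.C10
import Cfsg.Agent.SPW.G1
import Cfsg.Agent.SPW.G2
import Cfsg.Agent.SPW.G3

/-!
# The split case is impossible
-/

set_option autoImplicit false
set_option linter.unusedSectionVars false

namespace Cfsg.Lib.SPW

open Subgroup Module Cfsg.Lib.Trans Cfsg.Lib.Gold Cfsg.Lib.Class.Form Cfsg.Lib.Class.FAut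
open Cfsg.Lib.UM (tT tE VW RR Fx St QW Cf mp Semi fa Mp cx re Ot kk Mx)
open Cfsg.Lib.SPN
open Cfsg.Lib.SG2 (Uq Top)
open Cfsg.Lib.Comp (Tw)
open Cfsg.Lib.Chev.SpAm (Ix Sp bv idx Fn FixI pl TM)
open scoped commutatorElement

section Wreath
variable {G F M : Type*} [Group G] [Finite G] [Field F] [Finite F] [AddCommGroup M] [Module F M]
  [FiniteDimensional F M] {B : M →ₗ[F] M →ₗ[F] F} {φ y z : sIsom B →* G} {t : G} {X : Subgroup G}
  {c : ℕ → M} {γ : (F ≃+* F) →* MulAut (sIsom B)} {H : M → M → G} {D : M → G} {β s : F}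

theorem G4.mp (h : ES φ t y z) : Mp y z t 1 := h.act

theorem G4.cj (h : ES φ t y z) (A : Subgroup (sIsom B)) : cj t (A.map y) = A.map z :=
  ((G4.mp h).cj_map A).trans (congrArg (Subgroup.map z) (Subgroup.map_id A))

theorem G4.tp (h : ES φ t y z) {p : G} {α : MulAut (sIsom B)} (k : Mp y y p α) :
    Mp z z (t * p * t⁻¹) α := by
  simpa using ((G4.mp h).mul k).mul (G4.mp h).inv

theorem ES.wr (h : ES φ t y z) (hX : Top X t) (k : Fr B c γ) :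
    WR y.range z.range ((UU B c).map y) ((UU B c).map z) (DD y γ) (DD z γ) (th y) (th z)
      (Nat.card F ^ (kk F M ^ 2)) (Nat.card F ^ (kk F M * (kk F M + 1) / 2)) t X := by
  refine ⟨mod_fa h.my k, mod_fa h.mz k, h.t2, (G4.mp h).cj_range, G4.cj h _, ?_, fun g hg => ?_,
    ?_, hX, h.nL, h.toH1.odd_Cs ?_ h.cO (h.nL (mem_C1.2 rfl)) fun e => ?_, fun g e => h.sw e⟩
  · refine le_antisymm ?_ fun p ⟨τ, hp⟩ => ⟨t⁻¹ * p * t, ⟨τ, ?_⟩, by simp [mul_assoc]⟩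
    · rintro _ ⟨p, ⟨τ, hp⟩, rfl⟩
      exact ⟨τ, G4.tp h hp⟩
    · simpa using ((G4.mp h).inv.mul hp).mul (G4.mp h)
  · obtain ⟨α, hα⟩ := h.my.ind hg
    rw [th_eq h.my hα, th_eq h.mz (G4.tp h hα)]
  · rintro _ ⟨a, rfl⟩
    exact mem_Cs.2 (by rintro _ ⟨b, rfl⟩; exact (h.com a b).symm)
  · rintro _ ⟨a, rfl⟩
    rw [h.res]
    exact mul_mem (mem_sup_left ⟨a, rfl⟩) (mem_sup_right ⟨a, rfl⟩)
  · obtain ⟨u, u0⟩ := h.toMo.exists_ne
    refine h.toMo.tT_ne u0 one_ne_zero (h.my.one_of (mem_Cs.2 ?_))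
    rintro _ ⟨b, rfl⟩
    have := h.com b (tT B u 1)
    rwa [← h.act, ← mem_Cs.1 e _ (mem_sup_left ⟨_, rfl⟩), mul_inv_cancel_right] at this

theorem ES.false (h : ES φ t y z) (hX : Top X t) : False := by
  obtain ⟨c, k⟩ := exists_ch h.toMo
  obtain ⟨γ, f⟩ := k.fr h.toMo
  have := cyc_AF (F := F)
  obtain ⟨m, s, s0, h1, h2⟩ := k.last h.toMo
  exact WF.false ⟨(h.wr hX f).we, mod_fb h.my k s0 h1 h2, mod_fb h.mz k s0 h1 h2, G4.cj h _, h.act _⟩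

end Wreath

end Cfsg.Lib.SPW
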