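import Cfsg.Agent.SPW.Api
import Cfsg.Agent.SPW.C0
import Cfsg.Agent.SPW.C0b
import Cfsg.Agent.SPW.C11
import Cfsg.Agent.SPW.FUS

/-!
# Type IV, the field end game: strong closure of `R` and `Q`
-/

set_option autoImplicit false
set_option linter.unusedSectionVars false

namespace Cfsg.Lib.SPW

open Subgroup Module Cfsg.Lib.Trans Cfsg.Lib.Gold Cfsg.Lib.Class.Form Cfsg.Lib.Class.FAut
open Cfsg.Lib.UM (tT tE VW RR Fx St QW Cf mp Semi fa Mp cx re Ot kk Mx)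
open Cfsg.Lib.SPN
open Cfsg.Lib.SG2 (Uq Top)
open Cfsg.Lib.Comp (Tw)
open Cfsg.Lib.Chev.SpAm (Ix Sp bv idx Fn FixI pl TM)
open scoped commutatorElement

variable {G F M : Type*} [Group G] [Finite G] [Field F] [Finite F] [AddCommGroup M] [Module F M]
  [FiniteDimensional F M] {B : M →ₗ[F] M →ₗ[F] F} {φ : sIsom B →* G} {t g : G} {X : Subgroup G}
  {c : ℕ → M} {α : MulAut (sIsom B)} {Γ : M ≃+ M} {τ : F ≃+* F}

namespace Y1

theorem ne (h : FG φ t X c α Γ τ) : c 0 ≠ 0 := h.sc.ch.ne (by have := h.toMo.three_le; omega)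

theorem cz {u : M} (hg : g ∈ YY φ X u) {a d : sIsom B} (e : g * φ a * g⁻¹ = φ d) :
    g * φ (a * tT B u 1) * g⁻¹ = φ (d * tT B u 1) := by
  rw [map_mul, map_mul, ← conj_mul, e, mem_C1.1 hg.2, mul_inv_cancel_right]

theorem fixu (h : FG φ t X c α Γ τ) (hg : g ∈ YY φ X (c 0)) {a d : sIsom B} (ha : a ∈ Pu B (c 0))
    (e : g * φ a * g⁻¹ = φ d) : lin d (c 0) = c 0 :=
  UM.mem_Fx1.1 (h.toFF.LY (e ▸ mul_mem (mul_mem hg (h.toFF.PY ⟨a, ha, rfl⟩)) (inv_mem hg)))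

end Y1

open Y1

theorem FG.scR (h : FG φ t X c α Γ τ) {a d : sIsom B} (ha : a ∈ RR B (c 0)) (hg : g ∈ YY φ X (c 0))
    (e : g * φ a * g⁻¹ = φ d) : d ∈ RR B (c 0) := by
  have m : Mo B := h.toMo
  obtain ⟨s, rfl⟩ := m.mem_RR.1 ha
  obtain ⟨y, rfl⟩ := h.fusT e
  have e1 := fixu h hg (m.tT_mem_Q _ s).1 e
  have e2 := cz hg e
  rw [← m.tT_add] at e2
  obtain ⟨z, hz⟩ := h.fusT e2
  refine m.tT_mem (T_mul m (ne h) hz ?_) 1
  by_cases y0 : y = 0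
  · simp [y0]
  · rw [m.lin_tT, one_mul, add_eq_left, smul_eq_zero] at e1
    exact m.swap (e1.resolve_right y0)

theorem Y1.wcR (h : FG φ t X c α Γ τ) (hg : g ∈ YY φ X (c 0))
    (hu : cj g ((RR B (c 0)).map φ) ≤ (UU B c).map φ) : g ∈ Ns ((RR B (c 0)).map φ) :=
  mem_normalizer_of_cj_le (cj_le_iff.2 fun _ ⟨a, ha, e⟩ => by
    obtain ⟨d, -, k⟩ := cj_le_iff.1 hu _ ⟨a, ha, e⟩
    exact ⟨d, h.scR ha hg (e ▸ k.symm), k⟩)

theorem FG.scQ (h : FG φ t X c α Γ τ) {a : G} (ha : a ∈ (Qu B (c 0)).map φ) (hg : g ∈ YY φ X (c 0))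
    (e : g * a * g⁻¹ ∈ (UU B c).map φ) : g * a * g⁻¹ ∈ (Qu B (c 0)).map φ := by
  have := Fact.mk Nat.prime_two
  have m : Mo B := h.toMo
  have k := h.sc.ch
  have u0 := ne h
  have RQ : RR B (c 0) ≤ Qu B (c 0) := m.VW_le_QW (m.ti1 _)
  have S := h.toFF.sylY
  have RU := map_mono (f := φ) (RQ.trans (k.Q_le m))
  have R2 := S.isPGroup.to_le RU
  have RY := RU.trans S.le
  have RC : ∀ u ∈ (UU B c).map φ, (RR B (c 0)).map φ ≤ C1 u := by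
    rintro _ ⟨u, hu, rfl⟩ _ ⟨r, hr, rfl⟩
    refine mem_C1.2 (Commute.map (mem_Cs.1 ((m.Cs_VW (m.ti1 _)).ge (k.U_le m hu)) r hr) φ)
  obtain ⟨T, hT, k1⟩ := exists_isSylowIn_ge R2 (le_inf RY (RC _ e))
  obtain ⟨n, hk, k2⟩ := hT.exists_cj_le (isPGroup_cj R2 g) (le_inf (cj_le_of_mem_of_le hg RY)
    (by rw [← cj_C1]; exact cj_mono g (RC _ (map_mono (k.Q_le m) ha))))
  obtain ⟨f, hf, k3⟩ := S.exists_cj_le hT.isPGroup (hT.le.trans inf_le_left)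
  have n1 := wcR h hf ((cj_mono f k1).trans k3)
  have n2 := wcR h (mul_mem hf (mul_mem hk.1 hg)) (by
    rw [cj_mul, cj_mul]; exact (cj_mono f k2).trans k3)
  rw [mul_mem_cancel_left n1] at n2
  have e' : g * a * g⁻¹ = n * g * a * (n * g)⁻¹ := by
    calc _ = n * (g * a * g⁻¹) * n⁻¹ := by rw [mem_C1.1 hk.2, mul_inv_cancel_right]
      _ = _ := by group
  have hg' := mul_mem hk.1 hg
  rw [e'] at e ⊢
  generalize n * g = g' at e hg' n2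
  obtain ⟨a, ha, rfl⟩ := ha
  obtain ⟨x, s, ux, rfl⟩ := (m.mem_Q u0).1 ha
  have r' := map_mono RQ (mem_normalizer_conj n2 ⟨_, m.tT_mem (Submodule.mem_span_singleton_self _) s, rfl⟩)
  rw [ee, map_mul, ← conj_mul] at e ⊢
  refine mul_mem ?_ r'
  obtain ⟨d, -, e⟩ := (mul_mem_cancel_right (map_mono (k.Q_le m) r')).1 e
  by_cases hx : x ∈ F ∙ c 0
  · obtain ⟨b, rfl⟩ := Submodule.mem_span_singleton.1 hx
    rw [m.tE_self, map_one, mul_one, mul_inv_cancel]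
    exact one_mem _
  have p : P2 B (c 0) x := P2.iff.2 ⟨ux, u0, hx⟩
  obtain ⟨β, rfl⟩ := h.fus _ _ _ (m.tE_sq ux) e.symm
  obtain ⟨β', e2⟩ := h.fus _ _ _ (m.ee_sq ux 1) (cz hg' e.symm)
  obtain ⟨Δ, sm⟩ := m.semi β
  have e1 := fixu h hg' (m.tE_mem_Q ux).1 e.symm
  refine ⟨_, ?_, e⟩
  rw [m.semi_tE sm ux] at e1 e2 ⊢
  refine E_mul m u0 ((semi_P2 sm).2 p) e1 ?_
  rw [← e2, aut_rank m]
  exact ((congrArg (fun W : Submodule F M => finrank F W) (m.Im_ee p 1)).trans p.rank).le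

end Cfsg.Lib.SPW
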