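import Cfsg.Agent.SPW.Api
import Cfsg.Agent.SPW.C0
import Cfsg.Agent.SPW.C0b
import Cfsg.Agent.SPW.C1
import Cfsg.Agent.SPW.GEN
import Cfsg.Agent.SPW.FUS
import Cfsg.Agent.SPW.Y1

/-!
# The centraliser of a transvection normalises `Q`
-/

set_option autoImplicit false
set_option linter.unusedSectionVars false

namespace Cfsg.Lib.SPW

open Subgroup Module Cfsg.Lib.Trans Cfsg.Lib.Gold Cfsg.Lib.Class.Form Cfsg.Lib.Class.FAut
open Cfsg.Lib.UM (tT tE VW RR Fx St QW Cf mp Semi fa Mp cx re Ot kk Mx)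
open Cfsg.Lib.SPN
open Cfsg.Lib.SG2 (Uq Top)
open Cfsg.Lib.Comp (Tw)
open Cfsg.Lib.Chev.SpAm (Ix Sp bv idx Fn FixI pl TM)
open scoped commutatorElement

variable {G F M : Type*} [Group G] [Finite G] [Field F] [Finite F] [AddCommGroup M] [Module F M]
  [FiniteDimensional F M] {B : M →ₗ[F] M →ₗ[F] F} {φ : sIsom B →* G} {t g : G} {X : Subgroup G}
  {c : ℕ → M} {α : MulAut (sIsom B)} {Γ : M ≃+ M} {τ : F ≃+* F}

namespace Y2

theorem irr (h : Mod φ) {u : M} (u0 : u ≠ 0) {N : Subgroup G} (h1 : N ≤ (Qu B u).map φ)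
    (h2 : (Pu B u).map φ ≤ Ns N) : N ≤ (RR B u).map φ ∨ (Qu B u).map φ ≤ N := by
  refine (Q_irr h.toMo u0 (N := N.comap φ) (fun v hv => h.mem_map.1 (h1 hv)) fun p hp => ?_).imp
    (fun e v hv => ?_) fun e => map_le_iff_le_comap.2 e.ge
  · rw [mem_Ns_iff, ← comap_cj, mem_Ns_iff.1 (h2 (mem_map_of_mem φ hp))]
  · obtain ⟨w, -, rfl⟩ := h1 hv
    exact mem_map_of_mem φ (e hv)

theorem PQ {u : M} : (Pu B u).map φ ≤ Ns ((Qu B u).map φ) := by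
  rintro _ ⟨p, hp, rfl⟩
  exact P1a.Ns_Q (hp u (Submodule.mem_span_singleton_self u))

theorem nR (h : Mod φ) {u x : M} (k : P2 B u x) : φ (tE B u x) ∉ (RR B u).map φ := fun e => by
  obtain ⟨a, e⟩ := h.toMo.mem_RR.1 (h.mem_map.1 e)
  rw [← h.toMo.ee_zero, ← h.toMo.ee_zero', h.toMo.ee_inj k.ne k.uw (map_zero _), add_zero] at e
  exact k.not_mem e.1

theorem p2 (h : FG φ t X c α Γ τ) : P2 B (c 0) (c 1) :=
  have := h.toMo.three_le
  h.sc.ch.p2 (by omega) (by omega) (by omega) (by omega)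

end Y2

open Y2

theorem FG.ok (h : FG φ t X c α Γ τ) {O : Subgroup G} (ho : Odd (Nat.card O))
    (hz : O ≤ C1 (φ (tT B (c 0) 1))) (ht : t ∈ Ns O) (hP : (Pu B (c 0)).map φ ≤ Ns O) :
    O ≤ Cs ((Qu B (c 0)).map φ) := by
  have m := h.toMo
  have k := p2 h
  have Q2 : IsPGroup 2 ((Qu B (c 0)).map φ) := (m.two_QW (m.ti1 _)).map φ
  have EQ := mem_map_of_mem φ (m.tE_mem_Q k.uw)
  have EO := hP (map_mono ((h.sc.ch.Q_le m).trans (h.sc.ch.U_le m)) EQ)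
  obtain ⟨l, hl, e⟩ := h.toFF.tcE
  have hE := h.uq.okill h.toFF.tM h.t2 ho ht EO (by rw [← map_mul, m.tE_sq k.uw, map_one])
    (le_normalizer hl) e fun o ho' => by
      obtain ⟨β, hβ⟩ := h.toMod.ind ho'.2
      have h1 := (aut_Q m k.ne ((h.toMod.mp_fix hβ).1 (mem_C1.1 (hz ho'.1)))).1
      refine commutatorElement_eq_one_iff_commute.1 (eq_one_of_mem_of_odd Q2 ho ?_ ?_)
      · refine mul_mem ?_ (inv_mem EQ)
        rw [hβ]
        exact mem_map_of_mem φ (h1.le (mem_map_of_mem _ (m.tE_mem_Q k.uw)))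
      · rw [commutatorElement_def, mul_assoc, mul_assoc, ← mul_assoc (φ _)]
        exact mul_mem ho'.1 (mem_normalizer_conj EO (inv_mem ho'.1))
  exact le_Cs_comm.1 (((irr h.toMod k.ne (N := (Qu B (c 0)).map φ ⊓ Cs O) inf_le_left
    (le_Ns_inf PQ (le_Ns_Cs hP))).resolve_left fun e => nR h.toMod k (e ⟨EQ, hE⟩)).trans inf_le_right)

theorem FG.YQ (h : FG φ t X c α Γ τ) : YY φ X (c 0) ≤ Ns ((Qu B (c 0)).map φ) := by
  have m := h.toMo
  have k := p2 h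
  have S := h.toFF.sylY
  have hP := h.toFF.PY
  have QU : (Qu B (c 0)).map φ ≤ (UU B c).map φ := map_mono (h.sc.ch.Q_le m)
  have ab : (Qu B (c 0)).map φ ≤ Cs ((Qu B (c 0)).map φ) := by
    rintro _ ⟨a, ha, rfl⟩
    refine mem_Cs.2 ?_
    rintro _ ⟨b, hb, rfl⟩
    exact ((m.comm_Q k.ne hb ha).map φ).eq
  obtain ⟨N, h1, h2, h3, h4⟩ := SG2.gbq S (D := ⊥) bot_le QU (by simp [normalizer_eq_top])
    (fun a ha b hb => mem_bot.2 (commutatorElement_eq_one_iff_mul_comm.2 (mem_Cs.1 (ab hb) a ha)))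
    fun a ha g hg => h.scQ ha hg
  have h5 : N ⊓ (UU B c).map φ = (Qu B (c 0)).map φ := by
    refine le_antisymm ?_ (le_inf h1 QU)
    rintro _ ⟨hv, v, hv', rfl⟩
    obtain ⟨q, hq, e⟩ := h.sc.ch.Q_dec m hv'
    have h6 : N ⊓ (Ui B c 1).map φ = ⊥ := by
      by_contra h6
      have h7 : (Ui B c 1).map φ ≤ (UU B c).map φ := map_mono inf_le_left
      obtain ⟨_, ⟨w1, w, w2, rfl⟩, w3, w4⟩ := Comp.exists_invol_of_ne_bot
        (S.isPGroup.to_le (inf_le_right.trans h7)) h6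
      have h8 := h.toMod.mem_map.1 (h4 _ ⟨w1, h7 (mem_map_of_mem φ w2)⟩ (mem_bot.2 w4))
      exact w3 (by rw [mem_bot.1 ((h.sc.ch.Q_inf m).le ⟨h8, w2⟩), map_one])
    have h7 := mem_bot.1 (h6.le ⟨(map_mul φ q⁻¹ v).symm ▸ mul_mem
      (h1 (mem_map_of_mem φ (inv_mem hq))) hv, mem_map_of_mem φ e⟩)
    rw [map_mul, map_inv, inv_mul_eq_one] at h7
    exact h7 ▸ mem_map_of_mem φ hq
  have h6 : IsSylowIn 2 ((Qu B (c 0)).map φ) N := by
    rw [← h5, inf_comm]; exact S.inf_normal_of_le h3 h2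
  have nN : (Pu B (c 0)).map φ ≤ Ns (N ⊓ Ns ((Qu B (c 0)).map φ)) :=
    le_Ns_inf (hP.trans h3) (PQ.trans le_normalizer)
  obtain ⟨c1, c2⟩ := SF4.BA.cp0 (N := N ⊓ Ns ((Qu B (c 0)).map φ)) inf_le_right ab h6.isPGroup
    (h6.mono (le_inf h1 le_normalizer) inf_le_left) inf_le_right ab
  have zQ := mem_map_of_mem φ (m.tT_mem_Q (c 0) 1)
  have h7 := (irr h.toMod k.ne (commutator_le_left_of_le inf_le_right)
    (le_Ns_commutator PQ nN)).resolve_right fun e => m.tT_ne k.ne one_ne_zero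
      ((map_eq_one_iff φ h.inj).1 (mem_bot.1 (c1.le
        ⟨⟨zQ, mem_Cs.2 fun n hn => mem_C1.1 (h2 hn.1).2⟩, e zQ⟩)))
  have h8 := (irr h.toMod k.ne inf_le_left (le_Ns_inf PQ (le_Ns_Cs nN))).resolve_left fun e =>
    nR h.toMod k (c2.ge.trans (sup_le e h7) (mem_map_of_mem φ (m.tE_mem_Q k.uw)))
  refine (SG2.burnq S (D := ⊥) bot_le (le_Cs_comm.1 bot_le) h2 h3 h5 fun n hn a ha =>
    mem_bot.2 (commutatorElement_eq_one_iff_mul_comm.2 (mem_Cs.1 (h8 ha).2 n hn))).trans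
    (sup_le ((h.ok odd_card_Oc (Oc_le.trans inf_le_right) (mem_Ns_Oc h.toFF.tY)
      (hP.trans le_Ns_Oc_self)).trans Cs_le_Ns) le_rfl)

theorem FG.YQ' (h : FG φ t X c α Γ τ) {y : M} (y0 : y ≠ 0) : YY φ X y ≤ Ns ((Qu B y).map φ) := by
  obtain ⟨l, rfl⟩ := h.toMo.tr1 (p2 h).ne y0
  rw [← cj_Q, map_cj, ← cj_Ns]
  refine le_trans ?_ (cj_mono _ h.YQ)
  rw [cj_inf, cj_C1, mem_Ns_iff.1 (h.toFF.nX _), ← map_inv, ← map_mul, ← map_mul, h.toMo.tT_conj]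

end Cfsg.Lib.SPW
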