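import Cfsg.Agent.SPW.Api
import Cfsg.Agent.SPW.C0
import Cfsg.Agent.SPW.C0b
import Cfsg.Agent.SPW.GEN
import Cfsg.Agent.SPW.FUS
import Cfsg.Agent.SPW.Y2

/-!
# Type IV, the field end game: the centraliser of `Q`
-/

set_option autoImplicit false
set_option linter.unusedSectionVars false

namespace Cfsg.Lib.SPW

open Subgroup Module Cfsg.Lib.Trans Cfsg.Lib.Gold Cfsg.Lib.Class.Form Cfsg.Lib.Class.FAut
open Cfsg.Lib.UM (tT tE VW RR Fx St QW Cf mp Semi fa Mp cx re Ot kk Mx)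
open Cfsg.Lib.SPN
open Cfsg.Lib.SG2 (Uq Top)
open Cfsg.Lib.Comp (Tw)
open Cfsg.Lib.Chev.SpAm (Ix Sp bv idx Fn FixI pl TM)
open scoped commutatorElement

variable {G F M : Type*} [Group G] [Finite G] [Field F] [Finite F] [AddCommGroup M] [Module F M]
  [FiniteDimensional F M] {B : M →ₗ[F] M →ₗ[F] F} {φ : sIsom B →* G} {t g : G} {X : Subgroup G}
  {c : ℕ → M} {α : MulAut (sIsom B)} {Γ : M ≃+ M} {τ : F ≃+* F}

theorem FG.cQ (h : FG φ t X c α Γ τ) : X ⊓ Cs ((Qu B (c 0)).map φ) ≤ Ns φ.range := by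
  have := Fact.mk Nat.prime_two
  have m : Mo B := h.toMo
  have md : Mod φ := h.toMod
  have k := h.sc.ch
  have k3 := m.three_le
  have p : P2 B (c 0) (c 1) := k.p2 (by omega) (by omega) (by omega) (by omega)
  have u0 := p.ne
  have QL : (Qu B (c 0)).map φ ≤ φ.range := map_le_range _ _
  have PQ : (Pu B (c 0)).map φ ≤ Ns ((Qu B (c 0)).map φ) := by
    rintro _ ⟨l, hl, rfl⟩
    rw [mem_Ns_iff, ← map_cj, cj_Q, UM.mem_Fx1.1 hl]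
  have nC : Ns ((Qu B (c 0)).map φ) ≤ Ns (X ⊓ Cs ((Qu B (c 0)).map φ)) := fun g hg =>
    mem_Ns_inf (h.toFF.nX g) (mem_Ns_Cs hg)
  have QC : (Qu B (c 0)).map φ ≤ X ⊓ Cs ((Qu B (c 0)).map φ) := le_inf (QL.trans h.le) (by
    rintro _ ⟨a, ha, rfl⟩ _ ⟨b, hb, rfl⟩
    exact (m.comm_Q u0 hb ha).map φ)
  have S : IsSylowIn 2 ((Qu B (c 0)).map φ) (X ⊓ Cs ((Qu B (c 0)).map φ)) := by
    have := (h.syl.mono (K := X ⊓ Ns ((Qu B (c 0)).map φ)) (le_inf h.syl.le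
      ((map_mono (k.U_le m)).trans PQ)) inf_le_left).inf_normal_of_le (inf_le_right.trans nC)
      (inf_le_inf_left _ Cs_le_Ns)
    rwa [show (UU B c).map φ ⊓ (X ⊓ Cs ((Qu B (c 0)).map φ)) = (Qu B (c 0)).map φ from
      le_antisymm ?_ (le_inf (map_mono (k.Q_le m)) QC)] at this
    rintro _ ⟨⟨v, -, rfl⟩, -, hv⟩
    exact ⟨v, (m.Cs_Q u0).le fun q hq => md.comm.1 (hv _ ⟨q, hq, rfl⟩), rfl⟩
  refine (SG2.cent_syl (le_inf QC (le_Cs_comm.1 inf_le_right)) (fun g hg tw => ?_)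
    S.isPGroup).trans (sup_le (QL.trans le_normalizer) ?_)
  · obtain ⟨x, hx, e⟩ := S.exists_cj_le tw.isPGroup (zpowers_le.2 hg)
    simpa [mul_assoc] using mem_normalizer_conj' (Cs_le_Ns hx.2) (cj_le_iff.1 e g (mem_zpowers g))
  have ho : Odd (Nat.card (Oc (X ⊓ Cs ((Qu B (c 0)).map φ)))) := odd_card_Oc
  have hO : Oc (X ⊓ Cs ((Qu B (c 0)).map φ)) ≤ _ := Oc_le
  have nt := mem_Ns_Oc (nC h.toFF.tQ)
  have nP := le_Ns_Oc (PQ.trans nC)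
  generalize Oc (X ⊓ Cs ((Qu B (c 0)).map φ)) = O at ho hO nt nP
  obtain ⟨n, hn, e⟩ := h.toFF.tcT
  have c1 : φ (tT B (c 1) 1) ∈ Cs O := by
    refine h.uq.okill h.toFF.tM h.t2 ho nt (nP ⟨_, m.tT_mem_Fx (m.mem_orth1.2 p.uw) 1, rfl⟩)
      (by rw [← map_mul, m.tT_sq, map_one]) (le_normalizer hn) e fun o ho' => ?_
    obtain ⟨β, hβ⟩ := md.ind ho'.2
    obtain ⟨v, hv, rfl⟩ := m.cQ u0 (α := β) fun y s e => ⟨s, (md.mp_fix hβ).1
      ((hO ho'.1).2 _ ⟨_, m.ee_mem_Q e s, rfl⟩).symm⟩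
    obtain ⟨j, hj⟩ := ho
    have h1 := hβ.pow (2 * j + 1)
    rw [← hj, show o ^ Nat.card O = 1 from congrArg Subtype.val (pow_card_eq_one' (x := (⟨o, ho'.1⟩ : O))),
      hj, pow_succ, pow_mul, pow_two, ← map_mul, m.sq_Q u0 hv, map_one, one_pow, one_mul] at h1
    exact (md.mp_fix hβ).2 (by rw [md.mp_uniq h1 UM.Mp.one]; rfl)
  have cy : ∀ y, B (c 0) y = 0 → φ (tT B y 1) ∈ Cs O := fun y e => by
    by_cases hy : y ∈ F ∙ c 0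
    · exact le_Cs_comm.1 (hO.trans inf_le_right) ⟨_, m.VW_le_QW (m.ti1 _) (m.tT_mem hy 1), rfl⟩
    · obtain ⟨l, hl, rfl⟩ := m.trF (m.ti1 _) (m.mem_orth1.2 p.uw) p.not_mem (m.mem_orth1.2 e) hy
      rw [← m.tT_conj, map_mul, map_mul, map_inv]
      exact mem_normalizer_conj (mem_Ns_Cs (nP ⟨l, hl, rfl⟩)) c1
  refine fun o ho' => mem_normalizer_of_cj_le (cj_le_iff.2 ?_)
  rintro _ ⟨l, rfl⟩
  refine mem_cj_inv.1 ((gen_QQ m u0 (S := (cj o⁻¹ φ.range).comap φ) fun y y0 e q hq => ?_).ge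
    (mem_top l))
  exact mem_cj_inv.2 (map_le_range _ _ (mem_normalizer_conj (h.YQ' y0
    ⟨(hO ho').1, mem_C1.2 (mem_Cs.1 (cy y e) o ho')⟩) ⟨q, hq, rfl⟩))

end Cfsg.Lib.SPW
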