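import Cfsg.Agent.SPW.Api
import Cfsg.Agent.SPW.C0
import Cfsg.Agent.SPW.C11
import Cfsg.Agent.SPW.FUS
import Cfsg.Agent.SPW.Y3

/-!
# Elements normalising `Q` and centralising `R`
-/

set_option autoImplicit false
set_option linter.unusedSectionVars false

namespace Cfsg.Lib.SPW

open Subgroup Module Cfsg.Lib.Trans Cfsg.Lib.Gold Cfsg.Lib.Class.Form Cfsg.Lib.Class.FAut
open Cfsg.Lib.UM (tT tE VW RR Fx St QW Cf mp Semi fa Mp cx re Ot kk Mx)
open Cfsg.Lib.SPN
open Cfsg.Lib.SG2 (Uq Top)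
open Cfsg.Lib.Comp (Tw)
open Cfsg.Lib.Chev.SpAm (Ix Sp bv idx Fn FixI pl TM)
open scoped commutatorElement

variable {G F M : Type*} [Group G] [Finite G] [Field F] [Finite F] [AddCommGroup M] [Module F M]
  [FiniteDimensional F M] {B : M →ₗ[F] M →ₗ[F] F} {φ : sIsom B →* G} {t g : G} {X : Subgroup G}
  {c : ℕ → M} {α : MulAut (sIsom B)} {Γ : M ≃+ M} {τ : F ≃+* F}

namespace Y4

variable {u f : M}

theorem proj (h : Mo B) (e : B f u = 1) {y : M} (k : B u y = 0) :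
    y + B f y • u ∈ hypU B u f := mem_hypU.2
  ⟨by rw [map_add, map_smul, k, h.alt, smul_zero, add_zero],
    by rw [map_add, map_smul, e, smul_eq_mul, mul_one, h.add_self]⟩

theorem zero (e : B f u = 1) {y : M} (k : y ∈ hypU B u f) (k' : y ∈ F ∙ u) : y = 0 := by
  obtain ⟨a, rfl⟩ := Submodule.mem_span_singleton.1 k'
  have := (mem_hypU.1 k).2
  rw [map_smul, e, smul_eq_mul, mul_one] at this
  rw [this, zero_smul]

theorem inj (h : Mo B) (u0 : u ≠ 0) (e : B f u = 1) {x y : hypU B u f} {a b : F}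
    (k : ee B u x a = ee B u y b) : x = y ∧ a = b := by
  rw [h.ee_inj u0 (mem_hypU.1 x.2).1 (mem_hypU.1 y.2).1] at k
  refine ⟨Subtype.ext ?_, k.2⟩
  rw [← sub_eq_zero, h.vsub]
  exact zero e (add_mem x.2 y.2) k.1

theorem nd (h : Mo B) (e : B f u = 1) (e' : B u f = 1) {d : M} (k : d ∈ hypU B u f)
    (k' : ∀ z ∈ hypU B u f, B d z = 0) : d = 0 := by
  by_contra d0
  obtain ⟨v, hv⟩ := h.exists_eq d0 1
  obtain ⟨k1, k2⟩ := mem_hypU.1 k
  have := k' _ (proj h e (y := v + B u v • f)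
    (by rw [map_add, map_smul, e', smul_eq_mul, mul_one, h.add_self]))
  rw [map_add, map_add, map_smul, map_smul, h.swap k1, h.swap k2, hv, smul_zero, smul_zero,
    add_zero, add_zero] at this
  exact one_ne_zero this

end Y4

open Y4 in
theorem FG.nQR (h : FG φ t X c α Γ τ) :
    X ⊓ Ns ((Qu B (c 0)).map φ) ⊓ Cs ((RR B (c 0)).map φ) ≤ Ns φ.range := by
  rintro n ⟨⟨nX, nQ⟩, nR⟩
  have m := h.toMo
  have k3 := m.three_le
  have u0 : c 0 ≠ 0 := h.sc.ch.ne (by omega)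
  have e : B (c (2 * kk F M - 1)) (c 0) = 1 := (h.sc.ch _ _).trans (if_pos (by omega))
  have e' : B (c 0) (c (2 * kk F M - 1)) = 1 := (h.sc.ch _ _).trans (if_pos (by omega))
  have cQ := h.cQ
  generalize c (2 * kk F M - 1) = f at e e'
  generalize c 0 = u at nQ nR u0 e e' cQ
  have ex : ∀ x : hypU B u f, ∃ y : hypU B u f, n * φ (tE B u x) * n⁻¹ = φ (tE B u y) := by
    intro x
    by_cases x0 : (x : M) = 0
    · exact ⟨x, by rw [x0, m.tE_zero, map_one, mul_one, mul_inv_cancel]⟩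
    have k := (mem_hypU.1 x.2).1
    obtain ⟨q, hq, r⟩ := mem_normalizer_conj nQ (mem_map_of_mem φ (m.tE_mem_Q k))
    obtain ⟨y, a, hy, rfl⟩ := (m.mem_Q u0).1 hq
    obtain ⟨β, hβ⟩ := h.fus _ _ n (m.tE_sq k) r.symm
    obtain rfl := aut_E m β (P2.iff.2 ⟨k, u0, fun k' => x0 (zero e x.2 k')⟩) hy hβ
    exact ⟨⟨_, proj m e hy⟩, by rw [← r, m.tE_add_self hy, m.ee_zero]⟩
  choose θ hθ using ex
  have hE : ∀ (x : hypU B u f) a, n * φ (ee B u x a) * n⁻¹ = φ (ee B u (θ x) a) := fun x a => by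
    rw [ee, ee, map_mul, map_mul, ← conj_mul, hθ, ← mem_Cs.1 nR _
      (mem_map_of_mem φ (m.mem_RR.2 ⟨a, rfl⟩)), mul_inv_cancel_right]
  have ad : ∀ x y, θ (x + y) = θ x + θ y ∧ B x y = B (θ x) (θ y) := fun x y => by
    refine inj m u0 e (h.inj ?_)
    rw [← hE, Submodule.coe_add, Submodule.coe_add,
      ← m.tE_mul (mem_hypU.1 x.2).1 (mem_hypU.1 y.2).1,
      ← m.tE_mul (mem_hypU.1 (θ x).2).1 (mem_hypU.1 (θ y).2).1, map_mul, map_mul, ← conj_mul, hθ, hθ]
  have ij : Function.Injective θ := fun x y r => by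
    refine (inj m u0 e (a := 0) (b := 0) (h.inj ((MulAut.conj n).injective ?_))).1
    rw [MulAut.conj_apply, MulAut.conj_apply, hE, hE, r]
  have : Finite M := Module.finite_of_finite F
  have sj := Finite.injective_iff_surjective.1 ij
  let l : hypU B u f →ₗ[F] hypU B u f :=
    { toFun := θ
      map_add' := fun x y => (ad x y).1
      map_smul' := fun a x => Subtype.ext (sub_eq_zero.1
        (nd m e e' (sub_mem (θ _).2 (a • θ x).2) fun z hz => by
          obtain ⟨w, hw⟩ := sj ⟨z, hz⟩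
          rw [show z = θ w from congrArg Subtype.val hw.symm, map_sub, LinearMap.sub_apply,
            ← (ad _ _).2, Submodule.coe_smul, Submodule.coe_smul, map_smul, map_smul,
            LinearMap.smul_apply, LinearMap.smul_apply, ← (ad _ _).2, RingHom.id_apply, sub_self])) }
  obtain ⟨g, g1, -, g2⟩ := m.extU e' (LinearEquiv.ofBijective l ⟨ij, sj⟩) fun x y => (ad x y).2.symm
  have := cQ (x := (φ g)⁻¹ * n) ⟨X.mul_mem (X.inv_mem (h.le ⟨g, rfl⟩)) nX, mem_Cs.2 ?_⟩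
  · have k := mul_mem (Subgroup.le_normalizer (H := φ.range) ⟨g, rfl⟩) this
    rwa [mul_inv_cancel_left] at k
  · rintro _ ⟨q, hq, rfl⟩
    obtain ⟨y, a, hy, rfl⟩ := (m.mem_Q u0).1 hq
    have r := hE ⟨_, proj m e hy⟩ a
    have r' := m.ee_conj g (mem_hypU.1 (proj m e hy)).1 a
    rw [g1, g2 ⟨_, proj m e hy⟩] at r'
    rw [show ee B u (θ ⟨_, proj m e hy⟩) a = _ from r'.symm, m.ee_add_self hy, map_mul, map_mul,
      map_inv, mul_inv_eq_iff_eq_mul] at r
    rw [mul_assoc, r]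
    group

end Cfsg.Lib.SPW
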