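import Cfsg.Agent.SPW.Api
import Cfsg.Agent.SPW.C0
import Cfsg.Agent.SPW.C0b
import Cfsg.Agent.SPW.C3
import Cfsg.Agent.SPW.GEN
import Cfsg.Agent.SPW.NALT
import Cfsg.Agent.SPW.FUS
import Cfsg.Agent.SPW.Y1
import Cfsg.Agent.SPW.Y2
import Cfsg.Agent.SPW.Y4

/-! Standard subgroups of type `Sp_{2k}(2ⁿ)`, type IV: the end of the field case. -/

set_option autoImplicit false
set_option linter.unusedSectionVars false
set_option linter.unusedVariables false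

namespace Cfsg.Lib.SPW

open Subgroup Module Cfsg.Lib.Trans Cfsg.Lib.Gold Cfsg.Lib.Class.Form Cfsg.Lib.Class.FAut
open Cfsg.Lib.UM (tT tE VW RR Fx St QW Cf mp Semi fa Mp cx re Ot kk Mx)
open Cfsg.Lib.SPN
open Cfsg.Lib.SG2 (Uq Top)
open Cfsg.Lib.Comp (Tw)
open Cfsg.Lib.Chev.SpAm (Ix Sp bv idx Fn FixI pl TM)
open scoped commutatorElement

variable {G F M : Type*} [Group G] [Finite G] [Field F] [Finite F] [AddCommGroup M] [Module F M]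
  [FiniteDimensional F M] {B : M →ₗ[F] M →ₗ[F] F} {φ : sIsom B →* G} {t g : G} {X : Subgroup G}
  {c : ℕ → M} {α : MulAut (sIsom B)} {Γ : M ≃+ M} {τ : F ≃+* F}

namespace Y5

theorem c0 (h : FG φ t X c α Γ τ) : c 0 ≠ 0 :=
  h.sc.ch.ne (by have := h.toMo.three_le; omega)

theorem root (h : FG φ t X c α Γ τ) {y : M} (y0 : y ≠ 0) (hg : g ∈ X)
    (hn : g * φ (tT B y 1) * g⁻¹ ∈ Ns φ.range) :
    ∃ l, g * φ (tT B y 1) * g⁻¹ = φ (l * tT B (c 0) 1 * l⁻¹) := by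
  have m := h.toMo
  obtain ⟨w, hw⟩ := h.tw _ ⟨X.mul_mem (X.mul_mem hg (h.le ⟨_, rfl⟩)) (X.inv_mem hg), hn⟩
    ((Tw.of_sq (by rw [← map_mul, m.tT_sq, map_one])).conj g)
  obtain ⟨y', rfl⟩ := h.fusT hw.symm
  have y1 : y' ≠ 0 := by
    rintro rfl
    rw [m.tT_zero', map_one, eq_comm, conj_eq_one_iff] at hw
    exact m.tT_ne y0 one_ne_zero (h.inj (hw.trans (map_one φ).symm))
  obtain ⟨l, rfl⟩ := m.tr1 (c0 h) y1
  exact ⟨l, by rw [m.tT_conj, hw]⟩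

end Y5

open Y5

theorem FG.YM (h : FG φ t X c α Γ τ) : YY φ X (c 0) ≤ Ns φ.range := fun g hg => by
  have m := h.toMo
  have nR : g ∈ Ns ((RR B (c 0)).map φ) := mem_normalizer_of_cj_le (cj_le_iff.2 (by
    rintro _ ⟨a, ha, rfl⟩
    obtain ⟨d, -, e⟩ := mem_normalizer_conj (h.YQ hg) ⟨a, m.VW_le_QW (m.ti1 _) ha, rfl⟩
    exact ⟨d, h.scR ha hg e.symm, e⟩))
  have key := gen_QQ m (c0 h) (S := (cj g⁻¹ φ.range).comap φ) fun y y0 e => by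
    have p : tT B y 1 ∈ Pu B (c 0) := m.tT_mem_Fx (m.mem_orth1.2 e) 1
    have s1 := mul_mem (mul_mem hg (h.toFF.PY ⟨_, p, rfl⟩)) (inv_mem hg)
    have s2 : φ (tT B y 1) ∈ Cs ((RR B (c 0)).map φ) := Gold.mem_Cs.2 (by
      rintro _ ⟨a, ha, rfl⟩
      rw [← map_mul, ← map_mul, Gold.mem_Cs.1 (K2.Fx_le m p) a ha])
    obtain ⟨l', e'⟩ := root h y0 hg.1
      (h.nQR ⟨⟨s1.1, h.YQ s1⟩, mem_normalizer_conj (mem_Ns_Cs nR) s2⟩)
    obtain ⟨l, rfl⟩ := m.tr1 (c0 h) y0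
    rw [← m.tT_conj] at e'
    simp only [map_mul, map_inv] at e'
    have n := h.YQ (show (φ l')⁻¹ * g * φ l ∈ YY φ X (c 0) from
      ⟨X.mul_mem (X.mul_mem (X.inv_mem (h.le ⟨_, rfl⟩)) hg.1) (h.le ⟨_, rfl⟩), mem_C1.2 (by
        calc _ = (φ l')⁻¹ * (g * (φ l * φ (tT B (c 0) 1) * (φ l)⁻¹) * g⁻¹) * g * φ l := by group
          _ = _ := by rw [e']; group)⟩)
    rw [← cj_Q]
    rintro _ ⟨q, hq, rfl⟩
    obtain ⟨d, -, k⟩ := mem_normalizer_conj n ⟨q, hq, rfl⟩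
    refine mem_comap.2 (mem_cj_inv.2 ⟨l' * d * l'⁻¹, ?_⟩)
    change _ = g * φ (l * q * l⁻¹) * g⁻¹
    simp only [map_mul, map_inv, k]
    group
  refine mem_normalizer_of_cj_le (cj_le_iff.2 ?_)
  rintro _ ⟨v, rfl⟩
  exact mem_cj_inv.1 (mem_comap.1 (key.ge (mem_top v)))

theorem FG.eq (h : FG φ t X c α Γ τ) : φ.range = X := by
  by_contra hne
  have m := h.toMo
  have k3 := m.three_le
  have z := h.sc.ch.Z_mem m 1 0
  rw [zero_smul, m.ee_zero'] at z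
  obtain ⟨n, -, ⟨e⟩⟩ := SG2.holt (M := Ns φ.range) h.top.simple h.top.perf h.syl
    (z := φ (tT B (c 0) 1)) ⟨⟨_, z.1, rfl⟩, Gold.mem_Cs.2 (by
      rintro _ ⟨a, ha, rfl⟩
      rw [← map_mul, ← map_mul, Gold.mem_Cs.1 z.2 a ha])⟩
    (by rw [← map_mul, m.tT_sq, map_one])
    (fun e => m.tT_ne (c0 h) one_ne_zero (h.inj (e.trans (map_one φ).symm)))
    (map_le_range φ _) (le_inf h.le le_normalizer) le_rfl h.toMod.perf hne h.YM
    (fun g hg hm => by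
      obtain ⟨l, e⟩ := root h (c0 h) hg hm
      exact ⟨φ l, ⟨h.le ⟨l, rfl⟩, le_normalizer ⟨l, rfl⟩⟩, by rw [e, map_mul, map_mul, map_inv]⟩)
    ⟨φ (tT B (c (2 * kk F M - 1)) 1), ⟨_, rfl⟩, by rw [← map_mul, m.tT_sq, map_one], fun e => by
      have k := UM.mem_Fx1.1 (h.sc.ch.U_le m (h.toMod.mem_map.1 e))
      rw [m.lin_tT, h.sc.ch, if_pos (by omega), one_mul, one_smul, add_eq_left] at k
      exact h.sc.ch.ne (by omega) k⟩
  exact (not_alt m n).false ((MonoidHom.ofInjective h.inj).trans e)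

end Cfsg.Lib.SPW
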