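import Cfsg.Agent.SPW.WD
import Cfsg.Agent.SPN.K3
import Cfsg.Agent.SPN.K4
import Cfsg.Agent.SPN.GEN
import Cfsg.Agent.SPN.A2
import Cfsg.Agent.SPN.J1
import Cfsg.Agent.SPN.J2
import Cfsg.Agent.SPN.LIFT
import Cfsg.Agent.SPN.KIT
import Cfsg.Agent.SPN.P1a
import Cfsg.Agent.SPN.P1b
import Cfsg.Agent.Known.PSpAutMain
import Cfsg.Agent.Chev.EGCover
import Cfsg.Agent.Chev.ESDFrame
import Cfsg.Agent.SG2.ABb
import Cfsg.Agent.SG2.EFf
import Cfsg.Agent.SF4.BA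
import Cfsg.Agent.UM.PN
import Cfsg.Agent.UM.N0
import Cfsg.Agent.Block.ZStarElt
import Cfsg.Agent.Local.IsolatedP

/-!
# Standard subgroups of type `Sp_{2k}(2ⁿ)`, type IV: the common imports
-/
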