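import Cfsg.Agent.SPW.Api
import Cfsg.Agent.SPW.C7
import Cfsg.Agent.SPW.C8

/-!
# Standard subgroups of type `Sp_{2k}(2ⁿ)`, type IV: the field case, fusion of `t`
-/

set_option autoImplicit false
set_option linter.unusedSectionVars false

namespace Cfsg.Lib.SPW

open Subgroup Module Cfsg.Lib.Trans Cfsg.Lib.Gold Cfsg.Lib.Class.Form Cfsg.Lib.Class.FAut
open Cfsg.Lib.UM (tT tE VW RR Fx St QW Cf mp Semi fa Mp cx re Ot kk Mx)
open Cfsg.Lib.SPN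
open Cfsg.Lib.SG2 (Uq Top)
open Cfsg.Lib.Comp (Tw)
open Cfsg.Lib.Chev.SpAm (Ix Sp bv idx Fn FixI pl TM)
open scoped commutatorElement

variable {G F M K : Type*} [Group G] [Finite G] [Field F] [Finite F] [AddCommGroup M] [Module F M]
  [FiniteDimensional F M] [Field K] [Finite K] {B : M →ₗ[F] M →ₗ[F] F} {φ : sIsom B →* G} {t : G}
  {H : M → M → G} {D : M → G} {ι : F →+* K} {γ : K} {β : F} {p₀ p₁ : K → F} {τ : K ≃+* K}
  {X : Subgroup G}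

variable {N : Type*} [AddCommGroup N] [Module K N] [FiniteDimensional K N] {C : N →ₗ[K] N →ₗ[K] K}
  {ψ : sIsom C →* G} {α : MulAut (sIsom C)}

theorem EF.tM (h : EF φ t ψ α) : t ∈ Ns ψ.range := mem_Ns_iff.2 h.act.cj_range

theorem EF.odd (h : EF φ t ψ α) : Odd (Nat.card (Cs ψ.range)) :=
  h.toH1.odd_Cs h.le h.cO h.tM fun e =>
    h.out (by rw [h.ms.mp_uniq h.act (UM.Mp.of_Cs e), h.ms.toMo.fa_one])

theorem EF.outer (h : EF φ t ψ α) {g : G} {β : MulAut (sIsom C)} (k : Mp ψ ψ (g * t * g⁻¹) β) :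
    fa β = fa α := by
  have m := h.ms.toMo
  have b2 := h.ms.mp_sq k (Comp.conj_sq h.t2 g)
  have sq : ∀ {γ : MulAut (sIsom C)}, γ * γ = 1 → fa γ * fa γ = 1 := fun e => by
    rw [← m.fa_mul, e, m.fa_one]
  refine aut_inv (sq b2) (sq (h.ms.mp_sq h.act h.t2)) (fun e => ?_) h.out
  obtain ⟨l, rfl⟩ := m.inner e
  obtain ⟨W, hW, hl⟩ := m.inv (g := l) (m.conj_inj (by rw [map_mul, b2, map_one]))
  have h1 := (h.toHyp.jl (A := cj g⁻¹ ((VW C W).map ψ)) (by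
    rintro _ ⟨_, ⟨v, hv, rfl⟩, rfl⟩
    rw [← map_mul, ← map_mul, m.sq_VW hW.ti hv, map_one, map_one]) (cj_le_iff.2 (by
    rintro _ ⟨v, hv, rfl⟩
    have e1 := k v
    rw [MulAut.conj_apply, Comp.conj_eq_of_comm
      (mem_Cs.1 (le_Cs_of_sq (fun a => m.sq_VW hW.ti) le_rfl hv) l hl)] at e1
    rw [mem_C1]
    calc _ = g⁻¹ * (g * t * g⁻¹ * ψ v * (g * t * g⁻¹)⁻¹) * g * t := by rw [e1, inv_inv]
      _ = _ := by group))).1
  rw [card_cj, h.ms.card_map, m.card_VW hW.ti, hW.dim, h.rank, h.card, ← pow_mul, mul_comm 2,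
    pow_mul, pow_two] at h1
  have h2 := Nat.le_of_mul_le_mul_right h1 (pow_pos Nat.card_pos _)
  have h3 := h.toMo.three_le
  have h4 : 2 ≤ kk F M * (kk F M + 1) / 2 := (Nat.le_div_iff_mul_le two_pos).2 (by nlinarith)
  have h5 := (Nat.pow_le_pow_right two_pos h4).trans
    ((Nat.pow_le_pow_left h.toMo.two_le _).trans h2)
  omega

theorem EF.uq (h : EF φ t ψ α) : Uq (Ns ψ.range) t := by
  intro g hg
  have m := h.ms.toMo
  obtain ⟨β, k⟩ := h.ms.ind hg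
  have a2 := h.ms.mp_sq h.act h.t2
  obtain ⟨Γ, s⟩ := m.semi α
  obtain ⟨Δ, s'⟩ := m.semi β
  rw [h.outer k] at s'
  obtain ⟨c, a⟩ := fix_ch m s a2 h.out
  obtain ⟨c', a'⟩ := fix_ch m s' (h.ms.mp_sq k (Comp.conj_sq h.t2 g)) h.out
  obtain ⟨l, rfl⟩ := a.conj m a'
  have h2 := h.act.mul (((UM.Mp.self l).inv.mul k).mul (UM.Mp.self l))
  rw [show α * ((MulAut.conj l)⁻¹ * (MulAut.conj l * α * (MulAut.conj l)⁻¹) * MulAut.conj l) =
    α * α by group, a2] at h2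
  have h3 : (ψ l)⁻¹ * (g * t * g⁻¹) * ψ l * ((ψ l)⁻¹ * (g * t * g⁻¹) * ψ l) = 1 := by
    simpa using Comp.conj_sq (Comp.conj_sq h.t2 g) (ψ l)⁻¹
  obtain ⟨n, hn⟩ := exists_zpow_conj_of_odd_mul h.t2 h3 (odd_orderOf_of_mem h2.mem_Cs h.odd)
  have hm := zpow_mem (Cs_le_Ns h2.mem_Cs) n
  generalize (t * ((ψ l)⁻¹ * (g * t * g⁻¹) * ψ l)) ^ n = y at hn hm
  have h5 : y⁻¹ * ((ψ l)⁻¹ * g) ∈ C1 t := mem_C1.2 (by
    calc _ = y⁻¹ * ((ψ l)⁻¹ * (g * t * g⁻¹) * ψ l) * ((ψ l)⁻¹ * g) := by group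
      _ = _ := by rw [← hn]; group)
  exact (mul_mem_cancel_left (inv_mem (le_normalizer (H := ψ.range) ⟨l, rfl⟩))).1
    ((mul_mem_cancel_left (inv_mem hm)).1 (h.nL h5))

end Cfsg.Lib.SPW
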