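import Cfsg.Agent.SPW.N1

/-!
# The wreath end game: the normaliser of the Sylow 2-subgroup
-/

set_option autoImplicit false
set_option linter.unusedSectionVars false

namespace Cfsg.Lib.SPW

open Subgroup Cfsg.Lib.Trans Cfsg.Lib.Gold
open Cfsg.Lib.UM (N0.common N0.sq_cj N0.sup_sq N0.sub_Cs N0.sub_inf N0.le_Ns1)
open scoped commutatorElement

variable {G Γ : Type*} [Group G] [Finite G] [CommGroup Γ] [Finite Γ] {A B U V D E X J J' K : Subgroup G}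
  {θ η : G → Γ} {n₀ b₀ m : ℕ} {t g g' v r r' : G}

namespace N2

variable (h : WE A B U V D E θ η n₀ b₀ t X)
include h

theorem UN : U ⊔ V ≤ Ns U := N0.le_Ns1 h.UV

theorem z1 : U ⊓ Cs U ≤ (U ⊔ V) ⊓ Cs (U ⊔ V) :=
  le_inf (inf_le_left.trans le_sup_left) (le_Cs_comm.1 (sup_le (le_Cs_comm.1 inf_le_right)
    (le_Cs_comm.1 (inf_le_left.trans h.UV))))

theorem z2 : V ⊓ Cs V ≤ (U ⊔ V) ⊓ Cs (U ⊔ V) := sup_comm V U ▸ z1 h.symm

theorem cc {c d m : G} (hc : c ∈ U) (hd : d ∈ V) (hm : m ∈ U ⊔ V) (e : Commute m (c * d)) :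
    Commute m c ∧ Commute m d :=
  h.comp_comm (h.fa.syl.le hc) (h.fb.syl.le hd) (h.GA (h.UG hm)) (h.GB (h.UG hm)) e

theorem ks {K L : Subgroup G} (hc : K ≤ Cs L) (e : K ⊔ L = U ⊔ V) :
    K ≤ (U ⊓ Cs U) ⊔ V ∨ L ≤ (U ⊓ Cs U) ⊔ V := by
  have hK : K ≤ U ⊔ V := e ▸ le_sup_left
  have hL : L ≤ U ⊔ V := e ▸ le_sup_right
  have hN : U ⊔ V ≤ Ns V := sup_comm V U ▸ UN h.symm
  have p : ∀ K : Subgroup G, ∀ c ∈ U, ∀ d ∈ V, c * d ∈ K → c ∈ U ⊓ (V ⊔ K) := fun K c hc d hd e =>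
    ⟨hc, (mul_mem_cancel_right (mem_sup_left hd)).1 (mem_sup_right e)⟩
  have f : ∀ K : Subgroup G, K ≤ U ⊔ V → U ⊓ (V ⊔ K) ≤ Cs U → K ≤ (U ⊓ Cs U) ⊔ V :=
    fun K hK h1 k hk => by
      obtain ⟨c, hc, d, hd, rfl⟩ := h.decU (hK hk)
      exact mul_mem (mem_sup_left ⟨hc, h1 (p K c hc d hd hk)⟩) (mem_sup_right hd)
  refine (h.fa.up.nc (U ⊓ (V ⊔ K)) (U ⊓ (V ⊔ L)) (fun x hx => mem_Cs.2 fun y hy => ?_)
    (le_antisymm (sup_le inf_le_left inf_le_left) fun u hu => ?_)).imp (f K hK) (f L hL)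
  · obtain ⟨w, hw, k, hk, rfl⟩ := (Solv.Coprime.mem_sup_iff (hK.trans hN)).1 hx.2
    obtain ⟨w', hw', l, hl, e'⟩ := (Solv.Coprime.mem_sup_iff (hL.trans hN)).1 hy.2
    have c1 : Commute y w'⁻¹ := (mem_Cs.1 (h.UV hy.1) _ (inv_mem hw')).symm
    have c2 : Commute k (y * w'⁻¹) := by
      rw [c1.eq, ← e', inv_mul_cancel_left]
      exact (mem_Cs.1 (hc hk) l hl).symm
    exact Commute.mul_right (mem_Cs.1 (h.UV hy.1) _ hw).symm
      (cc h hy.1 (inv_mem hw') (hK hk) c2).1.symm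
  · obtain ⟨k, hk, l, hl, e'⟩ := (SG2.mem_sup_Cs hc).1 (e.ge (mem_sup_left hu))
    obtain ⟨c, hc, d, hd, rfl⟩ := h.decU (hK hk)
    obtain ⟨c', hc', d', hd', rfl⟩ := h.decU (hL hl)
    rw [← (SG2.eq_of_mul h.infU (mul_mem hc hc') (mul_mem hd hd') hu (one_mem _) (by
      rw [mul_one, ← e', mul_assoc, mul_assoc, ← mul_assoc c', ← mem_Cs.1 (h.UV hc') d hd,
        mul_assoc])).1]
    exact mul_mem (mem_sup_left (p K c hc d hd hk)) (mem_sup_right (p L c' hc' d' hd' hl))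

theorem both {K : Subgroup G} (h1 : K ≤ (U ⊓ Cs U) ⊔ V) (h2 : K ≤ (V ⊓ Cs V) ⊔ U) :
    K ≤ Cs K := fun k hk => by
  obtain ⟨c, hc, d, hd, rfl⟩ := (SG2.mem_sup_Cs (inf_le_left.trans h.UV)).1 (h1 hk)
  obtain ⟨d', hd', c', hc', e⟩ := (SG2.mem_sup_Cs (inf_le_left.trans h.symm.UV)).1 (h2 hk)
  rw [mem_Cs.1 (h.UV hc') d' hd'.1] at e
  rw [← (SG2.eq_of_mul h.infU hc' hd'.1 hc.1 hd e).2]
  exact Cs_anti (h1.trans (sup_le_sup_right inf_le_left _)) (mul_mem (z1 h hc).2 (z2 h hd').2)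

/-- The centre of a conjugate of a factor lying in `Z(V) U`. -/
theorem cz {W : Subgroup G} (hW : W ⊓ Cs W ≤ ⁅W, W⁆) (hz : W ⊓ Cs W ≤ Cs (U ⊔ V))
    (hg : g ∈ Ns (U ⊔ V)) (h1 : cj g W ≤ (V ⊓ Cs V) ⊔ U) : cj g (W ⊓ Cs W) ≤ U ⊓ Cs U := by
  refine le_inf ((cj_mono g hW).trans ?_) ((cj_mono g hz).trans ?_)
  · rw [cj_commutator]
    refine (commutator_mono h1 h1).trans ((SF4.Wr.comm_sup_le (inf_le_left.trans h.symm.UV)
      le_rfl le_rfl).trans (sup_le ?_ (commutator_le_left_of_le le_normalizer)))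
    rw [commutator_eq_bot_iff_le_centralizer.2 (inf_le_right.trans (Cs_anti inf_le_left))]
    exact bot_le
  · rw [Cs, cj_centralizer, mem_Ns_iff.1 hg]
    exact Cs_anti le_sup_left

end N2

theorem WE.nT (h : WE A B U V D E θ η n₀ b₀ t X) : X ⊓ Ns (U ⊔ V) ≤ Ns (U ⊓ Cs U) := fun g hg => by
  have hc : cj g U ≤ Cs (cj g V) := by rw [Cs, ← cj_centralizer]; exact cj_mono g h.UV
  have e : cj g U ⊔ cj g V = U ⊔ V := by rw [← cj_sup, mem_Ns_iff.1 hg.2]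
  have e1 := (N2.z1 h).trans inf_le_right
  have e2 := (N2.z2 h).trans inf_le_right
  rcases N2.ks h.symm hc (e.trans (sup_comm _ _)) with k | k
  · exact mem_normalizer_of_cj_le (N2.cz h h.fa.up.zle e1 hg.2 k)
  have k' := (N2.ks h hc e).resolve_right fun k' => by
    have h1 := N2.both h k' k
    rw [Cs, ← cj_centralizer, cj_le_cj] at h1
    have h2 := h.fb.up.zle
    rw [inf_eq_left.2 h1, commutator_eq_bot_iff_le_centralizer.2 h1] at h2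
    exact h.fb.up.ne_bot (eq_bot_iff.2 h2)
  have h1 : g * g ∈ Ns (U ⊓ Cs U) := mem_normalizer_of_cj_le (by
    rw [cj_mul]
    exact (cj_mono g (N2.cz h.symm h.fa.up.zle (sup_comm U V ▸ e1) (sup_comm U V ▸ hg.2) k')).trans
      (N2.cz h h.fb.up.zle e2 hg.2 k))
  obtain ⟨_, ⟨m, rfl⟩, h2⟩ := SG2.odd_pow_mem h.syl hg
  rw [pow_succ, pow_mul, pow_two] at h2
  exact (mul_mem_cancel_left (pow_mem h1 m)).1 (le_Ns_inf (N2.UN h) (le_Ns_Cs (N2.UN h)) h2)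

theorem N2.itc_sup (h : WF A B U V D E θ η n₀ b₀ t X J J' r r' m) (k : ℕ) :
    itc (J ⊔ J') (U ⊔ V) k ≤ itc J U k ⊔ itc J' V k := by
  induction k with
  | zero => exact le_rfl
  | succ k ih =>
    rw [itc_succ, itc_succ, itc_succ]
    exact (commutator_mono ih le_rfl).trans (SF4.Wr.comm_sup_le h.UV
      ((itc_le h.ga.UJ k).trans h.ga.JU) ((itc_le h.gb.UJ k).trans h.gb.JU))

theorem WF.nI (h : WF A B U V D E θ η n₀ b₀ t X J J' r r' m) :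
    X ⊓ Ns (U ⊔ V) ≤ Ns (itc J U (m + 1)) := fun g hg => mem_normalizer_of_cj_le fun x hx => by
  have e := mem_Ns_iff.1 hg.2
  have h1 : x ∈ U := ((cj_mono g h.ga.LZ).trans (mem_Ns_iff.1 (h.toWE.nT hg)).le hx).1
  rw [cj_itc] at hx
  obtain ⟨c, hc, d, hd, rfl⟩ := (SG2.mem_sup_Cs (N0.sub_Cs h.UV (h.ga.LZ.trans inf_le_left)
    (h.gb.LZ.trans inf_le_left))).1 (N2.itc_sup h _ (itc_mono ((cj_mono g le_sup_left).trans
      (h.wc ((cj_mono g h.J_le).trans e.le)).le) ((cj_mono g le_sup_left).trans e.le) _ hx))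
  rwa [mem_bot.1 (h.infU.le ⟨(U.mul_mem_cancel_left (h.ga.LZ hc).1).1 h1, (h.gb.LZ hd).1⟩), mul_one]

theorem WF.nconj (h : WF A B U V D E θ η n₀ b₀ t X J J' r r' m) (hg : g ∈ X) : g * r' * g⁻¹ ∉ J := by
  intro hv
  have := Fact.mk Nat.prime_two
  have zT : itc J U (m + 1) ⊔ itc J' V (m + 1) ≤ (U ⊔ V) ⊓ Cs (U ⊔ V) :=
    sup_le (h.ga.LZ.trans (N2.z1 h.toWE)) (h.gb.LZ.trans (N2.z2 h.toWE))
  have hl : J ⊔ V ≤ U ⊔ V := sup_le_sup_right h.ga.JU _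
  have hr := zT (mem_sup_right h.gb.rm)
  obtain ⟨c, hc, h1⟩ := (h.syl.mono (K := X ⊓ C1 r') (le_inf h.syl.le
    ((le_Cs_comm.1 le_rfl).trans (Cs_le_C1 (U := Cs (U ⊔ V)) hr.2))) inf_le_left).exists_cj_le
    (isPGroup_cj (h.syl.isPGroup.to_le hl) g⁻¹) (le_inf
      (cj_le_of_mem_of_le (inv_mem hg) (hl.trans h.syl.le)) (by
        rw [show r' = g⁻¹ * (g * r' * g⁻¹) * g⁻¹⁻¹ by group, ← cj_C1]
        exact cj_mono _ (sup_le ((le_Cs_of_sq h.ga.el le_rfl).trans (Cs_le_C1 hv))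
          (h.symm.UV.trans (Cs_le_C1 (h.ga.JU hv))))))
  rw [cj_cj] at h1
  have e : c * g⁻¹ * (g * r' * g⁻¹) * (c * g⁻¹)⁻¹ = r' := by
    rw [show c * g⁻¹ * (g * r' * g⁻¹) * (c * g⁻¹)⁻¹ = c * r' * c⁻¹ by group, mem_C1.1 hc.2,
      mul_inv_cancel_right]
  have hk : c * g⁻¹ ∈ X := mul_mem hc.1 (inv_mem hg)
  have v1 : g * r' * g⁻¹ ≠ 1 := fun e => h.gb.r1 (by simpa [mul_inv_eq_one] using e)
  generalize c * g⁻¹ = k at h1 e hk
  generalize g * r' * g⁻¹ = v at hv e v1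
  have h2 : cj k (itc J' V (m + 1)) ≤ (U ⊔ V) ⊓ Cs (U ⊔ V) := by
    rw [cj_itc]
    exact (itc_mono ((cj_mono k le_sup_right).trans (h.wc ((cj_mono k
      (sup_le_sup_left h.gb.JU _)).trans h1)).le) ((cj_mono k le_sup_right).trans h1) _).trans
      ((N2.itc_sup h _).trans zT)
  have h3 : k ∈ Ns (itc J' V (m + 1)) := mem_normalizer_of_cj_le fun x hx => by
    obtain ⟨s, hs, rfl⟩ := hx
    obtain ⟨n, h4, h5⟩ := SG2.burn_fus h.syl (zT (mem_sup_right hs)) hk (h2 ⟨s, hs, rfl⟩)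
    show k * s * k⁻¹ ∈ itc J' V (m + 1)
    exact h5 ▸ mem_normalizer_conj (h.symm.nI (sup_comm U V ▸ h4)) hs
  have h4 := mem_normalizer_conj (inv_mem h3) h.gb.rm
  rw [← e, show k⁻¹ * (k * v * k⁻¹) * k⁻¹⁻¹ = v by group] at h4
  exact v1 (mem_bot.1 (h.infU.le ⟨h.ga.JU hv, (h.gb.LZ h4).1⟩))

end Cfsg.Lib.SPW
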