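import Cfsg.Agent.SPW.Api
import Cfsg.Agent.SPW.N1
import Cfsg.Agent.SPW.N2

/-!
# The wreathed configuration: involutions of a factor are strongly closed
-/

set_option autoImplicit false
set_option linter.unusedSectionVars false

namespace Cfsg.Lib.SPW

open Subgroup Module Cfsg.Lib.Trans Cfsg.Lib.Gold
open Cfsg.Lib.SG2 (Uq Top)
open Cfsg.Lib.Comp (Tw)
open scoped commutatorElement

variable {G Γ : Type*} [Group G] [Finite G] [CommGroup Γ] [Finite Γ] {A B U V D E X J J' K : Subgroup G}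
  {θ η : G → Γ} {n₀ b₀ m : ℕ} {t g g' v r r' : G}

namespace N3

theorem JJ (h : WF A B U V D E θ η n₀ b₀ t X J J' r r' m) : J ≤ Cs J' :=
  h.ga.JU.trans (h.UV.trans (Cs_anti h.gb.JU))

theorem ns (h : WF A B U V D E θ η n₀ b₀ t X J J' r r' m) (hg : g ∈ A ⊓ Ns J) :
    g ∈ X ⊓ Ns (J ⊔ J') :=
  ⟨h.le (mem_sup_left hg.1), mem_Ns_sup hg.2
    (Cs_le_Ns (Cs_anti (h.gb.JU.trans h.fb.syl.le) (h.com hg.1)))⟩

theorem invU (h : WF A B U V D E θ η n₀ b₀ t X J J' r r' m) {a : G} (ha : a ∈ A ⊓ Ns J)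
    (a2 : a * a = 1) : ∃ l ∈ A ⊓ Ns J, ∃ b ∈ U, b * b = 1 ∧ a = l * b * l⁻¹ := by
  have := Fact.mk Nat.prime_two
  obtain ⟨l, hl, e⟩ := (h.fa.syl.mono (le_inf h.fa.syl.le h.ga.UJ) inf_le_left).exists_cj_le
    (Tw.of_sq a2).isPGroup (zpowers_le.2 ha)
  exact ⟨l⁻¹, inv_mem hl, l * a * l⁻¹, cj_le_iff.1 e a (mem_zpowers a), Comp.conj_sq a2 l,
    by group⟩

theorem root (h : WF A B U V D E θ η n₀ b₀ t X J J' r r' m) (hK : K = J ⊔ J') {H : Subgroup G}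
    (hH : H ≤ X) : ∀ a ∈ V, a * a ∈ Cs K → a ∉ Cs K → ∃ v ∈ J', ∀ g ∈ H, g * ⁅v, a⁆ * g⁻¹ ∉ J := by
  intro a ha h1 h2
  subst hK
  obtain ⟨v, hv, l, hl, e⟩ := h.gb.root a ha (Cs_anti le_sup_right h1) fun e => h2 (zpowers_le.1
    (le_Cs_comm.1 (sup_le (h.ga.JU.trans (h.UV.trans (Cs_anti (zpowers_le.2 ha))))
      (le_Cs_comm.1 (zpowers_le.2 e)))))
  refine ⟨v, hv, fun g hg => ?_⟩
  have := h.nconj (mul_mem (hH hg) (h.le (mem_sup_right hl)))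
  rwa [e, show g * (l * r' * l⁻¹) * g⁻¹ = g * l * r' * (g * l)⁻¹ by group]

end N3

open N3

theorem WF.nV (h : WF A B U V D E θ η n₀ b₀ t X J J' r r' m) : X ⊓ Ns (J ⊔ J') ≤ Ns J :=
  fun n hn => by
  let S : Set G := {s | ∃ c ∈ X ⊓ Ns (J ⊔ J'), ∃ b ∈ V, b * b = 1 ∧ s = c * b * c⁻¹}
  have c1 : J ≤ centralizer S := h.ga.gen.trans ((closure_le _).2 (by
    rintro _ ⟨v, hv, a, ha, a2, rfl⟩
    obtain ⟨l, hl, b, hb, b2, rfl⟩ := invU h ha a2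
    refine mem_centralizer_iff.2 ?_
    rintro _ ⟨c, hc, d, hd, d2, rfl⟩
    exact (UM.prodn rfl h.J_sq inf_le_right h.sylJ h.UV h.infU h.ga.JU h.gb.JU h.ga.UJ h.gb.UJ
      (root h.symm (sup_comm _ _) inf_le_left) (root h rfl inf_le_left) hb b2 hd d2 (ns h hl) hc
      (mem_sup_left hv)).eq.symm))
  refine mem_normalizer_of_cj_le (cj_le_iff.2 fun v hv => ?_)
  have c2 : n * v * n⁻¹ ∈ centralizer S := mem_centralizer_iff.2 (by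
    rintro _ ⟨c, hc, d, hd, d2, rfl⟩
    have := mem_centralizer_iff.1 (c1 hv) _ ⟨n⁻¹ * c, mul_mem (inv_mem hn) hc, d, hd, d2, rfl⟩
    calc _ = n * (n⁻¹ * c * d * (n⁻¹ * c)⁻¹ * v) * n⁻¹ := by group
      _ = _ := by rw [this]; group)
  obtain ⟨a, ha, b, hb, e⟩ := (SG2.mem_sup_Cs (JJ h)).1
    (mem_normalizer_conj hn.2 (mem_sup_left hv))
  rw [← e, mul_mem_cancel_left (c1 ha)] at c2
  rw [← e, h.gb.cv b hb fun d hd d2 => ?_, mul_one]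
  · exact ha
  obtain ⟨l, hl, c, hc, c3, rfl⟩ := invU h.symm hd d2
  exact (mem_centralizer_iff.1 c2 _ ⟨l, sup_comm J' J ▸ ns h.symm hl, c, hc, c3, rfl⟩).symm

theorem WF.ic (h : WF A B U V D E θ η n₀ b₀ t X J J' r r' m) (hv : v ∈ A) (v2 : v * v = 1)
    (hg : g ∈ X) (hv' : g * v * g⁻¹ ∈ A ⊔ B) : g * v * g⁻¹ ∈ A := by
  obtain ⟨a, ha, b, hb, e⟩ := h.dec hv'
  have sq := SG2.eq_of_mul h.inf (mul_mem ha ha) (mul_mem hb hb) (one_mem _) (one_mem _) (by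
    rw [← (h.comm ha hb).symm.mul_mul_mul_comm, e, Comp.conj_sq v2 g, one_mul])
  obtain ⟨l, hl, k0⟩ := h.ga.inv v hv v2
  obtain ⟨p, hp, k1⟩ := h.ga.inv a ha sq.1
  obtain ⟨n, hn, k2⟩ := h.gb.inv b hb sq.2
  have bB : n * b * n⁻¹ ∈ B := mul_mem (mul_mem hn hb) (inv_mem hn)
  have e2 : p * n * g * l⁻¹ * (l * v * l⁻¹) * (p * n * g * l⁻¹)⁻¹ =
      p * a * p⁻¹ * (n * b * n⁻¹) := by
    have c1 := (h.comm ha hn).eq
    have c2 := (h.comm (inv_mem hp) bB).eq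
    calc _ = p * (n * (g * v * g⁻¹) * n⁻¹) * p⁻¹ := by group
      _ = p * (n * a * b * n⁻¹) * p⁻¹ := by rw [← e]; group
      _ = p * a * (n * b * n⁻¹ * p⁻¹) := by rw [← c1]; group
      _ = _ := by rw [← c2]; group
  obtain ⟨c, hc, e3⟩ := h.fus_J (mem_sup_left k0) (mul_mem (mul_mem (mul_mem
    (h.le (mem_sup_left hp)) (h.le (mem_sup_right hn))) hg) (inv_mem (h.le (mem_sup_left hl))))
    (e2 ▸ mul_mem (mem_sup_left k1) (mem_sup_right k2))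
  have k3 := mem_normalizer_conj (h.nV hc) k0
  rw [e3, e2, mul_mem_cancel_left k1] at k3
  have k4 := mem_bot.1 (h.inf.le ⟨h.fa.syl.le (h.ga.JU k3), bB⟩)
  rw [← e, conj_eq_one_iff.1 k4, mul_one]
  exact ha

end Cfsg.Lib.SPW
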