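import Cfsg.Agent.SPW.Api
import Cfsg.Agent.SPW.N1
import Cfsg.Agent.SPW.N2
import Cfsg.Agent.SPW.N3

/-!
# Standard subgroups of type `Sp_{2k}(2ⁿ)`, wreathed case: pairs of root involutions
-/

set_option autoImplicit false
set_option linter.unusedSectionVars false

namespace Cfsg.Lib.SPW

open Subgroup Cfsg.Lib.Trans Cfsg.Lib.Gold
open Cfsg.Lib.Comp (Tw)
open scoped commutatorElement

variable {G Γ : Type*} [Group G] [Finite G] [CommGroup Γ] [Finite Γ] {A B U V D E X J J' K : Subgroup G}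
  {θ η : G → Γ} {n₀ b₀ m : ℕ} {t g g' v r r' : G}

theorem WF.nV' (h : WF A B U V D E θ η n₀ b₀ t X J J' r r' m) : X ⊓ Ns (J ⊔ J') ≤ Ns J' := by
  rw [sup_comm]; exact h.symm.nV

theorem WF.AJ (h : WF A B U V D E θ η n₀ b₀ t X J J' r r' m) : A ≤ Cs J' :=
  h.com.trans (Cs_anti (h.gb.JU.trans h.fb.syl.le))

theorem WF.AX (h : WF A B U V D E θ η n₀ b₀ t X J J' r r' m) : A ≤ X :=
  le_sup_left.trans h.toWR.le

theorem WF.rA (h : WF A B U V D E θ η n₀ b₀ t X J J' r r' m) : r ∈ A :=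
  h.fa.syl.le (h.ga.JU h.ga.rJ)

theorem WF.half (h : WF A B U V D E θ η n₀ b₀ t X J J' r r' m) (hg : g ∈ X) (hv : g * r * g⁻¹ ∈ J) :
    ∃ c ∈ X ⊓ Cs J', c * r * c⁻¹ = g * r * g⁻¹ := by
  have := Fact.mk Nat.prime_two
  obtain ⟨n, hn, e⟩ := h.fus_J (mem_sup_left h.ga.rJ) hg (mem_sup_left hv)
  have s := h.sylJ
  have n1 := le_Ns_inf le_normalizer (le_Ns_Cs h.nV)
  have n2 := le_Ns_inf le_normalizer (le_Ns_Cs h.nV')
  generalize hH : X ⊓ Ns (J ⊔ J') = H at hn s n1 n2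
  have HX : H ≤ X := hH ▸ inf_le_left
  have s1 : IsSylowIn 2 (U ⊔ V) (H ⊓ Cs J' ⊔ H ⊓ Cs J) :=
    s.mono (sup_le_sup (le_inf (le_sup_left.trans s.le) (h.fa.syl.le.trans h.AJ))
      (le_inf (le_sup_right.trans s.le) (h.fb.syl.le.trans h.symm.AJ)))
      (sup_le inf_le_left inf_le_left)
  obtain ⟨p, hp, c, hc, e1⟩ := s1.frattini' (le_Ns_sup n2 n1 (inv_mem hn))
  obtain ⟨c2, h2, c1, h1, e2⟩ := (Solv.Coprime.mem_sup_iff (inf_le_left.trans n2)).1 (inv_mem hc)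
  have e3 : n = c2 * c1 * p⁻¹ := by rw [e2, ← mul_inv_rev, ← e1, inv_inv]
  have p1 : p⁻¹ ∈ X := (mul_mem_cancel_left (mul_mem (HX h2.1) (HX h1.1))).1 (e3 ▸ HX hn)
  have r2 := mem_normalizer_conj (h.nI (mem_inf.2 ⟨p1, inv_mem hp⟩)) h.ga.rm
  have r3 := Gold.mem_Cs.1 h1.2 _ (itc_le h.ga.UJ _ r2)
  obtain ⟨l, hl, e4⟩ := h.ga.lc _ r2 fun e => h.ga.r1 (conj_eq_one_iff.1 e)
  refine ⟨c2 * l, ⟨mul_mem (HX h2.1) (h.AX hl), mul_mem h2.2 (h.AJ hl)⟩, ?_⟩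
  rw [← e, e3]
  calc _ = c2 * (l * r * l⁻¹) * c2⁻¹ := by group
    _ = c2 * (p⁻¹ * r * p⁻¹⁻¹ * c1) * c1⁻¹ * c2⁻¹ := by rw [e4]; group
    _ = _ := by rw [r3]; group

theorem WF.pair (h : WF A B U V D E θ η n₀ b₀ t X J J' r r' m) (hg : g ∈ X) (hg' : g' ∈ X)
    (e : Tw (g * r * g⁻¹ * (g' * r' * g'⁻¹))) :
    ∃ c ∈ X, c * r * c⁻¹ = g * r * g⁻¹ ∧ c * r' * c⁻¹ = g' * r' * g'⁻¹ := by
  have := Fact.mk Nat.prime_two
  have r1 := h.ga.rJ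
  have r2 := h.gb.rJ
  have a2 : ∀ g : G, g * r * g⁻¹ * (g * r * g⁻¹) = 1 := fun g => by
    rw [conj_mul, h.ga.el _ r1]; simp
  have b2 : ∀ g : G, g * r' * g⁻¹ * (g * r' * g⁻¹) = 1 := fun g => by
    rw [conj_mul, h.gb.el _ r2]; simp
  have aX : g * r * g⁻¹ ∈ X := mul_mem (mul_mem hg (h.AX h.rA)) (inv_mem hg)
  have bX : g' * r' * g'⁻¹ ∈ X := mul_mem (mul_mem hg' (h.symm.AX h.symm.rA)) (inv_mem hg')
  obtain ⟨x, hx, s⟩ := h.syl.exists_cj_le (Comp.isPGroup_sup e.isPGroup (Tw.of_sq (a2 g)).isPGroup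
    (zpowers_le.2 (mem_Ns_iff.2 (by
      rw [cj_zpowers, ← mul_assoc (g * _ * g⁻¹), a2, one_mul, ← zpowers_inv, mul_inv_rev, inv_inv,
        inv_eq_of_mul_eq_one_left (b2 g')]))))
    (sup_le (zpowers_le.2 (mul_mem aX bX)) (zpowers_le.2 aX))
  have G0 := h.toWR.UG
  have s1 := G0 (cj_le_iff.1 s _ (mem_sup_right (mem_zpowers _)))
  have s2 := G0 (cj_le_iff.1 s _ ((mul_mem_cancel_left (mem_sup_right (mem_zpowers _))).1
    (mem_sup_left (mem_zpowers _))))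
  rw [show ∀ a, x * (g * a * g⁻¹) * x⁻¹ = x * g * a * (x * g)⁻¹ from fun a => by group] at s1
  rw [show ∀ a, x * (g' * a * g'⁻¹) * x⁻¹ = x * g' * a * (x * g')⁻¹ from fun a => by group,
    sup_comm] at s2
  have e1 := h.ic h.rA (h.ga.el _ r1) (mul_mem hx hg) s1
  have e2 := h.symm.ic h.symm.rA (h.gb.el _ r2) (mul_mem hx hg') s2
  obtain ⟨l, lA, hl⟩ := h.ga.inv _ e1 (a2 _)
  obtain ⟨n, nB, hn⟩ := h.gb.inv _ e2 (b2 _)
  have hw : l * n * x ∈ X := mul_mem (mul_mem (h.AX lA) (h.symm.AX nB)) hx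
  have e3 : l * n * x * g * r * (l * n * x * g)⁻¹ = l * (x * g * r * (x * g)⁻¹) * l⁻¹ := by
    calc _ = l * (n * (x * g * r * (x * g)⁻¹)) * n⁻¹ * l⁻¹ := by group
      _ = _ := by rw [← (h.toWR.comm e1 nB).eq]; group
  have e4 : l * n * x * g' * r' * (l * n * x * g')⁻¹ = n * (x * g' * r' * (x * g')⁻¹) * n⁻¹ := by
    calc _ = l * (n * (x * g' * r' * (x * g')⁻¹) * n⁻¹) * l⁻¹ := by group
      _ = _ := by
        rw [(h.toWR.comm lA (mul_mem (mul_mem nB e2) (inv_mem nB))).eq, mul_inv_cancel_right]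
  have v2 : _ ∈ J' := e4 ▸ hn
  obtain ⟨c2, h2, f2⟩ := h.half (mul_mem hw hg) (e3 ▸ hl)
  obtain ⟨c1, h1, f1⟩ := h.symm.half (mul_mem hw hg') v2
  clear e3 e4
  generalize l * n * x = w at hw f1 f2 v2
  refine ⟨w⁻¹ * (c2 * c1), mul_mem (inv_mem hw) (mul_mem h2.1 h1.1), ?_, ?_⟩
  · calc _ = w⁻¹ * (c2 * (c1 * r) * c1⁻¹ * c2⁻¹) * w := by group
      _ = w⁻¹ * (c2 * r * c2⁻¹) * w := by rw [← Gold.mem_Cs.1 h1.2 _ r1]; group
      _ = _ := by rw [f2]; group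
  · calc _ = w⁻¹ * (c2 * (c1 * r' * c1⁻¹) * c2⁻¹) * w := by group
      _ = _ := by rw [f1, ← Gold.mem_Cs.1 h2.2 _ v2]; group

end Cfsg.Lib.SPW
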