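import Cfsg.Agent.SPW.Api
import Cfsg.Agent.UM.E0g

/-!
# Standard subgroups of type `Sp_{2k}(2ⁿ)`, type IV: the split case, commutation
-/

set_option autoImplicit false
set_option linter.unusedSectionVars false

namespace Cfsg.Lib.SPW

open Subgroup Module Cfsg.Lib.Trans Cfsg.Lib.Gold Cfsg.Lib.Class.Form Cfsg.Lib.Class.FAut
open Cfsg.Lib.UM (tT tE VW RR Fx St QW Cf mp Semi fa Mp cx re Ot kk Mx)
open Cfsg.Lib.SPN
open Cfsg.Lib.UM.P4a (cmo)
open scoped commutatorElement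

variable {G F M : Type*} [Group G] [Finite G] [Field F] [Finite F] [AddCommGroup M] [Module F M]
  [FiniteDimensional F M] {B : M →ₗ[F] M →ₗ[F] F} {φ : sIsom B →* G} {t : G}
  {H : M → M → G} {D : M → G} {β s : F}

namespace SA

theorem swap (h : T4 φ t H D β) {u w : M} (e : B u w = 0) : H w u = H u w := by
  rw [h.swap u w e, zero_smul, h.toMo.tE_zero, map_one, mul_one]

theorem Hfix (h : T4 φ t H D β) {g : sIsom B} {u w : M} (e : lin g u = u) (e' : lin g w = w) :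
    Commute (φ g) (H u w) := cmo (by rw [h.eqv, e, e'])

theorem Dfix (h : T4 φ t H D β) {g : sIsom B} {u : M} (e : lin g u = u) : Commute (φ g) (D u) :=
  cmo (by rw [h.deqv, e])

theorem HE (h : T4 φ t H D β) {u w x : M} (e : B u w = 0) (e' : B u x = 0) :
    Commute (H u w) (φ (tE B u x)) := cmo (by rw [h.actQ u w x e e', zero_mul, h.toMo.ee_zero])

theorem DD' (h : T4 φ t H D β) {u w : M} (e : B u w = 0) : Commute (D u) (D w) := by
  have := h.dadd u w e
  rw [add_comm, h.dadd w u (h.toMo.swap e), swap h e] at this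
  exact (mul_right_cancel this).symm

theorem Efix (m : Mo B) {u w x : M} (k : B u w = 0) (e : B u x = 0) (e' : B w x = 0) :
    lin (tE B u w) x = x := by rw [m.lin_tE k, e, e', zero_smul, zero_smul, add_zero, add_zero]

theorem Tfix (m : Mo B) {u x : M} (c : F) (e : B u x = 0) : lin (tT B u c) x = x := by
  rw [m.lin_tT, e, mul_zero, zero_smul, add_zero]

theorem pairs (m : Mo B) {u w : M} (e : B u w ≠ 0) : ∃ x x' y y', (B u x = 0 ∧ B u x' = 0 ∧
    B u y = 0 ∧ B u y' = 0) ∧ (B w x = 0 ∧ B w x' = 0 ∧ B w y = 0 ∧ B w y' = 0) ∧ B x x' = 1 ∧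
    B y y' = 1 ∧ B x y = 0 ∧ B x y' = 0 ∧ B x' y = 0 ∧ B x' y' = 0 := by
  obtain ⟨x, k⟩ := m.ext2 (u := u) (by rintro rfl; simp at e)
  obtain ⟨y, k⟩ := m.ext3 k
  obtain ⟨f, k'⟩ := m.ext_fr (e := ![u, x, y]) (fun i j => by
    fin_cases i <;> fin_cases j <;>
      simp [m.alt, k.uw, k.ux, k.wx, m.swap k.uw, m.swap k.ux, m.swap k.wx]) k.li
  have a1 : B u (f 1) = 0 := k'.ef 0 1
  have a2 : B u (f 2) = 0 := k'.ef 0 2
  have a3 : B x (f 1) = 1 := k'.ef 1 1
  have a4 : B x (f 2) = 0 := k'.ef 1 2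
  have a5 : B y (f 1) = 0 := k'.ef 2 1
  have a6 : B y (f 2) = 1 := k'.ef 2 2
  have p : ∀ z, B w (z + (B w z / B u w) • u) = 0 := fun z => by
    rw [map_add, map_smul, m.symm w u, smul_eq_mul, div_mul_cancel₀ _ e, m.add_self]
  have q : ∀ z z' (a b : F), B u z = 0 → B u z' = 0 → B (z + a • u) (z' + b • u) = B z z' :=
    fun z z' a b h1 h2 => by simp [h2, m.swap h1, m.alt]
  have r : ∀ z (a : F), B u z = 0 → B u (z + a • u) = 0 := fun z a h1 => by simp [h1, m.alt]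
  exact ⟨_, _, _, _, ⟨r _ _ k.uw, r _ _ a1, r _ _ k.ux, r _ _ a2⟩, ⟨p x, p (f 1), p y, p (f 2)⟩,
    (q _ _ _ _ k.uw a1).trans a3, (q _ _ _ _ k.ux a2).trans a6, (q _ _ _ _ k.uw k.ux).trans k.wx,
    (q _ _ _ _ k.uw a2).trans a4, (q _ _ _ _ a1 k.ux).trans (m.swap a5),
    (q _ _ _ _ a1 a2).trans (k'.ff 1 2)⟩

end SA

open SA

theorem t4_Yt (h : T4 φ t H D β) (hs : s * s + s = β) {w p p' : M} (e : B w p = 0) (e' : B w p' = 0)
    (e1 : B p p' = 1) : Yt φ D s w = Ye φ H s w p * Ye φ H s w p' * Ye φ H s w (p + p') := by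
  have m := h.toMo
  have e2 : B w (p + p') = 0 := by rw [map_add, e, e', add_zero]
  have sm : ∀ {x}, B w x = 0 → B w (s • x) = 0 := fun k => K3.sm k s
  have c1 := h.dH w w _ ⟨m.alt w, e2, e2⟩
  have c2 := Hfix h (Tfix m β (m.alt w)) (Tfix m β e2)
  have a := h.mul w p p' 1 e e' (by rw [e1]; simp)
  rw [one_smul, e1, mul_one] at a
  rw [Yt, Ye, Ye, Ye, (HE h e' (sm e)).symm.mul_mul_mul_comm, ← map_mul, m.tE_mul (sm e) (sm e'),
    ← smul_add, ← m.ee_zero w (s • (p + p')),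
    (Hfix h (g := ee B w (s • (p + p')) (B (s • p) (s • p'))) (by
      simp only [m.lin_ee (sm e2), m.swap (sm e2), m.alt]; simp)
      (by simp only [m.lin_ee (sm e2), e2, map_smul, LinearMap.smul_apply, m.alt]; simp)).mul_mul_mul_comm,
    ← map_mul, m.ee_mul (sm e2) (sm e2), m.vadd_self, m.ee_zero', a, mul_assoc (H w _), mul_assoc (H w _),
    (c1.mul_left c2).eq, ← mul_assoc (H w _), h.sq, one_mul, mul_assoc, ← map_mul, ← m.tT_add]
  congr 3
  simp only [map_smul, LinearMap.smul_apply, e1, m.alt, smul_eq_mul]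
  linear_combination hs + (-s * s) * m.two

theorem t4_Ye (h : T4 φ t H D β) (hs : s * s + s = β) {u x w p : M} (k : O3 B p u x) (e : B p w = 0)
    (e' : B x w = 0) : Commute (Ye φ H (s + 1) u x) (Ye φ H s w p) := by
  have m := h.toMo
  obtain ⟨pu, px, ux⟩ := k
  have up := m.swap pu; have xp := m.swap px; have xu := m.swap ux; have wp := m.swap e
  have wx := m.swap e'; have pp := m.alt p; have xx := m.alt x
  have o : ∀ a b : F, O3 B p (a • x) (b • x) := fun a b => ⟨by simp [px], by simp [px], by simp [xx]⟩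
  have h1 := h.eqv (tE B u ((s + 1) • x)) w p
  rw [Efix m (x := p) (by simp [ux]) up (by simp [xp]), m.lin_tE (by simp [ux]),
    show B ((s + 1) • x) w = 0 by simp [e'], zero_smul, add_zero, smul_smul,
    h.add1 _ _ _ ⟨by simp [wx], wp, by simp [xp]⟩, swap h (o 0 _).ux] at h1
  have h2 : φ (tE B u ((s + 1) • x)) * φ (tE B w (s • p)) * (φ (tE B u ((s + 1) • x)))⁻¹ =
      φ (tE B w (s • p)) * φ (tE B p ((s * (B u w * (s + 1))) • x)) := by
    rw [← map_inv, ← map_mul, ← map_mul, m.tE_conj _ (by simp [wp]),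
      Efix m (x := s • p) (by simp [ux]) (by simp [up]) (by simp [xp]), m.lin_tE (by simp [ux]),
      show B ((s + 1) • x) w = 0 by simp [e'], zero_smul, add_zero, smul_smul,
      m.tE_add' ⟨by simp [wx], by simp [wp], by simp [xp]⟩, map_mul,
      m.tE_comm (u := _ • x) (by simp [xp]), m.tE_smul (by simp [px]), smul_smul]
  have h3 := h.eqv (tE B w (s • p)) u x
  rw [Efix m (x := x) (by simp [wp]) wx (by simp [px]), m.lin_tE (by simp [wp]),
    show B (s • p) u = 0 by simp [pu], zero_smul, add_zero, smul_smul,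
    h.add1 _ _ _ ⟨by simp [up], ux, by simp [px]⟩, h.smul, m.symm w u] at h3
  have ea : ∀ c : F, Commute (H p (c • x)) (H u x) := fun c =>
    h.com _ _ _ _ ⟨(o 0 c).ux, pu, by simp [xu]⟩ ⟨(o 0 c).ux, px, by simp [xx]⟩ ux
  have eb : ∀ c : F, Commute (H p (c • x)) (H w p) := fun c =>
    h.com _ _ _ _ ⟨(o 0 c).ux, e, by simp [e']⟩ ⟨(o 0 c).ux, pp, by simp [xp]⟩ wp
  have fx : ∀ (c : F) {z}, B p z = 0 → B x z = 0 → lin (tE B p (c • x)) z = z := fun c z a b =>
    Efix m (o 0 c).ux a (by simp [b])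
  refine commutatorElement_eq_one_iff_commute.1 ?_
  rw [Ye, Ye, UM.E0g.comm_tw h1 h2 h3 (cmo (by
      rw [← map_inv, ← map_mul, ← map_mul, m.tE_conj _ (by simp [wp]), fx _ e e',
        fx _ (by simp [pp]) (by simp [xp])]))
    (((ea _).mul_left (Hfix h (fx _ pu xu) (fx _ px xx))).mul_left (ea _).inv_left)
    (((eb _).mul_left (Hfix h (fx _ e e') (fx _ pp xp))).mul_left (eb _).inv_left),
    swap h e, h.r120 _ _ _ _ ⟨pu, px, ux⟩ e e', inv_eq_of_mul_eq_one_right (h.sq _ _),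
    mul_assoc (H p _) (φ _) (H p _), ← (HE h (o 0 _).ux (o 0 _).ux).eq, ← mul_assoc (H p _) (H p _),
    ← h.add2 _ _ _ (o _ _), ← add_smul, (HE h (o 0 _).ux (o 0 _).ux).symm.mul_mul_mul_comm,
    ← h.add2 _ _ _ (o _ _), ← add_smul, ← map_mul, ← m.tE_add (o _ _), ← add_smul,
    show B u w + (B u w * (s + 1) + B u w * s) = 0 by linear_combination (B u w * (s + 1)) * m.two,
    show β * B u w + s * (B u w * (s + 1)) = 0 by
      linear_combination (B u w) * hs + (β * B u w) * m.two,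
    zero_smul, m.tE_zero, map_one, mul_one, ← zero_smul F p, h.self, mul_zero, m.tT_zero, map_one]

theorem t4_comm (h : T4 φ t H D β) (hs : s * s + s = β) (u w : M) :
    Commute (Yt φ D (s + 1) u) (Yt φ D s w) := by
  have m := h.toMo
  by_cases e : B u w = 0
  · exact ((DD' h e).mul_right (Dfix h (Tfix m _ (m.swap e))).symm).mul_left
      ((Dfix h (Tfix m _ e)).mul_right ((m.comm_TT e _ _).map φ))
  obtain ⟨x, x', y, y', ⟨a1, a2, a3, a4⟩, ⟨b1, b2, b3, b4⟩, c1, c2, d1, d2, d3, d4⟩ := pairs m e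
  have k : ∀ X Y, B u X = 0 → B w X = 0 → B u Y = 0 → B w Y = 0 → B X Y = 0 →
      Commute (Ye φ H (s + 1) u X) (Ye φ H s w Y) := fun X Y k1 k2 k3 k4 k5 =>
    t4_Ye h hs ⟨m.swap k3, m.swap k5, k1⟩ (m.swap k4) (m.swap k2)
  have k' : ∀ X, B u X = 0 → B w X = 0 → B X y = 0 → B X y' = 0 →
      Commute (Ye φ H (s + 1) u X) (Yt φ D s w) := fun X k1 k2 k3 k4 => by
    rw [t4_Yt h hs b3 b4 c2]
    exact ((k X y k1 k2 a3 b3 k3).mul_right (k X y' k1 k2 a4 b4 k4)).mul_right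
      (k X _ k1 k2 (by simp [a3, a4]) (by simp [b3, b4]) (by simp [k3, k4]))
  rw [t4_Yt h (s := s + 1) (by linear_combination hs + (s + 1) * m.two) a1 a2 c1]
  exact ((k' x a1 b1 d1 d2).mul_left (k' x' a2 b2 d3 d4)).mul_left
    (k' _ (by simp [a1, a2]) (by simp [b1, b2]) (by simp [d1, d3]) (by simp [d2, d4]))

end Cfsg.Lib.SPW
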