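import Cfsg.Agent.SPW.Api
import Cfsg.Agent.SPW.T0
import Cfsg.Agent.SPW.SA
import Cfsg.Agent.SPW.SH

/-! Standard subgroups of type `Sp_{2k}(2ⁿ)`, type IV: the split case. -/

set_option autoImplicit false
set_option linter.unusedSectionVars false
set_option linter.unusedVariables false

namespace Cfsg.Lib.SPW

open Subgroup Module Cfsg.Lib.Trans Cfsg.Lib.Gold Cfsg.Lib.Class.Form Cfsg.Lib.Class.FAut
open Cfsg.Lib.UM (tT tE VW RR Fx St QW Cf mp Semi fa Mp cx re Ot kk Mx)
open Cfsg.Lib.SPN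
open Cfsg.Lib.SG2 (Uq Top)
open Cfsg.Lib.Comp (Tw)
open Cfsg.Lib.Chev.SpAm (Ix Sp bv idx Fn FixI pl TM)
open scoped commutatorElement

variable {G F M : Type*} [Group G] [Finite G] [Field F] [Finite F] [AddCommGroup M] [Module F M]
  [FiniteDimensional F M] {B : M →ₗ[F] M →ₗ[F] F} {φ : sIsom B →* G} {t : G}
  {H : M → M → G} {D : M → G} {β s : F}

namespace SC

theorem cT (h : T4 φ t H D β) {u w : M} (c : F) (e : B u w = 0) : Commute (φ (tT B u c)) (D w) :=
  t4_Dfix h (by rw [h.toMo.lin_tT, e]; simp)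

theorem tri (h : T4 φ t H D β) {u w : M} (k : B u w = 0) (c : F) :
    Yt φ D c (u + w) * Yt φ D c u * Yt φ D c w = Ye φ H c u w := by
  have m := h.toMo
  have k1 : B (u + w) u = 0 := by simp [m.alt u, m.swap k]
  have k2 : B (u + w) w = 0 := by simp [m.alt w, k]
  have e1 : D (u + w) * D u * D w = H u w := by
    rw [h.dadd u w k, t4_swap h, mul_assoc, mul_assoc (D u * D w), ← ((h.dH u u w ⟨m.alt u, k, k⟩).mul_left
      (h.dH w u w ⟨m.swap k, m.alt w, k⟩)).eq, ← mul_assoc,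
      (t4_DD h k).symm.mul_mul_mul_comm, t4_Dsq h, t4_Dsq h, one_mul, one_mul]
  have e2 : tT B (u + w) c * tT B u c * tT B w c = tE B u (c • w) := by
    rw [mul_assoc, ((m.comm_TT k1 c c).mul_right (m.comm_TT k2 c c)).eq, m.tT_vadd k, ← mul_assoc,
      (m.comm_TT k c c).symm.mul_mul_mul_comm, m.tT_sq, m.tT_sq, one_mul, one_mul]
  rw [Yt, Yt, Yt, (cT h c k1).mul_mul_mul_comm, ((cT h c k2).mul_left (cT h c k)).mul_mul_mul_comm,
    e1, ← map_mul, ← map_mul, e2, Ye]

end SC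

open SC in
theorem t4_split (h : T4 φ t H D β) (hs : s * s + s = β) : ∃ y z, ES φ t y z := by
  have m := h.toMo
  have yz : ∀ u c d, Yt φ D c u * Yt φ D d u = φ (tT B u (c + d)) := fun u c d => by
    rw [Yt, Yt, (cT h c (m.alt u)).mul_mul_mul_comm, t4_Dsq h, one_mul, m.tT_add, map_mul]
  have e1 : s + 1 + s = 1 := by linear_combination m.add_self s
  obtain ⟨y, hy⟩ := hom_T m (Yt φ D (s + 1)) (by simp [Yt, h.d0, m.tT_zero'])
    (fun u => by rw [yz, m.add_self, m.tT_zero, map_one])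
    (fun u w => by
      have e : Yt φ D (s + 1) (lin (tT B w 1) u) =
          φ (tT B w 1) * Yt φ D (s + 1) u * (φ (tT B w 1))⁻¹ := by
        rw [Yt, Yt, ← h.deqv, ← m.tT_conj, map_mul, map_mul, map_inv, conj_mul]
      rw [e, ← e1, ← yz, e1, mul_assoc _ (Yt φ D s w), ← (t4_comm h hs u w).eq]
      group)
    (fun u w x k => by
      have k4 : B u ((s + 1) • w) = 0 := by simp [k.uw]
      rw [tri h (by simp [k.uw, k.ux]), tri h k.uw, tri h k.ux, Ye, Ye, Ye, h.add2 _ _ _ k, smul_add,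
        m.tE_add ⟨k4, by simp [k.ux], by simp [k.wx]⟩, map_mul,
        (t4_HE h k.ux k4).symm.mul_mul_mul_comm])
  have hz : ∀ u, cx y t (tT B u 1) = Yt φ D s u := fun u => by
    rw [UM.cx_apply, hy u, Yt, ← conj_mul, t4_tD h, (h.tc _).mul_inv_cancel, mul_assoc, ← map_mul,
      ← m.tT_add, show 1 + (s + 1) = s by linear_combination m.two, Yt]
  have my : Mod y := ⟨m, by
    haveI := m.simple
    rw [← MonoidHom.ker_eq_bot_iff]
    refine (y.normal_ker.eq_bot_or_eq_top).resolve_right fun e => ?_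
    obtain ⟨u, u0⟩ := m.exists_ne
    have e2 := (hy u).symm.trans (e.ge (mem_top _))
    have e3 := h.dt u
    rw [eq_inv_of_mul_eq_one_left e2, inv_inv, ← (h.tc _).inv_right.eq, inv_mul_cancel_right,
      left_eq_mul] at e3
    exact m.tT_ne u0 one_ne_zero (h.inj (e3.trans (map_one φ).symm))⟩
  have com : ∀ g k, Commute (y g) (cx y t k) := fun g k => mem_C1.1
    ((m.gen_T (H := (C1 _).comap y) fun u => mem_C1.2 (mem_C1.1
      ((m.gen_T (H := (C1 _).comap (cx y t)) fun w => mem_C1.2 (by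
        rw [hy u, hz w]; exact (t4_comm h hs u w).symm)).ge (mem_top k))).symm).ge
      (mem_top g))
  have res : ∀ g, φ g = y g * cx y t g := fun g => DFunLike.congr_fun (m.hom_ext (φ := φ)
    (ψ := MonoidHom.mk' (fun g => y g * cx y t g) fun a b => by
      rw [map_mul, map_mul, (com b a).mul_mul_mul_comm]) fun u => by
      rw [MonoidHom.mk'_apply, hy u, hz u, yz u, e1]) g
  have gen : ∀ K : Subgroup G, φ.range ≤ K → (∀ u, D u ∈ K) → y.range ⊔ (cx y t).range ≤ K :=
    fun K k1 k2 => by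
      have : ∀ g, y g ∈ K := fun g => (m.gen_T (H := K.comap y) fun u => by
        rw [mem_comap, hy u]; exact mul_mem (k2 u) (k1 ⟨_, rfl⟩)).ge (mem_top g)
      refine sup_le (by rintro _ ⟨g, rfl⟩; exact this g) ?_
      rintro _ ⟨g, rfl⟩
      exact (mul_mem_cancel_left (this g)).1 (res g ▸ k1 ⟨g, rfl⟩)
  have Ll : φ.range ≤ y.range ⊔ (cx y t).range := by
    rintro _ ⟨g, rfl⟩
    rw [res]
    exact mul_mem (mem_sup_left ⟨g, rfl⟩) (mem_sup_right ⟨g, rfl⟩)
  have Dl : ∀ u, D u ∈ y.range ⊔ (cx y t).range := fun u =>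
    (mul_mem_cancel_right (Ll ⟨_, rfl⟩)).1 (mem_sup_left ⟨_, hy u⟩)
  have eq : y.range ⊔ (cx y t).range = G2 φ H D := by
    refine le_antisymm (gen _ (le_sup_left.trans le_sup_left) fun u =>
      mem_sup_right (subset_closure ⟨u, rfl⟩)) (sup_le (sup_le Ll ((closure_le _).2 ?_))
        ((closure_le _).2 ?_))
    · rintro _ ⟨u, w, rfl⟩
      by_cases e : B u w = 0
      · have := Dl (w + u)
        rw [h.dadd w u (m.swap e)] at this
        exact (mul_mem_cancel_left (mul_mem (Dl w) (Dl u))).1 this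
      · rw [h.junk u w e]; exact one_mem _
    · rintro _ ⟨u, rfl⟩
      exact Dl u
  exact ⟨y, cx y t, h.toH1, my, my.cx t, res, com, fun _ => rfl, eq ▸ t4_cO h, eq ▸ t4_nL h⟩

end Cfsg.Lib.SPW
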