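import Cfsg.Agent.SPW.Defs

/-!
# The wreathed configuration: basic facts
-/

set_option autoImplicit false
set_option linter.unusedSectionVars false

namespace Cfsg.Lib.SPW

open Subgroup Cfsg.Lib.Trans Cfsg.Lib.Gold
open Cfsg.Lib.SG2 (Top Uq)
open Cfsg.Lib.SF4.Wr (PC Ph cj_cj_t tt_conj)
open scoped commutatorElement

variable {G Γ : Type*} [Group G] [Finite G] [CommGroup Γ] {A B U V D E X P : Subgroup G}
  {θ η : G → Γ} {t g g' p φ : G} {n₀ b₀ : ℕ}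

theorem UP.ne_bot {W : Subgroup G} {n b : ℕ} (h : UP W n b) : W ≠ ⊥ := fun e => by
  have h1 := h.card
  have h2 := h.zc
  rw [e, card_bot] at h1
  rw [e, bot_inf_eq, card_bot] at h2
  omega

namespace Fa

variable (h : Fa A U D θ n₀ b₀)
include h

theorem cent : A ⊓ Cs A = ⊥ := eq_bot_iff.2 ((inf_le_inf_left _ h.cD).trans h.dA.le)

theorem ne_bot : A ≠ ⊥ := fun e => h.up.ne_bot (eq_bot_iff.2 (e ▸ h.syl.le))

theorem one : θ 1 = 1 := (h.ker 1 (one_mem _)).2 (one_mem _)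

theorem inv (hg : g ∈ Ns A) : θ g⁻¹ = (θ g)⁻¹ :=
  eq_inv_of_mul_eq_one_left (by rw [← h.mul _ (inv_mem hg) _ hg, inv_mul_cancel, h.one])

theorem pow (hg : g ∈ Ns A) (n : ℕ) : θ (g ^ n) = θ g ^ n := by
  induction n with
  | zero => rw [pow_zero, pow_zero, h.one]
  | succ n ih => rw [pow_succ, pow_succ, h.mul _ (pow_mem hg n) _ hg, ih]

theorem conj (hg : g ∈ Ns A) (hg' : g' ∈ Ns A) : θ (g * g' * g⁻¹) = θ g' := by
  rw [h.mul _ (mul_mem hg hg') _ (inv_mem hg), h.mul _ hg _ hg', h.inv hg, mul_inv_cancel_comm]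

theorem of_A (hg : g ∈ A) : θ g = 1 := (h.ker g (le_normalizer hg)).2 (mem_sup_left hg)

theorem of_Cs (hg : g ∈ Cs A) : θ g = 1 := (h.ker g (Cs_le_Ns hg)).2 (mem_sup_right hg)

theorem DA (hp : p ∈ D) : p ∈ Ns A := (h.dN hp).1

theorem DU (hp : p ∈ D) : p ∈ Ns U := (h.dN hp).2

theorem mem_Cs (hp : p ∈ D) (e : θ p = 1) : p ∈ Cs A := by
  obtain ⟨l, hl, c, hc, rfl⟩ := (SG2.mem_sup_Cs (le_Cs_comm.1 le_rfl)).1 ((h.ker p (h.DA hp)).1 e)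
  have : l ∈ A ⊓ D := ⟨hl, (mul_mem_cancel_right (h.cD hc)).1 hp⟩
  rwa [mem_bot.1 (h.dA.le this), one_mul]

/-- An element of `D` whose image is a power of `θ p` centralises the fixed points of `p`. -/
theorem fix (hp : p ∈ D) (hg : g ∈ D) {n : ℕ} (e : θ g = θ p ^ n) : g ∈ Cs (A ⊓ C1 p) := by
  have h1 := h.mem_Cs (mul_mem (inv_mem (pow_mem hp n)) hg) (by
    rw [h.mul _ (inv_mem (pow_mem (h.DA hp) n)) _ (h.DA hg), h.inv (pow_mem (h.DA hp) n),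
      h.pow (h.DA hp), e, inv_mul_cancel])
  rw [show g = p ^ n * ((p ^ n)⁻¹ * g) by group]
  exact mul_mem (pow_mem (Gold.mem_Cs.2 fun c hc => mem_C1.1 (mem_inf.1 hc).2) n) (Cs_anti inf_le_left h1)

end Fa

namespace WR

variable (h : WR A B U V D E θ η n₀ b₀ t X)
include h

theorem tB : cj t B = A := by rw [← h.tA, cj_cj_t h.t2]

theorem tV : cj t V = U := by rw [← h.tU, cj_cj_t h.t2]

theorem tE : cj t E = D := by rw [← h.tD, cj_cj_t h.t2]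

theorem tNA : t * g * t⁻¹ ∈ Ns B ↔ g ∈ Ns A := by
  rw [← h.tA, Ns, ← cj_normalizer, conj_mem_cj]

theorem tNB : t * g * t⁻¹ ∈ Ns A ↔ g ∈ Ns B := by
  rw [← h.tB, Ns, ← cj_normalizer, conj_mem_cj]

theorem tη (hg : g ∈ Ns B) : θ (t * g * t⁻¹) = η g := by
  rw [← h.tθ _ (h.tNB.2 hg), tt_conj h.t2]

theorem symm : WR B A V U E D η θ n₀ b₀ t X where
  fa := h.fb
  fb := h.fa
  t2 := h.t2
  tA := h.tB
  tU := h.tV
  tD := h.tE
  tθ _ hg := h.tη hg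
  com := le_Cs_comm.1 h.com
  top := h.top
  nL := sup_comm A B ▸ h.nL
  odd := sup_comm A B ▸ h.odd
  sw g e := sup_comm A B ▸ h.sw g (by rw [← e, cj_cj_t (Comp.conj_sq h.t2 g)])

theorem inf : A ⊓ B = ⊥ :=
  eq_bot_iff.2 ((inf_le_inf_right _ h.com).trans ((inf_comm _ _).trans h.fb.cent).le)

theorem comm (hg : g ∈ A) (hg' : g' ∈ B) : Commute g g' := (mem_Cs.1 (h.com hg) _ hg').symm

theorem UV : U ≤ Cs V := h.fa.syl.le.trans (h.com.trans (Cs_anti h.fb.syl.le))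

theorem infU : U ⊓ V = ⊥ := eq_bot_iff.2 ((inf_le_inf h.fa.syl.le h.fb.syl.le).trans h.inf.le)

theorem UG : U ⊔ V ≤ A ⊔ B := sup_le_sup h.fa.syl.le h.fb.syl.le

theorem GA : A ⊔ B ≤ Ns A := sup_le le_normalizer ((le_Cs_comm.1 h.com).trans Cs_le_Ns)

theorem GB : A ⊔ B ≤ Ns B := sup_comm B A ▸ h.symm.GA

theorem ne : A ≠ B := fun e => h.fa.ne_bot (by rw [← h.inf, ← e, inf_idem])

theorem tM : t ∈ Ns (A ⊔ B) := h.nL (mem_C1.2 rfl)

theorem tN : t ∉ Ns A := fun e => h.ne ((mem_Ns_iff.1 e).symm.trans h.tA)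

theorem θG (hg : g ∈ A ⊔ B) : θ g = 1 :=
  (h.fa.ker g (h.GA hg)).2 (sup_le_sup_left (le_Cs_comm.1 h.com) _ hg)

theorem ηG (hg : g ∈ A ⊔ B) : η g = 1 := h.symm.θG (sup_comm A B ▸ hg)

theorem dec (hg : g ∈ A ⊔ B) : ∃ c ∈ A, ∃ d ∈ B, c * d = g := (SG2.mem_sup_Cs h.com).1 hg

theorem decU (hg : g ∈ U ⊔ V) : ∃ c ∈ U, ∃ d ∈ V, c * d = g := (SG2.mem_sup_Cs h.UV).1 hg

theorem le : A ⊔ B ≤ X := by
  have k : ∀ K : Subgroup G, ⁅K, K⁆ = K → K ≤ X := fun K hK =>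
    hK ▸ commutator_le.2 fun c _ d _ => h.top.ef_comm h.t2 c d
  exact sup_le (k _ h.fa.perf) (k _ h.fb.perf)

theorem nX (g : G) : g ∈ Ns X := by
  have := h.top.normal
  rw [Ns, normalizer_eq_top]
  trivial

theorem nrm {K : Subgroup G} (sm : ∀ N : Subgroup G, N ≤ K → K ≤ Ns N → N = ⊥ ∨ N = K)
    (ce : K ⊓ Cs K = ⊥) (k1 : K ≠ ⊥) (h1 : K ≤ A ⊔ B) (h2 : A ⊔ B ≤ Ns K) : K = A ∨ K = B := by
  have k : ∀ L : Subgroup G, (∀ N : Subgroup G, N ≤ L → L ≤ Ns N → N = ⊥ ∨ N = L) → L ≤ A ⊔ B →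
      A ⊔ B ≤ Ns L → K = L ∨ L ≤ Cs K := fun L hs l1 l2 => by
    by_cases e : K ⊓ L = ⊥
    · exact .inr (commutator_eq_bot_iff_le_centralizer.1 (eq_bot_iff.2 (e ▸ le_inf
        (commutator_le_right_of_le (l1.trans h2)) (commutator_le_left_of_le (h1.trans l2)))))
    · exact .inl (((sm _ inf_le_left (le_Ns_inf le_normalizer (h1.trans l2))).resolve_left
        e).symm.trans ((hs _ inf_le_right (le_Ns_inf (l1.trans h2) le_normalizer)).resolve_left e))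
  rcases k A h.fa.sm le_sup_left h.GA with e | e
  · exact .inl e
  rcases k B h.fb.sm le_sup_right h.GB with e' | e'
  · exact .inr e'
  exact (k1 (by rw [← ce, inf_eq_left.2 (h1.trans (sup_le e e'))])).elim

theorem cjA {m : G} (hm : m ∈ Ns (A ⊔ B)) : cj m A = A ∨ cj m A = B := by
  have e := mem_Ns_iff.1 hm
  refine h.nrm (fun N h1 h2 => ?_) (by rw [Cs, ← cj_centralizer, ← cj_inf, h.fa.cent, cj_bot])
    (fun e => h.fa.ne_bot (cj_eq_bot.1 e)) (e ▸ cj_mono m le_sup_left)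
    (by rw [← e, Ns, ← cj_normalizer]; exact cj_mono m h.GA)
  obtain ⟨N, rfl⟩ := cj_surj m N
  rw [Ns, ← cj_normalizer, cj_le_cj] at h2
  exact (h.fa.sm N (cj_le_cj.1 h1) h2).imp (fun e => by rw [e, cj_bot]) fun e => by rw [e]

theorem perm {m : G} (hm : m ∈ Ns (A ⊔ B)) :
    (m ∈ Ns A ∧ m ∈ Ns B) ∨ (cj m A = B ∧ cj m B = A) := by
  have k : cj m A ≠ cj m B := fun e => h.ne (cj_injective m e)
  rcases h.cjA hm with e | e <;> rcases h.symm.cjA (sup_comm A B ▸ hm) with e' | e'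
  · exact .inl ⟨mem_Ns_iff.2 e, mem_Ns_iff.2 e'⟩
  · exact (k (e.trans e'.symm)).elim
  · exact (k (e.trans e'.symm)).elim
  · exact .inr ⟨e, e'⟩

theorem NB {m : G} (hm : m ∈ Ns (A ⊔ B)) (hA : m ∈ Ns A) : m ∈ Ns B :=
  (h.perm hm).elim (·.2) fun e => (h.ne ((mem_Ns_iff.1 hA).symm.trans e.1)).elim

theorem swp {m : G} (hm : m ∈ Ns (A ⊔ B)) (hA : m ∉ Ns A) : cj m A = B ∧ cj m B = A :=
  (h.perm hm).resolve_left fun e => hA e.1

theorem NM {m : G} (hA : m ∈ Ns A) (hB : m ∈ Ns B) : m ∈ Ns (A ⊔ B) := mem_Ns_sup hA hB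

theorem idx : ∀ c ∈ Ns (A ⊔ B), ∀ d ∈ Ns (A ⊔ B), c ∉ Ns A → d ∉ Ns A → c * d ∈ Ns A :=
  fun c hc d hd h1 h2 => mem_Ns_iff.2 (by rw [cj_mul, (h.swp hd h2).1, (h.swp hc h1).2])

theorem conj_iff {m : G} (hm : m ∈ Ns (A ⊔ B)) (hg : g ∈ Ns (A ⊔ B)) :
    m * g * m⁻¹ ∈ Ns A ↔ g ∈ Ns A := Comp.conj_mem_iff_of_idx h.idx hm hg

theorem card_sup {K L : Subgroup G} (hK : K ≤ A) (hL : L ≤ B) :
    Nat.card (K ⊔ L : Subgroup G) = Nat.card K * Nat.card L :=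
  SG2.card_sup_Cs (hK.trans (h.com.trans (Cs_anti hL)))
    (eq_bot_iff.2 ((inf_le_inf hK hL).trans h.inf.le))

theorem two_sup {K L : Subgroup G} (hK : K ≤ A) (hL : L ≤ B) (h1 : IsPGroup 2 K)
    (h2 : IsPGroup 2 L) : IsPGroup 2 (K ⊔ L : Subgroup G) :=
  Comp.isPGroup_sup h1 h2 ((le_Cs_comm.1 (hK.trans (h.com.trans (Cs_anti hL)))).trans Cs_le_Ns)

theorem sylG : IsSylowIn 2 (U ⊔ V) (A ⊔ B) := by
  have := Fact.mk Nat.prime_two
  refine ⟨h.UG, h.two_sup h.fa.syl.le h.fb.syl.le h.fa.up.two h.fb.up.two, fun e => ?_⟩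
  have e1 := card_mul_relIndex h.UG
  rw [h.card_sup h.fa.syl.le h.fb.syl.le, h.card_sup le_rfl le_rfl,
    ← card_mul_relIndex h.fa.syl.le, ← card_mul_relIndex h.fb.syl.le, mul_mul_mul_comm] at e1
  rw [Nat.eq_of_mul_eq_mul_left (Nat.mul_pos Nat.card_pos Nat.card_pos) e1] at e
  exact ((Nat.Prime.dvd_mul Nat.prime_two).1 e).elim h.fa.syl.not_dvd h.fb.syl.not_dvd

/-- Components of an element commuting with an element normalising both factors. -/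
theorem comp_comm {c d m : G} (hc : c ∈ A) (hd : d ∈ B) (hA : m ∈ Ns A) (hB : m ∈ Ns B)
    (e : Commute m (c * d)) : Commute m c ∧ Commute m d := by
  have := SG2.eq_of_mul h.inf (mem_normalizer_conj hA hc) (mem_normalizer_conj hB hd) hc hd
    (by rw [conj_mul, e.eq, mul_inv_cancel_right])
  exact ⟨mul_inv_eq_iff_eq_mul.1 this.1, mul_inv_eq_iff_eq_mul.1 this.2⟩

end WR

theorem WE.symm (h : WE A B U V D E θ η n₀ b₀ t X) : WE B A V U E D η θ n₀ b₀ t X :=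
  ⟨h.toWR.symm, sup_comm A B ▸ h.uq, sup_comm U V ▸ h.syl⟩

theorem WF.symm {J J' : Subgroup G} {r r' : G} {m : ℕ}
    (h : WF A B U V D E θ η n₀ b₀ t X J J' r r' m) : WF B A V U E D η θ n₀ b₀ t X J' J r' r m :=
  ⟨h.toWE.symm, h.gb, h.ga, by rw [← h.tJ, cj_cj_t h.t2], by rw [← h.tr, tt_conj h.t2]⟩

end Cfsg.Lib.SPW
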