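import Cfsg.Agent.SPW.WD
import Cfsg.Agent.Local.IsolatedP

/-!
# The wreathed configuration: the complement `P` and the involution `φ`
-/

set_option autoImplicit false
set_option linter.unusedSectionVars false
set_option linter.unusedVariables false

namespace Cfsg.Lib.SPW

open Subgroup Cfsg.Lib.Trans Cfsg.Lib.Gold
open Cfsg.Lib.SG2 (Top Uq)
open Cfsg.Lib.SF4.Wr (PC Ph cj_cj_t tt_conj card_le_left)
open scoped commutatorElement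

variable {G Γ : Type*} [Group G] [Finite G] [CommGroup Γ] [Finite Γ] [IsCyclic Γ]
  {A B U V D E X P W : Subgroup G} {θ η : G → Γ} {t g g' p s v φ : G} {n₀ b₀ n₁ b₁ : ℕ}

namespace WP

variable (h : WR A B U V D E θ η n₀ b₀ t X)
include h

theorem DE_M : D ⊓ E ≤ Ns (A ⊔ B) := fun _ hp => h.NM (h.fa.DA hp.1) (h.fb.DA hp.2)

theorem DE_NU : D ⊓ E ≤ Ns (U ⊔ V) := fun _ hp => mem_Ns_sup (h.fa.DU hp.1) (h.fb.DU hp.2)

theorem t_NU : t ∈ Ns (U ⊔ V) := by rw [mem_Ns_iff, cj_sup, h.tU, h.tV, sup_comm]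

theorem t_DE : t ∈ Ns (D ⊓ E) := by rw [mem_Ns_iff, cj_inf, h.tD, h.tE, inf_comm]

theorem nsw (hp : p ∈ D ⊓ E ∨ p * t ∈ D ⊓ E) (hn : p ∈ Ns A) : p ∈ D ⊓ E :=
  hp.resolve_right fun e => h.tN ((mul_mem_cancel_left hn).1 (h.fa.DA e.1))

theorem one_of (hg : g ∈ A ⊔ B) (hp : g ∈ D ⊓ E ∨ g * t ∈ D ⊓ E) : g = 1 := by
  have h1 := nsw h hp (h.GA hg)
  obtain ⟨c, hc, d, hd, rfl⟩ := h.dec hg
  obtain rfl : c = 1 := mem_bot.1 (h.fa.dA.le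
    ⟨hc, (mul_mem_cancel_right (h.fa.cD (le_Cs_comm.1 h.com hd))).1 h1.1⟩)
  rw [one_mul] at h1 ⊢
  exact mem_bot.1 (h.fb.dA.le ⟨hd, h1.2⟩)

theorem dec_N (h1 : g ∈ Ns A) (h2 : g ∈ Ns B) : ∃ l ∈ A ⊔ B, ∃ p ∈ D ⊓ E, g = l * p := by
  obtain ⟨l, hl, h3⟩ := h.fa.dec g h1
  obtain ⟨l', hl', h4⟩ := h.fb.dec _ (mul_mem (inv_mem (Cs_le_Ns (h.com hl))) h2)
  exact ⟨l * l', mul_mem (mem_sup_left hl) (mem_sup_right hl'), _,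
    ⟨D.mul_mem (D.inv_mem (h.fa.cD (le_Cs_comm.1 h.com hl'))) h3, h4⟩, by group⟩

theorem dec_M (hg : g ∈ Ns (A ⊔ B)) : ∃ l ∈ A ⊔ B, ∃ p ∈ (D ⊓ E) ⊔ zpowers t, g = l * p := by
  by_cases h1 : g ∈ Ns A
  · obtain ⟨l, hl, p, hp, e⟩ := dec_N h h1 (h.NB hg h1)
    exact ⟨l, hl, p, mem_sup_left hp, e⟩
  · have h2 := h.idx g hg t h.tM h1 h.tN
    obtain ⟨l, hl, p, hp, e⟩ := dec_N h h2 (h.NB (mul_mem hg h.tM) h2)
    exact ⟨l, hl, p * t, mul_mem (mem_sup_left hp) (mem_sup_right (mem_zpowers t)), by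
      rw [← mul_assoc, ← e, mul_assoc, h.t2, mul_one]⟩

theorem conj_t (hv : v ∈ Ns (A ⊔ B)) (hn : v ∈ Ns A) :
    t * v * t⁻¹ ∈ Ns A ∧ θ (t * v * t⁻¹) = η v ∧ η (t * v * t⁻¹) = θ v :=
  ⟨h.tNB.2 (h.NB hv hn), h.tη (h.NB hv hn), h.tθ v hn⟩

omit h in
theorem sq_one (h : Fa A U D θ n₀ b₀) (hn : p ∈ Ns A) (p2 : p * p = 1) : θ p * θ p = 1 := by
  rw [← h.mul p hn p hn, p2, h.one]

omit h in
theorem ord_two {f : Γ} (h1 : f ≠ 1) (h2 : f * f = 1) : orderOf f = 2 :=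
  orderOf_eq_prime (by rw [sq, h2]) h1

theorem fix_sup (hφ : φ ∈ D ⊓ E) : (U ⊔ V) ⊓ C1 φ = (U ⊓ C1 φ) ⊔ (V ⊓ C1 φ) := by
  refine le_antisymm ?_ (sup_le (inf_le_inf_right _ le_sup_left) (inf_le_inf_right _ le_sup_right))
  rintro g ⟨h1, h2⟩
  obtain ⟨c, hc, d, hd, rfl⟩ := h.decU h1
  have := h.comp_comm (h.fa.syl.le hc) (h.fb.syl.le hd) (h.fa.DA hφ.1) (h.fb.DA hφ.2)
    (mem_C1.1 h2).symm
  exact mul_mem (mem_sup_left ⟨hc, mem_C1.2 this.1.symm⟩) (mem_sup_right ⟨hd, mem_C1.2 this.2.symm⟩)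

end WP

open WP

theorem WR.exists_PC (h : WR A B U V D E θ η n₀ b₀ t X) : ∃ P, PC A B U V D E t P := by
  have := Fact.mk Nat.prime_two
  have pure : ∀ p ∈ (D ⊓ E) ⊔ zpowers t, p ∈ D ⊓ E ∨ p * t ∈ D ⊓ E := fun p hp =>
    Comp.mem_sup_zpowers h.t2 (t_DE h) hp
  obtain ⟨P, hP, htP⟩ := exists_isSylowIn_ge (Comp.Tw.of_sq h.t2).isPGroup
    (le_sup_right : zpowers t ≤ (D ⊓ E) ⊔ zpowers t)
  refine ⟨P, hP.isPGroup, zpowers_le.1 htP, fun p hp => pure p (hP.le hp), ?_⟩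
  refine isSylowIn_of_maximal (sup_le (h.UG.trans le_normalizer)
    (hP.le.trans (sup_le (DE_M h) (zpowers_le.2 h.tM)))) (Comp.isPGroup_sup h.sylG.isPGroup
      hP.isPGroup (hP.le.trans (sup_le (DE_NU h) (zpowers_le.2 (t_NU h)))))
    fun Q hQ h1 hQM g hg => ?_
  have h2 : IsPGroup 2 ↥(((A ⊔ B) ⊔ Q) ⊓ ((D ⊓ E) ⊔ zpowers t)) := by
    rintro ⟨m, hm, hm'⟩
    obtain ⟨l, hl, q, hq, rfl⟩ := (Solv.Coprime.mem_sup_iff hQM).1 hm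
    obtain ⟨k, hk⟩ := Comp.Tw.of_mem hQ hq
    refine ⟨k, Subtype.ext ?_⟩
    have := SG2.mul_pow_mem hl (hQM hq) (2 ^ k)
    rw [hk, inv_one, mul_one] at this
    exact one_of h this (pure _ (pow_mem hm' _))
  have h3 := hP.eq_of_le h2 (le_inf (le_sup_right.trans (h1.trans le_sup_right)) hP.le) inf_le_right
  obtain ⟨l, hl, m, hm, e⟩ := dec_M h (hQM hg)
  have h4 : m ∈ P := h3 ▸ mem_inf.2 ⟨by
    rw [show m = l⁻¹ * g by rw [e]; group]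
    exact mul_mem (mem_sup_left (inv_mem hl)) (mem_sup_right hg), hm⟩
  have h5 : l ∈ U ⊔ V := h.sylG.eq_inf hQ (le_sup_left.trans h1) ▸ mem_inf.2 ⟨by
    rw [show l = g * m⁻¹ by rw [e]; group]
    exact mul_mem hg (inv_mem (h1 (mem_sup_right h4))), hl⟩
  rw [e]
  exact mul_mem (mem_sup_left h5) (mem_sup_right h4)

theorem WR.conj_th (h : WR A B U V D E θ η n₀ b₀ t X) (hg : g ∈ Ns (A ⊔ B)) (hv : v ∈ Ns (A ⊔ B))
    (hn : v ∈ Ns A) : (θ (g * v * g⁻¹) = θ v ∧ η (g * v * g⁻¹) = η v) ∨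
      (θ (g * v * g⁻¹) = η v ∧ η (g * v * g⁻¹) = θ v) := by
  by_cases h1 : g ∈ Ns A
  · exact .inl ⟨h.fa.conj h1 hn, h.fb.conj (h.NB hg h1) (h.NB hv hn)⟩
  · have h2 := h.idx g hg t h.tM h1 h.tN
    obtain ⟨h3, h4, h5⟩ := conj_t h hv hn
    rw [show g * v * g⁻¹ = g * t * (t * v * t⁻¹) * (g * t)⁻¹ by
      rw [show g * t * (t * v * t⁻¹) * (g * t)⁻¹ = g * (t * (t * v * t⁻¹) * t⁻¹) * g⁻¹ by group,
        tt_conj h.t2]]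
    exact .inr ⟨(h.fa.conj h2 h3).trans h4,
      (h.fb.conj (h.NB (mul_mem hg h.tM) h2) (h.tNA.2 hn)).trans h5⟩

theorem WP.inv_uniq {f f' : Γ} (h1 : f ≠ 1) (h2 : f * f = 1) (h1' : f' ≠ 1) (h2' : f' * f' = 1) :
    f = f' :=
  ((Tl.mem_zpowers_of_sq h2 (Local.Iso.mem_zpowers_of_isCyclic (ord_two h1 h2)
    (by rw [sq, h2']))).resolve_left h1').symm

section CP
variable (h : WR A B U V D E θ η n₀ b₀ t X) (hP : PC A B U V D E t P)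
include h hP

theorem WR.P_M : P ≤ Ns (A ⊔ B) := le_sup_right.trans hP.syl.le

theorem WR.P_NU : P ≤ Ns (U ⊔ V) := fun p hp =>
  (hP.pure p hp).elim (fun e => DE_NU h e) fun e => (mul_mem_cancel_right (t_NU h)).1 (DE_NU h e)

theorem WR.P_nsw (hp : p ∈ P) (hn : p ∈ Ns A) : p ∈ D ⊓ E := nsw h (hP.pure p hp) hn

theorem WR.P_inj (hp : p ∈ P) (hn : p ∈ Ns A) (h1 : θ p = 1) (h2 : η p = 1) : p = 1 := by
  have h3 := h.P_nsw hP hp hn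
  have : p ∈ Cs (A ⊔ B) := le_Cs_comm.1 (sup_le
    (le_Cs_comm.1 (zpowers_le.2 (h.fa.mem_Cs h3.1 h1)))
    (le_Cs_comm.1 (zpowers_le.2 (h.fb.mem_Cs h3.2 h2)))) (mem_zpowers p)
  obtain ⟨k, hk⟩ := Comp.Tw.of_mem hP.two hp
  rw [← orderOf_eq_one_iff]
  exact Nat.Coprime.eq_one_of_dvd ((Nat.coprime_two_right.2
    (h.odd.of_dvd_nat (orderOf_dvd_natCard _ this))).pow_right k) (orderOf_dvd_of_pow_eq_one hk)

theorem WR.P_ext (hp : p ∈ P) (hn : p ∈ Ns A) (hs : s ∈ P) (hn' : s ∈ Ns A) (h1 : θ p = θ s)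
    (h2 : η p = η s) : p = s := by
  have h3 := h.NB (h.P_M hP hp) hn
  have h4 := h.NB (h.P_M hP hs) hn'
  exact mul_inv_eq_one.1 (h.P_inj hP (mul_mem hp (inv_mem hs)) (mul_mem hn (inv_mem hn'))
    (by rw [h.fa.mul _ hn _ (inv_mem hn'), h.fa.inv hn', h1, mul_inv_cancel])
    (by rw [h.fb.mul _ h3 _ (inv_mem h4), h.fb.inv h4, h2, mul_inv_cancel]))

theorem WR.P_comm (hp : p ∈ P) (hn : p ∈ Ns A) (hs : s ∈ P) (hn' : s ∈ Ns A) : Commute p s := by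
  have h3 := h.NB (h.P_M hP hp) hn
  have h4 := h.NB (h.P_M hP hs) hn'
  exact h.P_ext hP (mul_mem hp hs) (mul_mem hn hn') (mul_mem hs hp) (mul_mem hn' hn)
    (by rw [h.fa.mul _ hn _ hn', h.fa.mul _ hn' _ hn, mul_comm])
    (by rw [h.fb.mul _ h3 _ h4, h.fb.mul _ h4 _ h3, mul_comm])

theorem WR.P_inf : (A ⊔ B) ⊓ P = ⊥ :=
  eq_bot_iff.2 fun g hg => mem_bot.2 (one_of h hg.1 (hP.pure g hg.2))

theorem WR.card_P : Nat.card P ≤ 2 * Nat.card Γ ^ 2 := by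
  have h1 := SG2.card_le_cover (D := P) (B := Ns A) {1, t} fun d hd => by
    by_cases e : d ∈ Ns A
    · exact ⟨1, by simp, by simpa using e⟩
    · exact ⟨t, by simp, h.idx _ (inv_mem h.tM) _ (h.P_M hP hd) (fun k => h.tN (inv_mem_iff.1 k)) e⟩
  have h2 : Nat.card ({1, t} : Set G) ≤ 2 := by
    rw [Nat.card_coe_set_eq]; exact (Set.ncard_insert_le _ _).trans (by simp)
  have h3 := Nat.card_le_card_of_injective (fun p : ↥(P ⊓ Ns A) => (θ p, η p)) fun p s e =>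
    Subtype.ext (h.P_ext hP p.2.1 p.2.2 s.2.1 s.2.2 (congrArg Prod.fst e) (congrArg Prod.snd e))
  rw [Nat.card_prod, ← sq] at h3
  exact h1.trans (Nat.mul_le_mul h2 h3)

theorem WR.card_Ps (hs : s ∈ P) (hn : s ∉ Ns A) :
    Nat.card (P ⊓ C1 s : Subgroup G) ≤ 2 * Nat.card Γ := by
  have h1 := SG2.card_le_cover (D := P ⊓ C1 s) (B := Ns A) {1, t} fun d hd => by
    by_cases e : d ∈ Ns A
    · exact ⟨1, by simp, by simpa using e⟩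
    · exact ⟨t, by simp, h.idx _ (inv_mem h.tM) _ (h.P_M hP hd.1) (fun k => h.tN (inv_mem_iff.1 k)) e⟩
  have h2 : Nat.card ({1, t} : Set G) ≤ 2 := by
    rw [Nat.card_coe_set_eq]; exact (Set.ncard_insert_le _ _).trans (by simp)
  have sM := h.P_M hP hs
  have k : ∀ p ∈ P ⊓ C1 s ⊓ Ns A, η p = θ p := fun p hp => by
    have e : s * t * (t * p * t⁻¹) * (s * t)⁻¹ = p := by
      rw [show s * t * (t * p * t⁻¹) * (s * t)⁻¹ = s * (t * (t * p * t⁻¹) * t⁻¹) * s⁻¹ by group,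
        tt_conj h.t2, ← mem_C1.1 hp.1.2, mul_inv_cancel_right]
    rw [← h.tθ p hp.2, ← h.fb.conj (h.NB (mul_mem sM h.tM) (h.idx s sM t h.tM hn h.tN))
      (h.tNA.2 hp.2), e]
  have h3 := Nat.card_le_card_of_injective (fun p : ↥(P ⊓ C1 s ⊓ Ns A) => θ p) fun p r e =>
    Subtype.ext (h.P_ext hP p.2.1.1 p.2.2 r.2.1.1 r.2.2 e (by rw [k _ p.2, k _ r.2]; exact e))
  exact h1.trans (Nat.mul_le_mul h2 h3)

theorem WR.P_hom {u u' : G} (hu : u ∈ A ⊔ B) (hu' : u' ∈ A ⊔ B) (hp : p ∈ P) (hs : s ∈ P)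
    (e : u * p * (u' * s) = u' * s * (u * p)) : p * s = s * p := by
  have h1 := mem_normalizer_conj (h.P_M hP hp) hu'
  have h2 := mem_normalizer_conj (h.P_M hP hs) hu
  refine mul_inv_eq_one.1 (one_of h ?_ (hP.pure _ (mul_mem (mul_mem hp hs) (inv_mem (mul_mem hs hp)))))
  rw [show p * s * (s * p)⁻¹ = (u * (p * u' * p⁻¹))⁻¹ * (u * p * (u' * s)) * (s * p)⁻¹ by group, e,
    show (u * (p * u' * p⁻¹))⁻¹ * (u' * s * (u * p)) * (s * p)⁻¹ =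
      (u * (p * u' * p⁻¹))⁻¹ * (u' * (s * u * s⁻¹)) by group]
  exact mul_mem (inv_mem (mul_mem hu h1)) (mul_mem hu' h2)

theorem WR.decomp (hg : g ∈ U ⊔ V ⊔ P) : ∃ c ∈ U, ∃ d ∈ V, ∃ p ∈ P, g = c * d * p := by
  obtain ⟨u, hu, p, hp, rfl⟩ := (Solv.Coprime.mem_sup_iff (h.P_NU hP)).1 hg
  obtain ⟨c, hc, d, hd, rfl⟩ := h.decU hu
  exact ⟨c, hc, d, hd, p, hp, rfl⟩

theorem WR.part {u : G} (hu : u ∈ A ⊔ B) (hp : p ∈ P) :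
    (u * p ∈ Ns A ↔ p ∈ Ns A) ∧ (p ∈ Ns A → θ (u * p) = θ p ∧ η (u * p) = η p) ∧
      ∀ n : ℕ, (u * p) ^ n = 1 → p ^ n = 1 := by
  refine ⟨mul_mem_cancel_left (h.GA hu), fun hn => ⟨?_, ?_⟩, fun n e => ?_⟩
  · rw [h.fa.mul _ (h.GA hu) _ hn, h.θG hu, one_mul]
  · rw [h.fb.mul _ (h.GB hu) _ (h.NB (h.P_M hP hp) hn), h.ηG hu, one_mul]
  · have := SG2.mul_pow_mem hu (h.P_M hP hp) n
    rw [e, one_mul, inv_mem_iff] at this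
    exact mem_bot.1 ((h.P_inf hP).le ⟨this, pow_mem hp n⟩)

theorem WR.mem_U (hg : g ∈ U ⊔ V ⊔ P) (hn : g ∈ Ns A) (h1 : θ g = 1) (h2 : η g = 1) :
    g ∈ U ⊔ V := by
  obtain ⟨u, hu, p, hp, rfl⟩ := (Solv.Coprime.mem_sup_iff (h.P_NU hP)).1 hg
  obtain ⟨h3, h4, -⟩ := h.part hP (h.UG hu) hp
  obtain ⟨h5, h6⟩ := h4 (h3.1 hn)
  rwa [h.P_inj hP hp (h3.1 hn) (h5.symm.trans h1) (h6.symm.trans h2), mul_one]

theorem WR.sw_bound (hs : s ∈ Ns (A ⊔ B)) (hn : s ∉ Ns A) {T : Subgroup G} (h2 : IsPGroup 2 T)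
    (hT : T ≤ Ns (A ⊔ B) ⊓ C1 s) : Nat.card T ≤ n₀ * Nat.card P := by
  have := Fact.mk Nat.prime_two
  obtain ⟨m, hm, h1⟩ := hP.syl.exists_cj_le h2 (hT.trans inf_le_left)
  have h3 : cj m T ≤ C1 (m * s * m⁻¹) := cj_C1 m s ▸ cj_mono m (hT.trans inf_le_right)
  have h4 := (h.swp (mul_mem (mul_mem hm hs) (inv_mem hm)) (mt (h.conj_iff hm hs).1 hn)).2
  rw [← card_cj m T]
  generalize cj m T = T at h1 h3
  generalize m * s * m⁻¹ = s at h3 h4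
  have h5 := SG2.card_le_cover (D := T) (B := U ⊔ V) P fun d hd => by
    obtain ⟨p, hp, u, hu, rfl⟩ := (Solv.Coprime.mem_sup_iff' (h.P_NU hP)).1 (h1 hd)
    exact ⟨p, hp, by rwa [inv_mul_cancel_left]⟩
  have h6 := SG2.card_le_cover (D := T ⊓ (U ⊔ V)) (B := V) U fun d hd => by
    obtain ⟨c, hc, u, hu, rfl⟩ := h.decU hd.2
    exact ⟨c, hc, by rwa [inv_mul_cancel_left]⟩
  have h7 : T ⊓ (U ⊔ V) ⊓ V = ⊥ := eq_bot_iff.2 fun d hd => h.inf.le ⟨by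
    have := h4.le (conj_mem_cj.2 (h.fb.syl.le hd.2))
    rwa [← mem_C1.1 (h3 hd.1.1), mul_inv_cancel_right] at this, h.fb.syl.le hd.2⟩
  rw [h7, card_bot, mul_one, SetLike.coe_sort_coe, h.fa.up.card] at h6
  exact h5.trans ((Nat.mul_le_mul_left _ h6).trans_eq (mul_comm _ _))

theorem WR.descent {c d : G} (hc : c ∈ U) (hd : d ∈ V) (hp : p ∈ P) (hn : p ∈ Ns A) {n : ℕ}
    (h1 : orderOf (θ p) = n) (h2 : orderOf (η p) = n) (e : (c * d * p) ^ n = 1) :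
    ∃ j ∈ U ⊔ V, j * (c * d * p) * j⁻¹ = p := by
  have h3 := h.P_nsw hP hp hn
  have h4 := (h.part hP (h.UG (mul_mem (mem_sup_left hc) (mem_sup_right hd))) hp).2.2 n e
  obtain ⟨c', hc', d', hd', e1, e2, e3⟩ := SG2.pow_parts h.UV (h.fa.DU h3.1) (h.fb.DU h3.2) hc hd n
  rw [e, h4, mul_one] at e3
  obtain ⟨rfl, rfl⟩ := SG2.eq_one_of_mul h.infU hc' hd' e3.symm
  obtain ⟨j, hj, e4⟩ := h.fa.h1 p h3.1 c hc (by rw [h1, e1, one_mul])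
  obtain ⟨k, hk, e5⟩ := h.fb.h1 p h3.2 d hd (by rw [h2, e2, one_mul])
  refine ⟨k * j, mul_mem (mem_sup_right hk) (mem_sup_left hj), ?_⟩
  have e6 := mem_Cs.1 (h.UV (mul_mem hj hc)) d hd
  calc _ = k * (j * c * d * p * j⁻¹) * k⁻¹ := by group
    _ = k * (d * (j * (c * p) * j⁻¹)) * k⁻¹ := by rw [← e6]; group
    _ = p := by rw [e4, e5]

theorem WR.ph_cent (hφ : Ph D E θ η P φ) (hp : p ∈ P) : Commute φ p := by
  have h1 := h.fa.DA hφ.nsw.1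
  have e := inv_uniq hφ.ha (sq_one h.fa h1 hφ.sq) hφ.hb (sq_one h.fb (h.fb.DA hφ.nsw.2) hφ.sq)
  obtain ⟨h3, h4, h5⟩ := conj_t h (h.P_M hP hφ.mem) h1
  have h6 : Commute φ t := (mul_inv_eq_iff_eq_mul.1 (h.P_ext hP
    (mul_mem (mul_mem hP.mem hφ.mem) (inv_mem hP.mem)) h3 hφ.mem h1 (h4.trans e.symm)
    (h5.trans e))).symm
  by_cases h7 : p ∈ Ns A
  · exact h.P_comm hP hφ.mem h1 hp h7
  · have := (h.P_comm hP hφ.mem h1 (mul_mem hp hP.mem)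
      (h.idx p (h.P_M hP hp) t h.tM h7 h.tN)).mul_right h6
    rwa [mul_assoc, h.t2, mul_one] at this

theorem WR.ph_uniq (hφ : Ph D E θ η P φ) {φ' : G} (hφ' : Ph D E θ η P φ') : φ' = φ :=
  h.P_ext hP hφ'.mem (h.fa.DA hφ'.nsw.1) hφ.mem (h.fa.DA hφ.nsw.1)
    (inv_uniq hφ'.ha (sq_one h.fa (h.fa.DA hφ'.nsw.1) hφ'.sq) hφ.ha
      (sq_one h.fa (h.fa.DA hφ.nsw.1) hφ.sq))
    (inv_uniq hφ'.hb (sq_one h.fb (h.fb.DA hφ'.nsw.2) hφ'.sq) hφ.hb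
      (sq_one h.fb (h.fb.DA hφ.nsw.2) hφ.sq))

theorem WR.ph_of (hv : v ∈ U ⊔ V ⊔ P) (v2 : v * v = 1) (hn : v ∈ Ns A) (h1 : θ v ≠ 1)
    (h2 : η v ≠ 1) : ∃ φ, Ph D E θ η P φ ∧ ∃ j ∈ U ⊔ V, j * v * j⁻¹ = φ := by
  obtain ⟨c, hc, d, hd, p, hp, rfl⟩ := h.decomp hP hv
  obtain ⟨h3, h4, h5⟩ := h.part hP (h.UG (mul_mem (mem_sup_left hc) (mem_sup_right hd))) hp
  have h6 := h3.1 hn
  have h7 := h.P_nsw hP hp h6
  rw [(h4 h6).1] at h1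
  rw [(h4 h6).2] at h2
  have h8 := h5 2 (by rw [sq, v2])
  rw [sq] at h8
  exact ⟨p, ⟨hp, h7, h8, h1, h2⟩, h.descent hP hc hd hp h6 (ord_two h1 (sq_one h.fa h6 h8))
    (ord_two h2 (sq_one h.fb (h.fb.DA h7.2) h8)) (by rw [sq, v2])⟩

theorem WR.ph_fix (hp : p ∈ P) (hn : p ∈ Ns A) (p1 : p ≠ 1) (p2 : p * p = 1) (hc : Commute t p) :
    Ph D E θ η P p := by
  have e := h.tθ p hn
  rw [hc.eq, mul_inv_cancel_right] at e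
  exact ⟨hp, h.P_nsw hP hp hn, p2, fun k => p1 (h.P_inj hP hp hn k (e.trans k)),
    fun k => p1 (h.P_inj hP hp hn (e.symm.trans k) k)⟩

theorem WR.ph_inf (hφ : Ph D E θ η P φ) :
    (U ⊔ V ⊔ P) ⊓ C1 φ = (U ⊓ C1 φ) ⊔ (V ⊓ C1 φ) ⊔ P := by
  have h1 : P ≤ C1 φ := fun p hp => mem_C1.2 (h.ph_cent hP hφ hp).symm
  rw [← fix_sup h hφ.nsw]
  refine le_antisymm ?_ (sup_le (inf_le_inf_right _ le_sup_left) (le_inf le_sup_right h1))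
  rintro g ⟨h2, h3⟩
  obtain ⟨u, hu, p, hp, rfl⟩ := (Solv.Coprime.mem_sup_iff (h.P_NU hP)).1 h2
  exact mul_mem (mem_sup_left ⟨hu, (mul_mem_cancel_right (h1 hp)).1 h3⟩) (mem_sup_right hp)

theorem WR.ph_card (hφ : Ph D E θ η P φ) : Nat.card (U ⊓ C1 φ : Subgroup G) ^ 2 = n₀ ∧
    Nat.card (V ⊓ C1 φ : Subgroup G) ^ 2 = n₀ ∧
    Nat.card ((U ⊓ C1 φ) ⊔ (V ⊓ C1 φ) ⊔ P : Subgroup G) = n₀ * Nat.card P := by
  have h1 := h.fa.fc φ hφ.nsw.1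
  have h2 := h.fb.fc φ hφ.nsw.2
  rw [ord_two hφ.ha (sq_one h.fa (h.fa.DA hφ.nsw.1) hφ.sq)] at h1
  rw [ord_two hφ.hb (sq_one h.fb (h.fb.DA hφ.nsw.2) hφ.sq)] at h2
  refine ⟨h1, h2, ?_⟩
  have h3 := h.card_sup (inf_le_left.trans h.fa.syl.le : U ⊓ C1 φ ≤ A)
    (inf_le_left.trans h.fb.syl.le : V ⊓ C1 φ ≤ B)
  rw [← Nat.pow_left_injective two_ne_zero (h1.trans h2.symm), ← sq, h1] at h3
  rw [← h3, ← fix_sup h hφ.nsw]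
  exact Solv.Coprime.card_sup (le_Ns_inf (h.P_NU hP)
    (le_Ns_C1 fun p hp => mem_C1.2 (h.ph_cent hP hφ hp).symm))
    (disjoint_iff.2 (eq_bot_iff.2 ((inf_le_inf_right _ (inf_le_left.trans h.UG)).trans
      (h.P_inf hP).le)))

end CP

end Cfsg.Lib.SPW
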