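import Cfsg.Agent.SPW.WP
import Cfsg.Agent.SPW.WU

/-!
# The wreathed configuration: the involution `t` fixes a unique point
-/

set_option autoImplicit false
set_option linter.unusedSectionVars false

namespace Cfsg.Lib.SPW

open Subgroup Cfsg.Lib.Trans Cfsg.Lib.Gold
open Cfsg.Lib.SG2 (Top Uq)
open Cfsg.Lib.SF4.Wr (PC Ph cj_cj_t tt_conj card_le_left)
open scoped commutatorElement

variable {G Γ : Type*} [Group G] [Finite G] [CommGroup Γ] [Finite Γ] [IsCyclic Γ]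
  {A B U V D E X P W : Subgroup G} {θ η : G → Γ} {t g g' p s v φ : G} {n₀ b₀ n₁ b₁ : ℕ}

open WP (inv_uniq)
open WU

namespace WQ

theorem cj_le_C1 {T : Subgroup G} (h : T ≤ C1 v) (g : G) : cj g T ≤ C1 (g * v * g⁻¹) :=
  cj_C1 g v ▸ cj_mono g h

theorem cj_inv_le_C1 {T : Subgroup G} (h : T ≤ C1 (g * v * g⁻¹)) : cj g⁻¹ T ≤ C1 v := by
  have := cj_le_C1 h g⁻¹
  rwa [show g⁻¹ * (g * v * g⁻¹) * g⁻¹⁻¹ = v by group] at this

theorem ex_pow {x y : Γ} (hx : Even (orderOf x)) (hy : y * y = 1) : ∃ n : ℕ, y = x ^ n := by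
  by_cases y1 : y = 1
  · exact ⟨0, by rw [y1, pow_zero]⟩
  obtain ⟨j, hj⟩ := hx
  have := orderOf_pos x
  exact ⟨j, inv_uniq y1 hy (pow_ne_one_of_lt_orderOf (by omega) (by omega))
    (by rw [← pow_add, ← hj, pow_orderOf_eq_one])⟩

theorem ord_two {x : Γ} (h1 : x ≠ 1) (h2 : x * x = 1) : orderOf x = 2 :=
  orderOf_eq_prime (by rw [pow_two, h2]) h1

variable (h : WR A B U V D E θ η n₀ b₀ t X) (hP : PC A B U V D E t P)
include h hP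

omit h in
theorem into (hv : v ∈ Ns (A ⊔ B)) (v2 : v * v = 1) :
    ∃ k ∈ Ns (A ⊔ B), k * v * k⁻¹ ∈ U ⊔ V ⊔ P := by
  obtain ⟨k, hk, e⟩ := hP.syl.exists_cj_le (Comp.Tw.of_sq v2).isPGroup (zpowers_le.2 hv)
  exact ⟨k, hk, cj_le_iff.1 e _ (mem_zpowers v)⟩

theorem big0 {c d : G} (hc : c ∈ U) (hd : d ∈ V) (hp : p ∈ P) (hn : p ∈ Ns A)
    (v2 : c * d * p * (c * d * p) = 1) (h1 : θ p = 1) :
    ∃ T : Subgroup G, T ≤ C1 (c * d * p) ∧ IsPGroup 2 T ∧ n₀ * Nat.card P < Nat.card T := by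
  have cA := h.fa.syl.le hc
  have dB := h.fb.syl.le hd
  have pD := h.P_nsw hP hp hn
  have p2 : p ^ 2 = 1 := (h.part hP (mul_mem_sup cA dB) hp).2.2 2 (by rw [pow_two, v2])
  have pC := h.fa.mem_Cs pD.1 h1
  have k : ∀ x ∈ A, Commute x (d * p) := fun x hx =>
    (h.comm hx dB).mul_right (mem_Cs.1 pC x hx)
  have e1 : d * p * (d * p) = d * (p * d * p⁻¹) := by
    rw [inv_eq_of_mul_eq_one_left ((pow_two p).symm.trans p2)]; group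
  obtain ⟨c2, d2⟩ := SG2.eq_one_of_mul h.inf (mul_mem cA cA)
    (mul_mem dB (mem_normalizer_conj (h.fb.DA pD.2) dB)) (by
      rw [← e1, (k c cA).mul_mul_mul_comm, ← v2, mul_assoc c d p])
  obtain ⟨T1, a1, a2, a3⟩ := h.fa.ic c cA c2
  have cP := h.card_P hP
  have key : ∀ T2 : Subgroup G, T2 ≤ B ⊓ C1 (d * p) → T1 ⊔ T2 ≤ C1 (c * d * p) := fun T2 b1 =>
    sup_le (fun x hx => mem_C1.2 (by
      rw [mul_assoc c]
      exact Commute.mul_right (mem_C1.1 (a1 hx).2) (k x (a1 hx).1))) fun x hx => mem_C1.2 (by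
      rw [mul_assoc c]
      exact Commute.mul_right (h.comm cA (b1 hx).1).symm (mem_C1.1 (b1 hx).2))
  have l1 := a1.trans inf_le_left
  by_cases h2 : η p = 1
  · obtain rfl := h.P_inj hP hp hn h1 h2
    obtain ⟨T2, b1, b2, b3⟩ := h.fb.ic d dB (by simpa using d2)
    have l2 := b1.trans inf_le_left
    refine ⟨T1 ⊔ T2, key T2 (by rwa [mul_one]), h.two_sup l1 l2 a2 b2, ?_⟩
    rw [h.card_sup l1 l2]
    have := h.fa.bd2
    have := Nat.mul_le_mul a3 b3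
    have := Nat.mul_le_mul_left n₀ cP
    nlinarith
  have o := ord_two h2 (by rw [← pow_two, ← h.fb.pow (h.fb.DA pD.2), p2, h.fb.one])
  obtain ⟨j, hj, e⟩ := h.fb.h1 p pD.2 d hd (by rw [o, p2, pow_two, e1, d2])
  have f := h.fb.fc p pD.2
  rw [o, ← card_cj j⁻¹] at f
  have b1 : cj j⁻¹ (V ⊓ C1 p) ≤ B ⊓ C1 (d * p) := le_inf (cj_le_of_mem_of_le (inv_mem (h.fb.syl.le hj))
    (inf_le_left.trans h.fb.syl.le)) (cj_inv_le_C1 (by rw [e]; exact inf_le_right))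
  have b2 : IsPGroup 2 (cj j⁻¹ (V ⊓ C1 p)) := isPGroup_cj h.fb.up.two.to_inf_left _
  generalize cj j⁻¹ (V ⊓ C1 p) = T2 at f b1 b2
  have l2 := b1.trans inf_le_left
  have vG : c * d * p ∉ A ⊔ B := fun e => h2 (by
    rw [← h.ηG e, ((h.part hP (mul_mem_sup cA dB) hp).2.1 hn).2])
  have z : T1 ⊔ T2 ≤ Cs (zpowers (c * d * p)) := by rw [Cs_zpowers]; exact key T2 b1
  refine ⟨T1 ⊔ T2 ⊔ zpowers (c * d * p), sup_le (key T2 b1) (zpowers_le.2 (mem_C1.2 rfl)),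
    Comp.isPGroup_sup (h.two_sup l1 l2 a2 b2) (Comp.Tw.of_sq v2).isPGroup
      ((le_Cs_comm.1 z).trans Cs_le_Ns), ?_⟩
  rw [SG2.card_sup_Cs z (eq_bot_iff.2 fun x hx => (Tl.mem_zpowers_of_sq v2 hx.2).elim
    (fun e => mem_bot.2 e) fun e => (vG (e ▸ sup_le_sup l1 l2 hx.1)).elim), h.card_sup l1 l2,
    Nat.card_zpowers, orderOf_eq_prime (x := c * d * p) (p := 2) (by rw [sq, v2]) fun e => vG (by rw [e]; exact one_mem _)]
  refine lt_of_pow_lt_pow_left₀ 2 (Nat.zero_le _) ?_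
  have n0 : 0 < n₀ := f ▸ pow_pos Nat.card_pos 2
  calc _ ≤ (n₀ * (2 * Nat.card Γ ^ 2)) ^ 2 := Nat.pow_le_pow_left (Nat.mul_le_mul_left _ cP) 2
    _ = 4 * n₀ * (n₀ * Nat.card Γ ^ 4) := by ring
    _ < 4 * n₀ * b₀ ^ 2 := Nat.mul_lt_mul_of_pos_left h.fa.bd1 (by omega)
    _ ≤ 4 * n₀ * Nat.card T1 ^ 2 := Nat.mul_le_mul_left _ (Nat.pow_le_pow_left a3 2)
    _ = _ := by rw [← f]; ring

omit hP in
theorem mem_fix (hA : p ∈ Ns A) (hB : p ∈ Ns B) {x : G} (hx : x ∈ U ⊔ V) (e : Commute p x) :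
    x ∈ (U ⊓ C1 p) ⊔ (V ⊓ C1 p) := by
  obtain ⟨c, hc, d, hd, rfl⟩ := h.decU hx
  obtain ⟨e1, e2⟩ := h.comp_comm (h.fa.syl.le hc) (h.fb.syl.le hd) hA hB e
  exact mul_mem_sup ⟨hc, mem_C1.2 e1.symm⟩ ⟨hd, mem_C1.2 e2.symm⟩

omit hP in
theorem diag (hs : s ∈ Ns (A ⊔ B)) (hn : s ∉ Ns A) (s2 : s * s = 1) :
    ∃ W : Subgroup G, W ≤ C1 s ∧ UP W n₀ b₀ := by
  obtain ⟨W, h1, -, h2⟩ := exists_diag h.com h.inf (h.swp hs hn).1 (W := U)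
    (le_inf h.fa.syl.le fun x _ => mem_C1.2 (by rw [s2, mul_one, one_mul])) h.fa.up.two
  exact ⟨W, h1.trans inf_le_right, h2 _ _ h.fa.up⟩

omit hP in
theorem th_ne (hg : g ∈ Ns (A ⊔ B)) (hv : v ∈ Ns (A ⊔ B)) (hn : v ∈ Ns A) (h1 : θ v ≠ 1)
    (h2 : η v ≠ 1) : θ (g * v * g⁻¹) ≠ 1 ∧ η (g * v * g⁻¹) ≠ 1 := by
  rcases h.conj_th hg hv hn with ⟨e1, e2⟩ | ⟨e1, e2⟩ <;> rw [e1, e2]
  exacts [⟨h1, h2⟩, ⟨h2, h1⟩]

end WQ

open WQ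

section CP

variable (h : WR A B U V D E θ η n₀ b₀ t X) (hP : PC A B U V D E t P)
include h hP

theorem WR.big (hv : v ∈ Ns (A ⊔ B)) (hn : v ∈ Ns A) (v2 : v * v = 1) (h1 : θ v = 1 ∨ η v = 1) :
    ∃ T : Subgroup G, T ≤ C1 v ∧ IsPGroup 2 T ∧ n₀ * Nat.card P < Nat.card T := by
  obtain ⟨k, hk, e⟩ := into hP hv v2
  obtain ⟨c, hc, d, hd, p, hp, e⟩ := h.decomp hP e
  have m := h.UG (mul_mem_sup hc hd)
  obtain ⟨p1, p2, -⟩ := h.part hP m hp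
  have hn' := p1.1 (e ▸ (h.conj_iff hk hv).2 hn)
  obtain ⟨e1, e2⟩ := p2 hn'
  have w2 := Comp.conj_sq v2 k
  suffices ∃ T : Subgroup G, T ≤ C1 (c * d * p) ∧ IsPGroup 2 T ∧ n₀ * Nat.card P < Nat.card T by
    obtain ⟨T, a1, a2, a3⟩ := this
    exact ⟨cj k⁻¹ T, cj_inv_le_C1 (e ▸ a1), isPGroup_cj a2 _, by rwa [card_cj]⟩
  have h2 : θ p = 1 ∨ η p = 1 := by
    rw [← e1, ← e2, ← e]
    rcases h.conj_th hk hv hn with ⟨e1, e2⟩ | ⟨e1, e2⟩ <;> rw [e1, e2]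
    exacts [h1, h1.symm]
  rw [e] at w2
  rcases h2 with h2 | h2
  · exact big0 h hP hc hd hp hn' w2 h2
  · rw [(h.comm (h.fa.syl.le hc) (h.fb.syl.le hd)).eq] at w2 ⊢
    exact big0 h.symm hP.symm hd hc hp (h.NB (h.P_M hP hp) hn') w2 h2

theorem WR.emb2 (hp : p ∈ P) (hn : p ∈ Ns A) (h1 : Even (orderOf (θ p))) (h2 : Even (orderOf (η p)))
    (c1 : Nat.card (U ⊓ C1 p : Subgroup G) ^ 2 = n₁) (c2 : Nat.card (V ⊓ C1 p : Subgroup G) ^ 2 = n₁)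
    (hW : UP W n₁ b₁) (hle : W ≤ (U ⊔ V ⊔ P) ⊓ C1 p)
    (hg : ∀ v ∈ W, v * v = 1 → b₁ ≤ Nat.card (W ⊓ C1 v : Subgroup G) → v ∈ Ns A) : False := by
  have ab : ∀ x ∈ P ⊓ Ns A, ∀ y ∈ P ⊓ Ns A, x * y = y * x := fun x hx y hy =>
    h.P_comm hP hx.1 hx.2 hy.1 hy.2
  have le := Comp.Om_le (P ⊓ Ns A)
  have pD := h.P_nsw hP hp hn
  have l1 : U ⊓ C1 p ≤ A := inf_le_left.trans h.fa.syl.le
  have l2 : V ⊓ C1 p ≤ B := inf_le_left.trans h.fb.syl.le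
  refine emb (Ω := Comp.Om (P ⊓ Ns A)) hW (l1.trans (h.com.trans (Cs_anti l2)))
    (le_Cs_comm.1 (sup_le (sup_le (le_Cs_comm.1 fun x hx => ?_) (le_Cs_comm.1 fun x hx => ?_))
      fun x hx => mem_Cs.2 fun y hy => ab _ (le hy) _ (le hx)))
    (eq_bot_iff.2 ((inf_le_inf (sup_le_sup l1 l2) (le.trans inf_le_left)).trans (h.P_inf hP).le))
    (eq_bot_iff.2 ((inf_le_inf l1 l2).trans h.inf.le)) (hW.gen.trans ((closure_le _).2 ?_)) c1 c2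
  · have xD := h.P_nsw hP (le hx).1 (le hx).2
    obtain ⟨n, e⟩ := ex_pow h1 (y := θ x) (by
      rw [← h.fa.mul _ (le hx).2 _ (le hx).2, Comp.sq_of_mem_Om ab x hx, h.fa.one])
    exact Cs_anti (inf_le_inf_right _ h.fa.syl.le) (h.fa.fix pD.1 xD.1 e)
  · have xD := h.P_nsw hP (le hx).1 (le hx).2
    obtain ⟨n, e⟩ := ex_pow h2 (y := η x) (by
      rw [← h.fb.mul _ (h.fb.DA xD.2) _ (h.fb.DA xD.2), Comp.sq_of_mem_Om ab x hx, h.fb.one])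
    exact Cs_anti (inf_le_inf_right _ h.fb.syl.le) (h.fb.fix pD.2 xD.2 e)
  rintro v ⟨hv, v2, v3⟩
  have vn := hg v hv v2 v3
  obtain ⟨c, hc, d, hd, w, hw, rfl⟩ := h.decomp hP (hle hv).1
  obtain ⟨p1, -, p3⟩ := h.part hP (h.UG (mul_mem_sup hc hd)) hw
  have wn := p1.1 vn
  refine mul_mem_sup (mem_fix h hn (h.fb.DA pD.2) (mul_mem_sup hc hd) ?_)
    (Comp.mem_Om_of ⟨hw, wn⟩ (by rw [← pow_two]; exact p3 2 (by rw [pow_two, v2])))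
  have := (show Commute p (c * d * w) from (mem_C1.1 (hle hv).2).symm).mul_right
    (h.P_comm hP hp hn hw wn).inv_right
  rwa [mul_inv_cancel_right] at this

theorem WR.noemb (hφ : Ph D E θ η P φ)
    (hb : ∀ T : Subgroup G, IsPGroup 2 T → T ≤ C1 φ → Nat.card T ≤ n₀ * Nat.card P)
    (hW : UP W n₀ b₀) (hle : W ≤ C1 φ) : False := by
  obtain ⟨c1, c2, c3⟩ := h.ph_card hP hφ
  rw [← h.ph_inf hP hφ] at c3
  obtain ⟨T, hT, le⟩ := exists_isSylowIn_ge (p := 2) (Q := (U ⊔ V ⊔ P) ⊓ C1 φ) (H := C1 φ)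
    hP.syl.isPGroup.to_inf_left inf_le_right
  obtain rfl := eq_of_le_of_card_ge le (c3 ▸ hb T hT.isPGroup hT.le)
  obtain ⟨k, -, e⟩ := hT.exists_cj_le hW.two hle
  have hA := h.fa.DA hφ.nsw.1
  have hB := h.fb.DA hφ.nsw.2
  refine h.emb2 hP hφ.mem hA
    (by rw [ord_two hφ.ha (by rw [← h.fa.mul _ hA _ hA, hφ.sq, h.fa.one])]; decide)
    (by rw [ord_two hφ.hb (by rw [← h.fb.mul _ hB _ hB, hφ.sq, h.fb.one])]; decide)
    c1 c2 (up_cj hW k) e fun v hv _ v3 => by_contra fun hn => ?_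
  have l1 : U ⊓ C1 φ ≤ A := inf_le_left.trans h.fa.syl.le
  have l2 : V ⊓ C1 φ ≤ B := inf_le_left.trans h.fb.syl.le
  obtain ⟨c', hc', d', hd', w, hw, ev⟩ := h.decomp hP (e hv).1
  have m' := h.UG (mul_mem_sup hc' hd')
  have k0 := h.card_Ps hP hw fun e => hn (ev ▸ (h.part hP m' hw).1.2 e)
  have k1 := SG2.card_le_cover (B := (U ⊓ C1 φ) ⊔ (V ⊓ C1 φ)) (D := cj k W ⊓ C1 v)
    ((P ⊓ C1 w : Subgroup G) : Set G) fun x hx => by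
      obtain ⟨c, hc, d, hd, p, hp, rfl⟩ := h.decomp hP (e hx.1).1
      refine ⟨p, ⟨hp, mem_C1.2 (h.P_hom hP (h.UG (mul_mem_sup hc hd)) m' hp hw
        (ev ▸ mem_C1.1 hx.2))⟩, mem_fix h hA hB ?_ ((h.ph_cent hP hφ hp).inv_right.mul_right
        (mem_C1.1 (e hx.1).2).symm)⟩
      have := mem_normalizer_conj (inv_mem (h.P_NU hP hp)) (mul_mem_sup hc hd)
      rwa [inv_inv, mul_assoc] at this
  have k2 := card_le_left (K := U ⊓ C1 φ) (L := V ⊓ C1 φ) (T := cj k W ⊓ C1 v ⊓ _)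
    (l1.trans (h.com.trans (Cs_anti l2))) inf_le_right (eq_bot_iff.2 fun x hx => by
      have x1 : v * x * v⁻¹ ∈ A := (h.swp (hP.syl.le (e hv).1) hn).2 ▸ conj_mem_cj.2 (l2 hx.2)
      rw [← mem_C1.1 hx.1.1.2, mul_inv_cancel_right] at x1
      exact h.inf.le ⟨x1, l2 hx.2⟩)
  have k3 := Nat.pow_le_pow_left (v3.trans (k1.trans (Nat.mul_le_mul k0 k2))) 2
  rw [mul_pow, c1] at k3
  have := h.fa.bd2
  nlinarith

theorem WR.uq' : Uq (Ns (A ⊔ B)) t := fun g hg => by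
  have hb : ∀ (g : G) (T : Subgroup G), IsPGroup 2 T → T ≤ C1 (g * t * g⁻¹) →
      Nat.card T ≤ n₀ * Nat.card P := fun g T h1 h2 => by
    rw [← card_cj g⁻¹ T]
    exact h.sw_bound hP h.tM h.tN (isPGroup_cj h1 _)
      (le_inf ((cj_inv_le_C1 h2).trans h.nL) (cj_inv_le_C1 h2))
  have v2 := Comp.conj_sq h.t2 g
  by_cases hn : g * t * g⁻¹ ∈ Ns A
  swap
  · exact h.sw g (h.swp hg hn).1
  by_cases h1 : θ (g * t * g⁻¹) = 1 ∨ η (g * t * g⁻¹) = 1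
  · obtain ⟨T, a1, a2, a3⟩ := h.big hP hg hn v2 h1
    exact (not_le.2 a3 (hb g T a2 a1)).elim
  obtain ⟨k, hk, e⟩ := into hP hg v2
  obtain ⟨h2, h3⟩ := th_ne h hk hg hn (not_or.1 h1).1 (not_or.1 h1).2
  obtain ⟨φ, hφ, j, -, e'⟩ := h.ph_of hP e (Comp.conj_sq v2 k) ((h.conj_iff hk hg).2 hn) h2 h3
  have e2 : j * k * g * t * (j * k * g)⁻¹ = φ := by rw [← e']; group
  obtain ⟨W, w1, w2⟩ := diag h h.tM h.tN h.t2
  exact (h.noemb hP hφ (e2 ▸ hb _) (up_cj w2 _) (e2 ▸ cj_le_C1 w1 _)).elim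

theorem WR.iso (hφ : Ph D E θ η P φ) (hg : g * φ * g⁻¹ ∈ U ⊔ V ⊔ P) :
    g * φ * g⁻¹ ∈ Ns A ∧ θ (g * φ * g⁻¹) ≠ 1 ∧ η (g * φ * g⁻¹) ≠ 1 := by
  have hA := h.fa.DA hφ.nsw.1
  have hM := h.P_M hP hφ.mem
  have hb : ∀ T : Subgroup G, IsPGroup 2 T → T ≤ C1 φ → Nat.card T ≤ n₀ * Nat.card P :=
    fun T h1 h2 => by
      have z : zpowers φ ≤ C1 φ := zpowers_le.2 (mem_C1.2 rfl)
      have t2 : IsPGroup 2 (zpowers φ ⊔ T : Subgroup G) :=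
        Comp.isPGroup_sup (Comp.Tw.of_sq hφ.sq).isPGroup h1 (h2.trans fun x hx =>
          mem_Ns_iff.2 (by rw [cj_zpowers, mem_C1.1 hx, mul_inv_cancel_right]))
      obtain ⟨k, hk, e⟩ := (h.uq' hP).conj_le h.tM h.t2 (Y := C1 φ)
        (mem_C1.2 (h.ph_cent hP hφ hP.mem).symm) t2 (sup_le z h2)
      obtain ⟨m, hm, e'⟩ := hP.syl.exists_cj_le (isPGroup_cj t2 k) e
      have k1 : k * φ * k⁻¹ = φ := by rw [mem_C1.1 hk, mul_inv_cancel_right]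
      have m1 : m * φ * m⁻¹ ∈ U ⊔ V ⊔ P :=
        e' (conj_mem_cj.2 (by
          have := (conj_mem_cj (g := k)).2 (mem_sup_left (T := T) (mem_zpowers φ))
          rwa [k1] at this))
      obtain ⟨h3, h4⟩ := th_ne h hm hM hA hφ.ha hφ.hb
      obtain ⟨φ', hφ', j, hj, e2⟩ := h.ph_of hP m1 (Comp.conj_sq hφ.sq m)
        ((h.conj_iff hm hM).2 hA) h3 h4
      rw [h.ph_uniq hP hφ hφ'] at e2
      rw [← (h.ph_card hP hφ).2.2, ← h.ph_inf hP hφ, ← card_cj k T, ← card_cj m, ← card_cj j]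
      refine Trans.card_le_of_le (le_inf (cj_le_of_mem_of_le (mem_sup_left hj)
        ((cj_mono m (cj_mono k le_sup_right)).trans e')) ?_)
      have := cj_le_C1 (cj_le_C1 (cj_le_C1 h2 k) m) j
      rwa [k1, e2] at this
  have v2 := Comp.conj_sq hφ.sq g
  have hn : g * φ * g⁻¹ ∈ Ns A := by_contra fun hn => by
    obtain ⟨W, w1, w2⟩ := diag h (hP.syl.le hg) hn v2
    exact h.noemb hP hφ hb (up_cj w2 _) (cj_inv_le_C1 w1)
  refine ⟨hn, not_or.1 fun h1 => ?_⟩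
  obtain ⟨T, a1, a2, a3⟩ := h.big hP (hP.syl.le hg) hn v2 h1
  exact not_le.2 a3 ((card_cj g⁻¹ T).ge.trans (hb _ (isPGroup_cj a2 _) (cj_inv_le_C1 a1)))

end CP

end Cfsg.Lib.SPW
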