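import Cfsg.Agent.SPW.WQ

/-!
# The wreathed configuration: transfer, first cases
-/

set_option autoImplicit false
set_option linter.unusedSectionVars false

namespace Cfsg.Lib.SPW

open Subgroup Cfsg.Lib.Trans Cfsg.Lib.Gold
open Cfsg.Lib.SG2 (Top Uq)
open Cfsg.Lib.SF4.Wr (PC Ph cj_cj_t tt_conj card_le_left)
open scoped commutatorElement

variable {G Γ : Type*} [Group G] [Finite G] [CommGroup Γ] [Finite Γ] [IsCyclic Γ]
  {A B U V D E X P W : Subgroup G} {θ η : G → Γ} {t g g' p s v φ : G} {n₀ b₀ n₁ b₁ : ℕ}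

open WQ
open WP (inv_uniq)

namespace WT

variable (h : WR A B U V D E θ η n₀ b₀ t X)
include h

theorem sq_θ (hn : v ∈ Ns A) (v2 : v * v = 1) : θ v * θ v = 1 := by
  rw [← h.fa.mul _ hn _ hn, v2, h.fa.one]

theorem comm_θ (hg : g ∈ Ns A) (hg' : g' ∈ Ns A) : θ ⁅g, g'⁆ = 1 := by
  rw [commutatorElement_def, h.fa.mul _ (mul_mem (mul_mem hg hg') (inv_mem hg)) _ (inv_mem hg'),
    h.fa.conj hg hg', h.fa.inv hg', mul_inv_cancel]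

theorem ex_δ {f : Γ} (f2 : f * f = 1) : ∃ δ : Ns (A ⊔ B) →* Γ,
    (∀ g : Ns (A ⊔ B), (g : G) ∈ Ns A → δ g = θ g * η g) ∧
      ∀ g : Ns (A ⊔ B), (g : G) ∉ Ns A → (g : G) * g = 1 → δ g = f := by
  classical
  have ti : t⁻¹ = t := inv_eq_of_mul_eq_one_right h.t2
  have mul : ∀ x ∈ Ns (A ⊔ B), x ∈ Ns A → ∀ y ∈ Ns (A ⊔ B), y ∈ Ns A →
      θ (x * y) * η (x * y) = θ x * η x * (θ y * η y) := fun x hx x1 y hy y1 => by
    rw [h.fa.mul _ x1 _ y1, h.fb.mul _ (h.NB hx x1) _ (h.NB hy y1), mul_mul_mul_comm]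
  have tw : ∀ x ∈ Ns (A ⊔ B), x ∈ Ns A → θ (t * x * t⁻¹) * η (t * x * t⁻¹) = θ x * η x :=
    fun x hx x1 => by rw [h.tθ _ x1, h.tη (h.NB hx x1), mul_comm]
  have cM : ∀ x ∈ Ns (A ⊔ B), t * x * t⁻¹ ∈ Ns (A ⊔ B) := fun x hx =>
    mul_mem (mul_mem h.tM hx) (inv_mem h.tM)
  refine ⟨MonoidHom.mk' (fun g => if (g : G) ∈ Ns A then θ g * η g else θ (g * t) * η (g * t) * f)
    fun x y => ?_, fun g hg => if_pos hg, fun g hg g2 => (if_neg hg).trans ?_⟩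
  · obtain ⟨x, hx⟩ := x
    obtain ⟨y, hy⟩ := y
    have i := Comp.mul_mem_iff_of_idx h.idx hx hy
    have xt := mul_mem hx h.tM
    have yt := mul_mem hy h.tM
    by_cases x1 : x ∈ Ns A <;> by_cases y1 : y ∈ Ns A <;>
      simp only [x1, y1, iff_true, iff_false, iff_self, not_true] at i <;>
      simp only [coe_mul, x1, y1, i, if_true, if_false]
    · exact mul x hx x1 y hy y1
    · rw [mul_assoc x, mul x hx x1 _ yt (h.idx _ hy _ h.tM y1 h.tN), mul_assoc (θ x * η x)]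
    · rw [show x * y * t = x * t * (t * y * t⁻¹) by
        rw [ti, mul_assoc x t, ← mul_assoc t, ← mul_assoc t, h.t2, one_mul, mul_assoc],
        mul _ xt (h.idx _ hx _ h.tM x1 h.tN) _ (cM y hy) ((h.conj_iff h.tM hy).2 y1), tw y hy y1,
        mul_right_comm _ f]
    · have y2 := h.idx _ hy _ h.tM y1 h.tN
      rw [show x * y = x * t * (t * (y * t) * t⁻¹) by
        rw [mul_assoc t, mul_inv_cancel_right, mul_assoc x, ← mul_assoc t, h.t2, one_mul],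
        mul _ xt (h.idx _ hx _ h.tM x1 h.tN) _ (cM _ yt) ((h.conj_iff h.tM yt).2 y2), tw _ yt y2,
        mul_mul_mul_comm _ f, f2, mul_one]
  · have g1 := h.idx _ g.2 _ h.tM hg h.tN
    have g3 := h.idx _ h.tM _ g.2 h.tN hg
    rw [show (g : G) * t = t * (t * g) * t⁻¹ by rw [← mul_assoc, h.t2, one_mul, ti], h.tθ _ g3,
      ← mul_assoc t, h.t2, one_mul, ti, ← h.fa.mul _ g1 _ g3, mul_assoc, ← mul_assoc t, h.t2,
      one_mul, g2, h.fa.one, one_mul]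

end WT

open WT

section CP

variable (h : WR A B U V D E θ η n₀ b₀ t X) (hP : PC A B U V D E t P)
include h hP

theorem WR.sylS : IsSylowIn 2 (U ⊔ V ⊔ P) ⊤ := by
  obtain ⟨T, hT, le⟩ := exists_isSylowIn_ge (H := ⊤) hP.syl.isPGroup le_top
  rwa [← hP.syl.eq_of_le hT.isPGroup le
    ((h.uq' hP).two_le h.tM hT.isPGroup (le (mem_sup_right hP.mem)))]

theorem WR.syl0 : IsSylowIn 2 ((U ⊔ V ⊔ P) ⊓ X) X :=
  (h.sylS hP).inf_normal_of_le (fun g _ => h.nX g) le_top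

theorem WR.not_mem : t ∉ X := fun ht => by
  have e : X = ⊤ := by rw [← h.top.top, sup_of_le_left (zpowers_le.2 ht)]
  obtain ⟨k, -, h1, h2⟩ := Comp.thompson_in (C := Ns A) h.top.perf (e ▸ h.sylS hP)
    (fun a ha b hb => h.idx a (hP.syl.le ha) b (hP.syl.le hb)) ht h.t2
  exact h.tN ((h.conj_iff (h.uq' hP k (hP.syl.le h1)) h.tM).1 h2)

theorem WR.dec0 (hg : g ∈ (U ⊔ V ⊔ P) ⊓ X) : ∃ u ∈ U ⊔ V, ∃ p ∈ P, p ∈ X ∧ g = u * p := by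
  obtain ⟨c, hc, d, hd, p, hp, rfl⟩ := h.decomp hP hg.1
  have m := mul_mem_sup hc hd
  exact ⟨_, m, p, hp, (mul_mem_cancel_left (h.le (h.UG m))).1 hg.2, rfl⟩

theorem WR.caseA (hφ : Ph D E θ η P φ) (hX : φ ∈ X) (hn : ∀ p ∈ P, p ∈ X → p ∈ Ns A) : False := by
  have n : ∀ g ∈ (U ⊔ V ⊔ P) ⊓ X, g ∈ Ns A := fun g hg => by
    obtain ⟨u, hu, p, hp, pX, rfl⟩ := h.dec0 hP hg
    exact mul_mem (h.GA (h.UG hu)) (hn p hp pX)
  have n' : ∀ g ∈ (U ⊔ V ⊔ P) ⊓ X, g ∈ Ns B := fun g hg => h.NB (hP.syl.le hg.1) (n g hg)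
  obtain ⟨k, h1, h2, -⟩ := SG2.thompson_sub (T := U ⊔ V) (Q := ⊥) h.top.perf (h.syl0 hP)
    (fun x hx y hy => by
      have m : ⁅x, y⁆ ∈ (U ⊔ V ⊔ P) ⊓ X :=
        mul_mem (mul_mem (mul_mem hx hy) (inv_mem hx)) (inv_mem hy)
      exact h.mem_U hP m.1 (n _ m) (comm_θ h (n x hx) (n y hy))
        (comm_θ h.symm (n' x hx) (n' y hy)))
    hX (Comp.Tw.of_sq hφ.sq) (SG2.inv_h1 hφ.sq) (fun k l hk hl _ _ => by
      obtain ⟨-, k1, k2⟩ := h.iso hP hφ hk.1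
      obtain ⟨-, l1, l2⟩ := h.iso hP hφ hl.1
      have k3 := Comp.conj_sq hφ.sq k
      have l3 := Comp.conj_sq hφ.sq l
      refine h.mem_U hP (mul_mem hk hl).1 (n _ (mul_mem hk hl)) ?_ ?_
      · rw [h.fa.mul _ (n _ hk) _ (n _ hl), inv_uniq k1 (sq_θ h (n _ hk) k3) l1
          (sq_θ h (n _ hl) l3), sq_θ h (n _ hl) l3]
      · rw [h.fb.mul _ (n' _ hk) _ (n' _ hl), inv_uniq k2 (sq_θ h.symm (n' _ hk) k3) l2
          (sq_θ h.symm (n' _ hl) l3), sq_θ h.symm (n' _ hl) l3])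
    IsPGroup.of_bot bot_le bot_le
  exact (h.iso hP hφ h1.1).2.1 (h.θG (h.UG h2))

theorem WR.caseB1 (hn : ∀ p ∈ P, p ∈ X → p ∈ Ns A → p = 1) (hs : s ∈ P) (hX : s ∈ X) (s1 : s ≠ 1)
    (hc : Commute t s) : False := by
  have sM := h.P_M hP hs
  have sw : s ∉ Ns A := fun e => s1 (hn s hs hX e)
  have s2 := hn _ (mul_mem hs hs) (mul_mem hX hX) (h.idx s sM s sM sw sw)
  obtain ⟨k, -, h1, h2⟩ := Comp.thompson_in (C := Ns A) h.top.perf (h.syl0 hP)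
    (fun a ha b hb => h.idx a (hP.syl.le ha.1) b (hP.syl.le hb.1)) hX s2
  obtain ⟨u, hu, p, hp, pX, e⟩ := h.dec0 hP h1
  obtain rfl := hn p hp pX ((h.part hP (h.UG hu) hp).1.1 (e ▸ h2))
  obtain ⟨T, a1, a2, a3⟩ := h.big hP (hP.syl.le h1.1) h2 (Comp.conj_sq s2 k)
    (.inl (by rw [e, mul_one, h.θG (h.UG hu)]))
  obtain ⟨l, hl, e'⟩ := (h.uq' hP).conj_le h.tM h.t2 (Y := C1 s) (mem_C1.2 hc)
    (isPGroup_cj a2 k⁻¹) (cj_inv_le_C1 a1)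
  have := h.sw_bound hP sM sw (isPGroup_cj (isPGroup_cj a2 k⁻¹) l)
    (le_inf e' (cj_le_of_mem_of_le hl (cj_inv_le_C1 a1)))
  rw [card_cj, card_cj] at this
  exact not_le.2 a3 this

theorem WR.caseB2 (hφ : Ph D E θ η P φ) (hX : φ ∈ X) (hs : s ∈ P) (hsX : s ∈ X) (hsw : s ∉ Ns A)
    (s2 : s * s = 1) : False := by
  have hA := h.fa.DA hφ.nsw.1
  have f2 := sq_θ h hA hφ.sq
  obtain ⟨δ, d1, d2⟩ := ex_δ h f2
  have mT : ∀ {g} (hg : g ∈ Ns (A ⊔ B)), g ∈ δ.ker.map (Ns (A ⊔ B)).subtype ↔ δ ⟨g, hg⟩ = 1 :=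
    fun hg => mem_map_iff_mem (x := ⟨_, hg⟩) (subtype_injective _)
  have c := h.ph_cent hP hφ hs
  obtain ⟨k, h1, h2, h3⟩ := SG2.thompson_sub (T := δ.ker.map (Ns (A ⊔ B)).subtype)
    (Q := zpowers φ) h.top.perf (h.syl0 hP)
    (fun x hx y hy => ⟨⁅(⟨x, hP.syl.le hx.1⟩ : Ns (A ⊔ B)), ⟨y, hP.syl.le hy.1⟩⁆, by
      rw [SetLike.mem_coe, MonoidHom.mem_ker, map_commutatorElement,
        commutatorElement_eq_one_iff_mul_comm, mul_comm], rfl⟩)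
    hsX (Comp.Tw.of_sq s2) (SG2.inv_h1 s2) (fun k l hk hl k1 l1 => by
      have kM := hP.syl.le hk.1
      have lM := hP.syl.le hl.1
      have q : ∀ {x} (hx : x ∈ Ns (A ⊔ B)), x * x = 1 → δ ⟨x, hx⟩ * δ ⟨x, hx⟩ = 1 := fun hx e => by
        rw [← map_mul, ← map_one δ]; exact congrArg δ (Subtype.ext e)
      have k3 := q kM (Comp.conj_sq s2 k)
      have l3 := q lM (Comp.conj_sq s2 l)
      refine (mT (mul_mem kM lM)).2 ((map_mul δ ⟨_, kM⟩ ⟨_, lM⟩).trans ?_)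
      rw [inv_uniq (mt (mT kM).2 k1) k3 (mt (mT lM).2 l1) l3, l3])
    (Comp.Tw.of_sq hφ.sq).isPGroup (zpowers_le.2 hX) (zpowers_le.2 (mem_C1.2 c))
  have vM := hP.syl.le h1.1
  have v2 := Comp.conj_sq s2 k
  have e := (mT vM).1 h2
  have vn : k * s * k⁻¹ ∈ Ns A := by_contra fun hn => hφ.ha ((d2 ⟨_, vM⟩ hn v2).symm.trans e)
  rw [d1 ⟨_, vM⟩ vn] at e
  have sS : s ∈ U ⊔ V ⊔ P := mem_sup_right hs
  have key : ∀ x ∈ U ⊔ V ⊔ P, x ∉ Ns A → x * x = 1 → ∀ l, l * x * l⁻¹ ∈ U ⊔ V ⊔ P →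
      l * x * l⁻¹ ∈ Ns A → θ (l * x * l⁻¹) ≠ 1 → η (l * x * l⁻¹) ≠ 1 → False :=
    fun x hx x1 x2 l a1 a2 a3 a4 => by
      obtain ⟨φ', hφ', j, -, e'⟩ := h.ph_of hP a1 (Comp.conj_sq x2 l) a2 a3 a4
      rw [h.ph_uniq hP hφ hφ'] at e'
      have e2 : (j * l)⁻¹ * φ * (j * l)⁻¹⁻¹ = x := by rw [← e']; group
      exact x1 (e2 ▸ (h.iso hP hφ (e2.symm ▸ hx)).1)
  by_cases h4 : θ (k * s * k⁻¹) = 1
  · have h5 : η (k * s * k⁻¹) = 1 := by rwa [h4, one_mul] at e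
    have m := (h3 (conj_mem_cj.2 (mem_zpowers φ))).1
    obtain ⟨i1, i2, i3⟩ := h.iso hP hφ m
    refine key (s * φ) (mul_mem sS (mem_sup_right hφ.mem))
      (fun e => hsw ((mul_mem_cancel_right hA).1 e))
      (by rw [mul_assoc, ← mul_assoc φ, c.eq, mul_assoc, hφ.sq, mul_one, s2]) k ?_ ?_ ?_ ?_ <;>
      rw [← conj_mul]
    · exact mul_mem h1.1 m
    · exact mul_mem vn i1
    · rwa [h.fa.mul _ vn _ i1, h4, one_mul]
    · rwa [h.fb.mul _ (h.NB vM vn) _ (h.NB (hP.syl.le m) i1), h5, one_mul]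
  · exact key s sS hsw s2 k h1.1 vn h4 fun h5 => h4 (by rwa [h5, mul_one] at e)

end CP

end Cfsg.Lib.SPW
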